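import Groth.Agent.AlgSpQC.Conv
import Groth.Agent.AlgSp.NoethFib
import Mathlib.Algebra.Module.FinitePresentation
import Mathlib.RingTheory.Noetherian.Basic

/-!
# Finite type and finitely presented modules on affine objects
-/

universe u

open CategoryTheory CategoryTheory.Limits AlgebraicGeometry Opposite TensorProduct

set_option backward.isDefEq.respectTransparency false
set_option autoImplicit false

namespace Groth.Agent.AlgSpQC

open _root_.AlgSp

variable {S : Scheme.{u}} {X : Sp S} {M : ModEt X}

/-- Finitely many elements in a span lie in the span of finitely many generators. -/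
theorem exists_finset_span_image {R L α : Type*} [Semiring R] [AddCommMonoid L] [Module R L] (f : α → L)
    (B : Finset L) (h : ∀ b ∈ B, b ∈ Submodule.span R (Set.range f)) :
    ∃ G : Finset α, Submodule.span R (B : Set L) ≤ Submodule.span R (f '' (G : Set α)) := by
  classical
  have hb : ∀ b ∈ B, ∃ G : Finset α, b ∈ Submodule.span R (f '' (G : Set α)) := fun b hb => by
    obtain ⟨T, hT, hbT⟩ := Submodule.mem_span_finite_of_mem_span (h b hb)
    rw [← Set.image_univ] at hT
    obtain ⟨G, -, rfl⟩ := Finset.subset_set_image_iff.1 hT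
    exact ⟨G, by rwa [Finset.coe_image] at hbT⟩
  choose! G hG using hb
  refine ⟨B.biUnion G, Submodule.span_le.2 fun b hb => Submodule.span_mono (Set.image_mono ?_) (hG b hb)⟩
  exact Finset.subset_biUnion_of_mem G hb

theorem bc_congr_tmq {A W : Type u} [CommRing A] [CommRing W] [Algebra A W] {N : Type*} [AddCommGroup N]
    [Module A N] {L : Type*} [AddCommGroup L] [Module W L] (φ : N →+ L)
    (hφ : ∀ a n, φ (a • n) = algebraMap A W a • φ n) {I : Type*} (s : I → N)
    (hs : Function.Surjective (Finsupp.linearCombination A s)) (c : I →₀ W) :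
    bc φ hφ (TensorProduct.AlgebraTensorModule.congr (LinearEquiv.refl W W)
      (LinearMap.quotKerEquivOfSurjective (Finsupp.linearCombination A s) hs)
      (tmq W (LinearMap.ker (Finsupp.linearCombination A s)) c)) = Finsupp.linearCombination W (φ ∘ s) c := by
  induction c using Finsupp.induction_linear with
  | zero => simp
  | add x y hx hy => simp only [map_add, hx, hy]
  | single i r => simp [tmq, LinearMap.quotKerEquivOfSurjective, smul_tmul']

/-- Injectivity of a base change transfers to relations between generators. -/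
theorem mem_span_of_bc {A W : Type u} [CommRing A] [CommRing W] [Algebra A W] {N : Type*} [AddCommGroup N]
    [Module A N] {L : Type*} [AddCommGroup L] [Module W L] (φ : N →+ L)
    (hφ : ∀ a n, φ (a • n) = algebraMap A W a • φ n) (hb : Function.Injective (bc φ hφ)) {I : Type*} (s : I → N)
    (hs : Function.Surjective (Finsupp.linearCombination A s)) (c : I →₀ W)
    (hc : Finsupp.linearCombination W (φ ∘ s) c = 0) :
    c ∈ Submodule.span W
      (cmap (algebraMap A W) '' (LinearMap.ker (Finsupp.linearCombination A s) : Set (I →₀ A))) :=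
  (tmq_eq_zero_iff W _ c).1 ((TensorProduct.AlgebraTensorModule.congr (LinearEquiv.refl W W)
    (LinearMap.quotKerEquivOfSurjective (Finsupp.linearCombination A s) hs)).injective (hb (by
      rw [bc_congr_tmq φ hφ s hs c, hc, map_zero, map_zero])))

/-- Membership in a submodule of sections over an affine object is local. -/
theorem mem_of_local [M.IsQuasicoherent] {E : EtOver X} [IsAffine E.obj.left.left]
    (P : Submodule (gr E) (sectModEt M E)) {m : sectModEt M E} {T : Sieve E} (hT : T ∈ etTop X E)
    (h : ∀ (V : EtOver X) (f : V ⟶ E), T f →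
      rs M f m ∈ Submodule.span (gr V) (rs M f '' (P : Set (sectModEt M E)))) : m ∈ P := by
  obtain ⟨κ, _, V, f, hV, hTf, hf⟩ := exists_affine_family hT
  let _ : ∀ k, Algebra (gr E) (gr (V k)) := fun k => (gm (f k)).toAlgebra
  have : ∀ k, Module.Flat (gr E) (gr (V k)) := fun k => have := hV k; flat_gm (f k)
  refine (Submodule.Quotient.mk_eq_zero P).1
    (eq_zero_of_jointly (fun k => gr (V k)) (exists_prime_comap f hV hf) _ fun k => ?_)
  have := hV k
  have hb := (isBC_iff (A := gr E) (rs M (f k)) (rs_smul (f k))).1 (bc_of_isQuasicoherent (f k))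
  let Φ := (bc (rs M (f k)) (rs_smul (f k))).comp (P.subtype.baseChange (gr (V k)))
  have hle : Submodule.span (gr (V k)) (rs M (f k) '' (P : Set (sectModEt M E))) ≤ LinearMap.range Φ := by
    refine Submodule.span_le.2 ?_
    rintro _ ⟨x, hx, rfl⟩
    exact ⟨(1 : gr (V k)) ⊗ₜ ⟨x, hx⟩, by simp [Φ]⟩
  obtain ⟨z, hz⟩ := hle (h _ _ (hTf k))
  have e : P.subtype.baseChange (gr (V k)) z = (1 : gr (V k)) ⊗ₜ[gr E] m := hb.1 (by
    refine hz.trans ?_
    simp)
  have e2 := congrArg (P.mkQ.baseChange (gr (V k))) e
  rw [← LinearMap.comp_apply, ← LinearMap.baseChange_comp, LinearMap.baseChange_tmul] at e2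
  rw [show P.mkQ.comp P.subtype = 0 from LinearMap.ext fun x => (Submodule.Quotient.mk_eq_zero P).2 x.2,
    LinearMap.baseChange_zero, LinearMap.zero_apply] at e2
  exact e2.symm

/-- Generators of the sections over an affine object present the module. -/
theorem pres_of_generators [M.IsQuasicoherent] {E : EtOver X} [IsAffine E.obj.left.left] {I : Type (u + 1)}
    {s : I → sectModEt M E} (hs : Submodule.span (gr E) (Set.range s) = ⊤) : Pres s := by
  have hsurj : Function.Surjective (lc s) :=
    LinearMap.range_eq_top.1 ((Finsupp.range_linearCombination (gr E)).trans hs)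
  refine ⟨fun E' g m => ?_, fun E' g c hc => ?_⟩
  · obtain ⟨T, hT, h⟩ := (pres_id M E).gen E' g m
    refine ⟨T, hT, fun V f hf => Submodule.span_le.2 ?_ (h V f hf)⟩
    rintro _ ⟨x, rfl⟩
    obtain ⟨c, rfl⟩ := hsurj x
    rw [SetLike.mem_coe, sr, id_eq, rs_lc]
    exact Finsupp.mem_span_range_iff_exists_finsupp.2 ⟨_, (Finsupp.linearCombination_apply _ _).symm⟩
  · obtain ⟨T, hT, hT'⟩ := exists_affine_sieve E'
    refine ⟨T, hT, fun V h' hh => ?_⟩
    obtain ⟨W, a, b, hW, rfl⟩ := hT' V h' hh
    let _ := (gm (b ≫ g)).toAlgebra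
    have hb := (isBC_iff (A := gr E) (rs M (b ≫ g)) (rs_smul (b ≫ g))).1 (bc_of_isQuasicoherent (b ≫ g))
    have hcW : lc (sr (b ≫ g) s) (cmap (gm b) c) = 0 := by
      rw [← sr_sr, ← rs_lc, hc, map_zero]
    have h0 := mem_span_of_bc (A := gr E) (rs M (b ≫ g)) (rs_smul (b ≫ g)) hb.1 s hsurj (cmap (gm b) c) hcW
    have := cmap_mem_span (gm (b ≫ g)) (gm a) (gm ((a ≫ b) ≫ g)) (fun x => by rw [Category.assoc, gm_comp]) h0
    rwa [cmap_cmap (gm b) (gm a) (gm (a ≫ b)) (fun x => gm_comp b a x)] at this

/-- Finiteness of sections over affine objects is local. -/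
theorem finite_of_cover [M.IsQuasicoherent] {E : EtOver X} [IsAffine E.obj.left.left] {κ : Type u} [Finite κ]
    {V : κ → EtOver X} (f : ∀ k, V k ⟶ E) (hV : ∀ k, IsAffine (V k).obj.left.left)
    (hf : ∀ x : E.obj.left.left, ∃ k, x ∈ Set.range (f k).hom.left.left)
    (h : ∀ k, Module.Finite (gr (V k)) (sectModEt M (V k))) : Module.Finite (gr E) (sectModEt M E) := by
  classical
  have hk : ∀ k, ∃ G : Finset (sectModEt M E),
      Submodule.span (gr (V k)) (rs M (f k) '' (G : Set (sectModEt M E))) = ⊤ := fun k => by
    obtain ⟨B, hB⟩ := (h k).fg_top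
    have := hV k
    have hmem : ∀ b, b ∈ Submodule.span (gr (V k)) (Set.range (rs M (f k))) := fun b => by
      obtain ⟨c, rfl⟩ := (bc_of_isQuasicoherent (M := M) (f k)).1 b
      exact Finsupp.mem_span_range_iff_exists_finsupp.2 ⟨c, (Finsupp.linearCombination_apply _ _).symm⟩
    obtain ⟨G, hG⟩ := exists_finset_span_image (rs M (f k)) B fun b _ => hmem b
    exact ⟨G, eq_top_iff.2 (hB ▸ hG)⟩
  choose G hG using hk
  have := Fintype.ofFinite κ
  refine ⟨⟨Finset.univ.biUnion G, eq_top_iff.2 fun m _ => ?_⟩⟩
  refine mem_of_local _ (AlgSp.ofArrows_mem_etTop V f hf) fun W g hg => ?_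
  obtain ⟨k, a, rfl⟩ := Sieve.mem_ofArrows_iff .. |>.1 hg
  rw [rs_comp]
  have hm : rs M (f k) m ∈ Submodule.span (gr (V k)) (rs M (f k) '' (G k : Set (sectModEt M E))) := by
    rw [hG k]; exact Submodule.mem_top
  generalize rs M (f k) m = n at hm
  induction hm using Submodule.span_induction with
  | mem x hx =>
    obtain ⟨y, hy, rfl⟩ := hx
    rw [← rs_comp]
    exact Submodule.subset_span ⟨y, Submodule.subset_span (Finset.mem_biUnion.2 ⟨k, Finset.mem_univ k, hy⟩), rfl⟩
  | zero => rw [map_zero]; exact Submodule.zero_mem _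
  | add x y _ _ hx hy => rw [map_add]; exact Submodule.add_mem _ hx hy
  | smul r x _ hx => rw [rs_smul]; exact Submodule.smul_mem _ _ hx

theorem fg_top_of_generators [M.IsQuasicoherent] {E₀ V : EtOver X} [IsAffine V.obj.left.left] (φ : V ⟶ E₀)
    {I : Type (u + 1)} [Finite I] (σ : I → (M.over E₀).sections) (hσ : Epi ((M.over E₀).freeHomEquiv.symm σ)) :
    Module.Finite (gr V) (sectModEt M V) := by
  refine ⟨?_⟩
  rw [show (⊤ : Submodule (gr V) (sectModEt M V)) = Submodule.span (gr V) (Set.range (sr φ fun r => topSec (σ r)))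
    from (eq_top_iff.2 fun m _ => ?_).symm]
  · exact Submodule.fg_span (Set.finite_range _)
  obtain ⟨T, hT, h⟩ := exists_sieve_generators σ hσ (Over.mk φ) m
  refine mem_of_local _ hT fun W g hg => Submodule.span_le.2 ?_ (h W g hg)
  rintro _ ⟨r, rfl⟩
  exact Submodule.subset_span ⟨_, Submodule.subset_span ⟨r, rfl⟩, (rs_comp φ g _).symm⟩

/-- Sections of a finite type quasi-coherent module over an affine object are finite. -/
theorem finite_sections [M.IsQuasicoherent] [M.IsFiniteType] (E : EtOver X) [IsAffine E.obj.left.left] :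
    Module.Finite (gr E) (sectModEt M E) := by
  obtain ⟨σ, hσ⟩ := SheafOfModules.IsFiniteType.exists_localGeneratorsData (M := M)
  obtain ⟨κ, _, V, f, hV, hTf, hf⟩ := exists_affine_family (σ.coversTop E)
  refine finite_of_cover f hV hf fun k => ?_
  have := hV k
  have h := (Sieve.mem_ofObjects_iff ..).1 (hTf k)
  revert h
  refine fun ⟨i, ⟨φ⟩⟩ => ?_
  have : Finite (σ.generators i).I := (hσ.isFiniteType i).finite
  exact fg_top_of_generators φ (σ.generators i).s (σ.generators i).epi

theorem exists_finite_generators {E : EtOver X} [Module.Finite (gr E) (sectModEt M E)] :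
    ∃ (n : ℕ) (s : ULift.{u + 1} (Fin n) → sectModEt M E), Submodule.span (gr E) (Set.range s) = ⊤ := by
  obtain ⟨n, s, hs⟩ := Module.Finite.exists_fin (R := gr E) (M := sectModEt M E)
  exact ⟨n, fun i => s i.down, by rw [← hs]; congr 1; ext x; simp [ULift.exists]⟩

/-- Local generators indexed by all affine objects. -/
noncomputable def genData (n : {V : EtOver X // IsAffine V.obj.left.left} → ℕ)
    (s : ∀ i, ULift.{u + 1} (Fin (n i)) → sectModEt M i.1)
    (he : ∀ i : {V : EtOver X // IsAffine V.obj.left.left},
      Epi ((M.over i.1).freeHomEquiv.symm fun r => secOf (s i r))) :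
    M.LocalGeneratorsData where
  I := {V : EtOver X // IsAffine V.obj.left.left}
  X i := i.1
  coversTop := coversTop_affine
  generators i :=
    { I := ULift.{u + 1} (Fin (n i))
      s := fun r => secOf (s i r)
      epi := he i }

theorem isFiniteType_genData (n : {V : EtOver X // IsAffine V.obj.left.left} → ℕ)
    (s : ∀ i, ULift.{u + 1} (Fin (n i)) → sectModEt M i.1)
    (he : ∀ i : {V : EtOver X // IsAffine V.obj.left.left},
      Epi ((M.over i.1).freeHomEquiv.symm fun r => secOf (s i r))) :
    (genData n s he).IsFiniteType := by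
  constructor
  intro i
  constructor
  exact inferInstanceAs (Finite (ULift.{u + 1} (Fin (n i))))

/-- Presentations on all affine objects. -/
noncomputable def qData (P : ∀ i : {V : EtOver X // IsAffine V.obj.left.left}, (M.over i.1).Presentation) :
    M.QuasicoherentData where
  I := {V : EtOver X // IsAffine V.obj.left.left}
  X i := i.1
  coversTop := coversTop_affine
  presentation := P

/-- A quasi-coherent module with finite sections over affine objects is of finite type. -/
theorem isFiniteType_of_finite [M.IsQuasicoherent] (h : ∀ (E : EtOver X), IsAffine E.obj.left.left →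
    Module.Finite (gr E) (sectModEt M E)) : M.IsFiniteType := by
  choose n s hs using fun i : {V : EtOver X // IsAffine V.obj.left.left} =>
    (have := h i.1 i.2; exists_finite_generators (M := M) (E := i.1))
  constructor
  exact ⟨genData n s fun i => epi_secOf (s i) (have := i.2; (pres_of_generators (hs i)).gen),
    isFiniteType_genData n s _⟩

theorem finitePresentation_of_pres_data {V : EtOver X} [IsAffine V.obj.left.left] {I κ : Type (u + 1)} [Finite I]
    [Finite κ] (h : ∃ t : I → sectModEt M V, Pres t ∧
      ∃ C : κ → (I →₀ gr V), LinearMap.ker (lc t) = Submodule.span (gr V) (Set.range C)) :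
    Module.FinitePresentation (gr V) (sectModEt M V) := by
  obtain ⟨t, ht, C, hC⟩ := h
  have hsurj : Function.Surjective (lc t) := ht.exists_lc_eq
  exact Module.finitePresentation_of_surjective (lc t) hsurj (hC ▸ Submodule.fg_span (Set.finite_range C))

theorem finitePresentation_chart {E₀ V : EtOver X} [IsAffine V.obj.left.left] (φ : V ⟶ E₀)
    (P : (M.over E₀).Presentation) (hP : P.IsFinite) : Module.FinitePresentation (gr V) (sectModEt M V) := by
  have : Finite P.generators.I := hP.isFiniteType_generators.finite
  have : Finite P.relations.I := hP.isFiniteType_relations.finite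
  exact finitePresentation_of_pres_data (exists_pres_of_presentation P φ)

theorem exists_finset_relSpan {E V : EtOver X} [IsAffine V.obj.left.left]
    [Module.FinitePresentation (gr V) (sectModEt M V)] {I : Type (u + 1)} [Finite I] {s : I → sectModEt M E}
    (hP : Pres s) (f : V ⟶ E) :
    ∃ G : Finset (LinearMap.ker (lc s)),
      relSpan f s ≤ Submodule.span (gr V) ((fun c : LinearMap.ker (lc s) => cmap (gm f) (c : I →₀ gr E)) '' (G : Set (LinearMap.ker (lc s)))) := by
  have hfg : (LinearMap.ker (lc (sr f s))).FG :=
    Module.FinitePresentation.fg_ker _ fun m => hP.exists_lc_eq' f m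
  have hker : LinearMap.ker (lc (sr f s)) = relSpan f s :=
    le_antisymm (fun c hc => hP.mem_relSpan f hc) fun c hc => lc_eq_zero_of_mem_relSpan f s hc
  obtain ⟨B, hB⟩ := hker ▸ hfg
  obtain ⟨G, hG⟩ := exists_finset_span_image (fun c : LinearMap.ker (lc s) => cmap (gm f) (c : _ →₀ gr E)) B
    fun b hb => by
      refine Submodule.span_mono ?_ (hB ▸ Submodule.subset_span hb : b ∈ relSpan f s)
      rintro _ ⟨c, hc, rfl⟩
      exact ⟨⟨c, hc⟩, rfl⟩
  exact ⟨G, hB ▸ hG⟩

/-- Sections of a finitely presented module over an affine object are finitely presented. -/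
theorem finitePresentation_sections [M.IsFinitePresentation] (E : EtOver X) [IsAffine E.obj.left.left] :
    Module.FinitePresentation (gr E) (sectModEt M E) := by
  classical
  have := finite_sections (M := M) E
  obtain ⟨n, s, hs⟩ := exists_finite_generators (M := M) (E := E)
  have hsurj : Function.Surjective (lc s) :=
    LinearMap.range_eq_top.1 ((Finsupp.range_linearCombination (gr E)).trans hs)
  refine Module.finitePresentation_of_surjective (lc s) hsurj ?_
  obtain ⟨q, hq⟩ := SheafOfModules.IsFinitePresentation.exists_quasicoherentData M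
  obtain ⟨κ, _, V, f, hV, hTf, hf⟩ := exists_affine_family (q.coversTop E)
  have hP := pres_of_generators (M := M) hs
  have hk : ∀ k, ∃ G : Finset (LinearMap.ker (lc s)),
      relSpan (f k) s ≤ Submodule.span (gr (V k)) ((fun c : LinearMap.ker (lc s) => cmap (gm (f k)) (c : _ →₀ gr E)) '' (G : Set (LinearMap.ker (lc s)))) :=
    fun k => by
      have := hV k
      have h := (Sieve.mem_ofObjects_iff ..).1 (hTf k)
      revert h
      refine fun ⟨i, ⟨φ⟩⟩ => ?_
      have := finitePresentation_chart φ (q.presentation i) (hq.isFinite_presentation i)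
      exact exists_finset_relSpan hP (f k)
  choose G hG using hk
  have := Fintype.ofFinite κ
  refine ⟨(Finset.univ.biUnion G).image Subtype.val, le_antisymm (Submodule.span_le.2 ?_) fun c hc => ?_⟩
  · intro x hx
    obtain ⟨y, -, rfl⟩ := Finset.mem_image.1 hx
    exact y.2
  · have := mem_span_of_local (𝟙 E) (((Finset.univ.biUnion G).image Subtype.val : Finset _) : Set _)
      (c := c) (AlgSp.ofArrows_mem_etTop V f hf) fun W g hg => by
        obtain ⟨k, a, rfl⟩ := Sieve.mem_ofArrows_iff .. |>.1 hg
        rw [← cmap_cmap (gm (f k)) (gm a) (gm (a ≫ f k)) (fun x => gm_comp (f k) a x)]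
        refine cmap_mem_span (gm (f k)) (gm a) (gm ((a ≫ f k) ≫ 𝟙 E)) (fun x => gm_comp (f k) a x) ?_
        refine Submodule.span_mono ?_ (hG k (Submodule.subset_span ⟨c, hc, rfl⟩))
        rintro _ ⟨y, hy, rfl⟩
        exact ⟨y, Finset.mem_image.2 ⟨y, Finset.mem_biUnion.2 ⟨k, Finset.mem_univ k, hy⟩, rfl⟩, rfl⟩
    rwa [show cmap (gm (𝟙 E)) = (id : (ULift.{u + 1} (Fin n) →₀ gr E) → _) from
      funext fun x => Finsupp.ext fun i => rfl, Set.image_id] at this

/-- A quasi-coherent module with finitely presented sections over affine objects is finitely presented. -/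
theorem isFinitePresentation_of_finitePresentation [M.IsQuasicoherent]
    (h : ∀ (E : EtOver X), IsAffine E.obj.left.left → Module.FinitePresentation (gr E) (sectModEt M E)) :
    M.IsFinitePresentation := by
  have key : ∀ i : {V : EtOver X // IsAffine V.obj.left.left}, ∃ P : (M.over i.1).Presentation, P.IsFinite :=
    fun i => by
      have := i.2
      have := h i.1 i.2
      obtain ⟨n, s, hs⟩ := exists_finite_generators (M := M) (E := i.1)
      have hfg : (LinearMap.ker (lc s)).FG := Module.FinitePresentation.fg_ker _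
        (LinearMap.range_eq_top.1 ((Finsupp.range_linearCombination (gr i.1)).trans hs))
      obtain ⟨m, C, hC⟩ := Submodule.fg_iff_exists_fin_generating_family.1 hfg
      have hC' : LinearMap.ker (lc s) =
          Submodule.span (gr i.1) (Set.range fun r : ULift.{u + 1} (Fin m) => C r.down) := by
        rw [← hC]; congr 1; ext x; simp [ULift.exists]
      have h₁ : (presentationOfPres (pres_of_generators hs) _ hC').generators.IsFiniteType :=
        ⟨inferInstanceAs (Finite (ULift.{u + 1} (Fin n)))⟩
      have h₂ : (presentationOfPres (pres_of_generators hs) _ hC').relations.IsFiniteType :=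
        ⟨inferInstanceAs (Finite (ULift.{u + 1} (Fin m)))⟩
      exact ⟨presentationOfPres (pres_of_generators hs) _ hC', { }⟩
  choose P hP using key
  constructor
  refine ⟨qData P, ?_⟩
  constructor
  exact hP

theorem isNoetherianRing_gr {X : Space S} (hX : IsLocNoethSp X.obj) (E : EtOver X.obj)
    [IsAffine E.obj.left.left] : IsNoetherianRing (gr E) := by
  have := Groth.Agent.AlgSp.isLocallyNoetherian_of_etale_chart E.obj.hom E.property hX
  exact IsLocallyNoetherian.component_noetherian ⟨⊤, isAffineOpen_top _⟩

end Groth.Agent.AlgSpQC
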