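import Groth.Agent.AlgSpQC.Conv
import Groth.Agent.AlgSpQC.Finite
import Groth.Prelude.Def_AlgSpOX2
import Groth.Prelude.Def_AlgSp3
import Mathlib.AlgebraicGeometry.Morphisms.Finite

/-!
# Direct images along affine and finite representable morphisms
-/

universe u

open CategoryTheory CategoryTheory.Limits AlgebraicGeometry Opposite TensorProduct

set_option backward.isDefEq.respectTransparency false
set_option backward.isDefEq.respectTransparency.types false
set_option autoImplicit false

namespace Groth.Agent.AlgSpQC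

open _root_.AlgSp

variable {S : Scheme.{u}} {X Y : Sp S} {f : X ⟶ Y} (hf : Representable f)

/-- The base change of a chart. -/
noncomputable abbrev bcO (E : EtOver Y) : EtOver X := (EtOver.bc hf).obj E

/-- The base change of a map of charts. -/
noncomputable abbrev bcM {E E' : EtOver Y} (g : E' ⟶ E) : bcO hf E' ⟶ bcO hf E := (EtOver.bc hf).map g

/-- Pullback of functions to the base change of a chart. -/
noncomputable abbrev gπ (E : EtOver Y) : gr E →+* gr (bcO hf E) := (EtOver.bcπ hf E).left.appTop.hom

theorem gπ_gm {E E' : EtOver Y} (g : E' ⟶ E) (a : gr E) :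
    gπ hf E' (gm g a) = gm (bcM hf g) (gπ hf E a) := by
  change ((EtOver.bcπ hf E').left ≫ g.hom.left.left).appTop a =
    ((EtOver.bcMap hf g).hom.left.left ≫ (EtOver.bcπ hf E).left).appTop a
  rw [← (EtOver.isPullback_bcMap_left hf g).w]

/-- The sections of a direct image. -/
noncomputable def pushSect (M : ModEt X) (E : EtOver Y) :
    sectModEt ((pushModEt hf).obj M) E ≃+ sectModEt M (bcO hf E) := AddEquiv.refl _

theorem pushSect_smul (M : ModEt X) (E : EtOver Y) (a : gr E) (s : sectModEt ((pushModEt hf).obj M) E) :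
    pushSect hf M E (a • s) = gπ hf E a • pushSect hf M E s :=
  rfl

theorem pushSect_rs (M : ModEt X) {E E' : EtOver Y} (g : E' ⟶ E) (s : sectModEt ((pushModEt hf).obj M) E) :
    pushSect hf M E' (rs ((pushModEt hf).obj M) g s) = rs M (bcM hf g) (pushSect hf M E s) :=
  rfl

variable {hf}

theorem isAffine_bcO_and_map (haff : IsAffineMor f) (E : EtOver Y) [IsAffine E.obj.left.left] :
    IsAffine (bcO hf E).obj.left.left := by
  obtain ⟨W, i, fst, h, hW⟩ := haff (Z := E.obj.left) ‹_› E.obj.hom
  let e := (EtOver.isPullback_bcObj hf E).isoIsPullback _ _ h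
  let e' := (yon S).preimageIso e
  have : IsAffine ((Over.forget S).obj W) := hW
  exact IsAffine.of_isIso ((Over.forget S).mapIso e').hom

theorem isAffineMor_of_isFiniteMor (hfin : IsFiniteMor f) : IsAffineMor f := fun Z hZ g => by
  obtain ⟨W, i, fst, h, hW, -⟩ := hfin hZ g
  exact ⟨W, i, fst, h, hW⟩

theorem finite_gπ (hfin : IsFiniteMor f) (E : EtOver Y) [IsAffine E.obj.left.left] :
    (gπ hf E).Finite := by
  obtain ⟨W, i, fst, h, hW, hi⟩ := hfin (Z := E.obj.left) ‹_› E.obj.hom
  let e := (EtOver.isPullback_bcObj hf E).isoIsPullback _ _ h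
  let e' := (yon S).preimageIso e
  have he : e'.hom ≫ i = EtOver.bcπ hf E := (yon S).map_injective (by
    rw [Functor.map_comp, Functor.preimageIso_hom, Functor.map_preimage]
    exact IsPullback.isoIsPullback_hom_snd _ _ _ _)
  have : IsIso e'.hom.left := ((Over.forget S).mapIso e').isIso_hom
  have hπ : IsFinite (EtOver.bcπ hf E).left := by
    rw [← he, Over.comp_left]
    infer_instance
  have := isAffine_bcO_and_map (hf := hf) (isAffineMor_of_isFiniteMor hfin) E
  exact (HasAffineProperty.iff_of_isAffine (P := @IsFinite)).1 hπ |>.2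

theorem isPushout_bc (haff : IsAffineMor f) {E E' : EtOver Y} [IsAffine E.obj.left.left]
    [IsAffine E'.obj.left.left] (g : E' ⟶ E) :
    IsPushout (CommRingCat.ofHom (gm g)) (CommRingCat.ofHom (gπ hf E)) (CommRingCat.ofHom (gπ hf E'))
      (CommRingCat.ofHom (gm (bcM hf g))) := by
  have : IsAffine (EtOver.bcObj hf E).obj.left.left := isAffine_bcO_and_map (hf := hf) haff E
  have : IsAffine (EtOver.bcObj hf E').obj.left.left := isAffine_bcO_and_map (hf := hf) haff E'
  have sq := (EtOver.isPullback_bcMap_left hf g).flip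
  have sq' : IsPullback (Scheme.Spec.map (EtOver.bcπ hf E').left.appTop.op)
      (Scheme.Spec.map (EtOver.bcMap hf g).hom.left.left.appTop.op)
      (Scheme.Spec.map g.hom.left.left.appTop.op)
      (Scheme.Spec.map (EtOver.bcπ hf E).left.appTop.op) :=
    sq.of_iso (Scheme.isoSpec _) (Scheme.isoSpec _) (Scheme.isoSpec _) (Scheme.isoSpec _)
      (Scheme.isoSpec_hom_naturality _).symm (Scheme.isoSpec_hom_naturality _).symm
      (Scheme.isoSpec_hom_naturality _).symm (Scheme.isoSpec_hom_naturality _).symm
  exact (IsPullback.of_map_of_faithful Scheme.Spec sq').unop.flip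

/-- Direct images of quasi-coherent modules along affine morphisms are quasi-coherent. -/
theorem isQuasicoherent_push_affine (haff : IsAffineMor f) (M : ModEt X) [M.IsQuasicoherent] :
    ((pushModEt hf).obj M).IsQuasicoherent := by
  refine isQuasicoherent_of_bc fun E E' g hE hE' => ?_
  have := isAffine_bcO_and_map (hf := hf) haff E
  have := isAffine_bcO_and_map (hf := hf) haff E'
  let _ : Algebra (gr E) (gr E') := (gm g).toAlgebra
  let _ : Algebra (gr E) (gr (bcO hf E)) := (gπ hf E).toAlgebra
  let _ : Algebra (gr E') (gr (bcO hf E')) := (gπ hf E').toAlgebra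
  let _ : Algebra (gr (bcO hf E)) (gr (bcO hf E')) := (gm (bcM hf g)).toAlgebra
  let _ : Algebra (gr E) (gr (bcO hf E')) := ((gπ hf E').comp (gm g)).toAlgebra
  have : IsScalarTower (gr E) (gr E') (gr (bcO hf E')) := .of_algebraMap_eq fun _ => rfl
  have : IsScalarTower (gr E) (gr (bcO hf E)) (gr (bcO hf E')) := .of_algebraMap_eq (gπ_gm hf g)
  have : Algebra.IsPushout (gr E) (gr E') (gr (bcO hf E)) (gr (bcO hf E')) :=
    CommRingCat.isPushout_iff_isPushout.1 (isPushout_bc haff g)
  let _ : Module (gr E) (sectModEt M (bcO hf E)) := Module.compHom _ (gπ hf E)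
  have : IsScalarTower (gr E) (gr (bcO hf E)) (sectModEt M (bcO hf E)) := .of_algebraMap_smul fun _ _ => rfl
  have hb := bcPush_bijective (A := gr E) (B := gr E') (rs M (bcM hf g)) (rs_smul (bcM hf g))
    (bc_of_isQuasicoherent (bcM hf g))
  refine (isBC_iff (A := gr E) (rs ((pushModEt hf).obj M) g) (rs_smul g)).2 ?_
  let e : sectModEt ((pushModEt hf).obj M) E ≃ₗ[gr E] sectModEt M (bcO hf E) :=
    (pushSect hf M E).toLinearEquiv (pushSect_smul hf M E)
  have key : ∀ x, pushSect hf M E' (bc (rs ((pushModEt hf).obj M) g) (rs_smul g) x) =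
      bcPush (A := gr E) (rs M (bcM hf g)) (rs_smul (bcM hf g))
        (TensorProduct.AlgebraTensorModule.congr (LinearEquiv.refl (gr E') (gr E')) e x) := fun x => by
    induction x using TensorProduct.induction_on with
    | zero => simp only [map_zero]
    | add x y hx hy => simp only [map_add, hx, hy]
    | tmul r s =>
      rw [bc_tmul, pushSect_smul, pushSect_rs, TensorProduct.AlgebraTensorModule.congr_tmul, bcPush_tmul]
      rfl
  rw [show (bc (rs ((pushModEt hf).obj M) g) (rs_smul g) : _ → sectModEt ((pushModEt hf).obj M) E') =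
      (pushSect hf M E').symm ∘ bcPush (A := gr E) (rs M (bcM hf g)) (rs_smul (bcM hf g)) ∘
        TensorProduct.AlgebraTensorModule.congr (LinearEquiv.refl (gr E') (gr E')) e from
    funext fun x => ((pushSect hf M E').eq_symm_apply).2 (key x)]
  exact (pushSect hf M E').symm.bijective.comp
    (hb.comp (TensorProduct.AlgebraTensorModule.congr (LinearEquiv.refl (gr E') (gr E')) e).bijective)

/-- Sections of direct images along finite morphisms are finite. -/
theorem finite_push (hfin : IsFiniteMor f) (M : ModEt X) [M.IsQuasicoherent] [M.IsFiniteType] (E : EtOver Y)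
    [IsAffine E.obj.left.left] : Module.Finite (gr E) (sectModEt ((pushModEt hf).obj M) E) := by
  have := isAffine_bcO_and_map (hf := hf) (isAffineMor_of_isFiniteMor hfin) E
  have := finite_sections (M := M) (bcO hf E)
  let _ : Algebra (gr E) (gr (bcO hf E)) := (gπ hf E).toAlgebra
  have : Module.Finite (gr E) (gr (bcO hf E)) := finite_gπ hfin E
  let _ : Module (gr E) (sectModEt M (bcO hf E)) := Module.compHom _ (gπ hf E)
  have : IsScalarTower (gr E) (gr (bcO hf E)) (sectModEt M (bcO hf E)) := .of_algebraMap_smul fun _ _ => rfl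
  have : Module.Finite (gr E) (sectModEt M (bcO hf E)) := Module.Finite.trans (gr (bcO hf E)) _
  exact Module.Finite.equiv ((pushSect hf M E).toLinearEquiv (pushSect_smul hf M E)).symm

end Groth.Agent.AlgSpQC
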