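import Groth.Agent.AlgSpQC.Chain
import Groth.Agent.AlgSpD.StalkSupport

/-!
# Vanishing near a geometric point
-/

universe u

open CategoryTheory CategoryTheory.Limits AlgebraicGeometry Opposite TopologicalSpace

set_option backward.isDefEq.respectTransparency false
set_option autoImplicit false

namespace Groth.Agent.AlgSpQC

open _root_.AlgSp

variable {S : Scheme.{u}} {X : Space S} {M N : ModEt X.obj} (q : FieldPt X.obj) (hq : q.IsGeometric)

/-- The germ of a section at a lift of a geometric point. -/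
noncomputable def germM (M : ModEt X.obj) {E : EtOver X.obj} (l : (FieldPt.liftsTo q).obj E) (m : sectModEt M E) :
    ↥((AlgSpD.stalkPoint X q hq).presheafFiber.obj ((toAbEt X.obj).obj M).obj) :=
  (AlgSpD.stalkPoint X q hq).toPresheafFiber E l ((toAbEt X.obj).obj M).obj m

theorem germM_zero (M : ModEt X.obj) {E : EtOver X.obj} (l : (FieldPt.liftsTo q).obj E) :
    germM q hq M l (0 : sectModEt M E) = 0 :=
  map_zero ((AlgSpD.stalkPoint X q hq).toPresheafFiber E l ((toAbEt X.obj).obj M).obj).hom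

theorem map_germM (φ : M ⟶ N) {E : EtOver X.obj} (l : (FieldPt.liftsTo q).obj E) (m : sectModEt M E) :
    (stalkEtFunctor AddCommGrpCat.{u + 1} q).map ((toAbEt X.obj).map φ) (germM q hq M l m) =
      germM q hq N l (hs φ E m) :=
  (AlgSpD.stalkPoint X q hq).toPresheafFiber_naturality_apply ((toAbEt X.obj).map φ).hom E l m

theorem germM_eq_zero_of_hs (φ : M ⟶ N) [Mono φ] {E : EtOver X.obj} (l : (FieldPt.liftsTo q).obj E)
    (m : sectModEt M E) (h : germM q hq N l (hs φ E m) = 0) : germM q hq M l m = 0 := by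
  refine (AlgSpD.mem_vanishLocus_iff ((toAbEt X.obj).obj M) m q hq l).2 ?_
  obtain ⟨V, g, hg, hr⟩ := by
    simpa only [AlgSpD.vanishLocus, ← SetLike.mem_coe, Opens.coe_mk, Set.mem_iUnion] using
      (AlgSpD.mem_vanishLocus_iff ((toAbEt X.obj).obj N) (hs φ E m) q hq l).1 h
  refine Set.mem_iUnion.2 ⟨V, Set.mem_iUnion.2 ⟨g, Set.mem_iUnion.2 ⟨?_, hr⟩⟩⟩
  exact hs_injective φ V (((hs_rs φ g m).trans hg).trans (map_zero _).symm)

/-- A monomorphism on the stalk kills the germs of the kernel. -/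
theorem germM_kernel (φ : M ⟶ N)
    (hinj : Mono ((stalkEtFunctor AddCommGrpCat.{u + 1} q).map ((toAbEt X.obj).map φ)))
    {E : EtOver X.obj} (l : (FieldPt.liftsTo q).obj E) (m : sectModEt (kernel φ) E) :
    germM q hq (kernel φ) l m = 0 := by
  refine germM_eq_zero_of_hs q hq (kernel.ι φ) l m ((AddCommGrpCat.mono_iff_injective _).1 hinj ?_)
  rw [map_germM, ← hs_comp, kernel.condition]
  exact (germM_zero q hq N l).trans (map_zero _).symm

/-- An epimorphism on the stalk kills the germs of the cokernel. -/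
theorem germM_cokernel (φ : M ⟶ N)
    (hsur : Function.Surjective ((stalkEtFunctor AddCommGrpCat.{u + 1} q).map ((toAbEt X.obj).map φ)))
    {E : EtOver X.obj} (l : (FieldPt.liftsTo q).obj E) (n : sectModEt N E) :
    germM q hq (cokernel φ) l (hs (cokernel.π φ) E n) = 0 := by
  obtain ⟨t, ht⟩ := hsur (germM q hq N l n)
  obtain ⟨U, l', s, rfl⟩ := (AlgSpD.stalkPoint X q hq).toPresheafFiber_jointly_surjective t
  refine ((map_germM q hq (cokernel.π φ) l n).symm.trans
    ((congrArg _ (ht.symm.trans (map_germM q hq φ l' s))).trans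
      ((map_germM q hq (cokernel.π φ) l' (hs φ U s)).trans ?_)))
  rw [← hs_comp, cokernel.condition]
  exact germM_zero q hq _ l'

include hq in
theorem exists_affine_lift :
    ∃ (E : EtOver X.obj) (_ : IsAffine E.obj.left.left), Nonempty ((FieldPt.liftsTo q).obj E) := by
  obtain ⟨E, hE, u, hu⟩ := exists_affine_etOver X (Points.mk q)
  obtain ⟨c, hc, -⟩ := AlgSpB.exists_lift_geometric E.property q hq u hu
  exact ⟨E, hE, ⟨⟨c, hc⟩⟩⟩

omit hq in
theorem exists_affine_subObj {E : EtOver X.obj} {U : Set E.obj.left.left} (hU : IsOpen U) {u : E.obj.left.left}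
    (hu : u ∈ U) : ∃ (E' : EtOver X.obj) (g : E' ⟶ E), IsAffine E'.obj.left.left ∧
      Set.range g.hom.left.left ⊆ U ∧ u ∈ Set.range g.hom.left.left := by
  obtain ⟨_, ⟨O, hO : IsAffineOpen O, rfl⟩, hmem, hsub⟩ :=
    E.obj.left.left.isBasis_affineOpens.exists_subset_of_mem_open hu hU
  let O' : Over S := Over.mk (Scheme.Opens.ι O ≫ E.obj.left.hom)
  let j : O' ⟶ E.obj.left := Over.homMk (Scheme.Opens.ι O) rfl
  exact ⟨EtOver.mk ((yon S).map j ≫ E.obj.hom) ((RepWith _).comp_mem _ _ ((repWith_yon_map_iff _ j).2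
    (inferInstanceAs (Etale (Scheme.Opens.ι O)))) E.property), EtOver.homMk j rfl, hO,
    (Scheme.Opens.range_ι O).trans_subset hsub, ⟨⟨_, hmem⟩, rfl⟩⟩

omit hq in
theorem sections_eq_zero_of_map [M.IsQuasicoherent] {E E' : EtOver X.obj} [IsAffine E.obj.left.left]
    [IsAffine E'.obj.left.left] (g : E' ⟶ E) (h : ∀ x : sectModEt M E, rs M g x = 0) (m : sectModEt M E') :
    m = 0 := by
  have hm := rs_mem_span_range g m
  induction hm using Submodule.span_induction with
  | mem x hx => obtain ⟨e, rfl⟩ := hx; exact h e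
  | zero => rfl
  | add x y _ _ hx hy => rw [hx, hy, add_zero]
  | smul r x _ hx => rw [hx, smul_zero]

omit hq in
theorem rs_eq_zero_of_generators {E E' : EtOver X.obj} (g : E' ⟶ E) (s : Set (sectModEt M E))
    (hs' : Submodule.span (gr E) s = ⊤) (h : ∀ x ∈ s, rs M g x = 0) (x : sectModEt M E) : rs M g x = 0 := by
  have hx : x ∈ Submodule.span (gr E) s := hs' ▸ Submodule.mem_top
  induction hx using Submodule.span_induction with
  | mem x hx => exact h x hx
  | zero => exact map_zero _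
  | add x y _ _ hx hy => rw [map_add, hx, hy, add_zero]
  | smul r x _ hx => rw [rs_smul, hx, smul_zero]

omit hq in
theorem sections_eq_zero_of_cover [M.IsQuasicoherent] {E' : EtOver X.obj} [IsAffine E'.obj.left.left]
    (hz : ∀ m : sectModEt M E', m = 0) (W : EtOver X.obj)
    (hW : Set.range (Points.ofPt W.obj.hom) ⊆ Set.range (Points.ofPt E'.obj.hom)) (m : sectModEt M W) :
    m = 0 := by
  refine eq_of_sieve (T := ⟨fun V h => ∃ (W' : EtOver X.obj) (a : V ⟶ W') (b : W' ⟶ W) (_ : W' ⟶ E'),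
    IsAffine W'.obj.left.left ∧ a ≫ b = h, fun {_ _} h ⟨W', a, b, c, hW', e⟩ k =>
      ⟨W', k ≫ a, b, c, hW', by rw [Category.assoc, e]⟩⟩) ?_ fun V f hf => ?_
  · refine (AlgSpD.mem_etTop_iff _).2 fun w => ?_
    obtain ⟨u, hu⟩ := hW ⟨w, rfl⟩
    obtain ⟨W', a, b, w', hW', hw', -⟩ := exists_common_affine hu.symm
    exact ⟨W', a, ⟨W', 𝟙 _, a, b, hW', Category.id_comp _⟩, w', hw'⟩
  · obtain ⟨W', a, b, c, hW', rfl⟩ := hf
    rw [rs_comp, sections_eq_zero_of_map c (fun x => (congrArg (rs M c) (hz x)).trans (map_zero _)) (rs M b m),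
      map_zero, map_zero]

include hq in
/-- If finitely generated sections have vanishing germs at a geometric point, the sections vanish nearby. -/
theorem exists_open_of_germs [M.IsQuasicoherent] {E : EtOver X.obj} [IsAffine E.obj.left.left]
    [Module.Finite (gr E) (sectModEt M E)] (l : (FieldPt.liftsTo q).obj E)
    (h : ∀ m : sectModEt M E, germM q hq M l m = 0) :
    ∃ O : Set (Points X.obj), IsOpen O ∧ Points.mk q ∈ O ∧
      ∀ (W : EtOver X.obj), Set.range (Points.ofPt W.obj.hom) ⊆ O → ∀ m : sectModEt M W, m = 0 := by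
  obtain ⟨s, hs'⟩ := Module.Finite.fg_top (R := gr E) (M := sectModEt M E)
  obtain ⟨E', g, hE', hg, w, hw⟩ := exists_affine_subObj
    (U := ⋂ m ∈ s, (AlgSpD.vanishLocus ((toAbEt X.obj).obj M) (U := E) m : Set _))
    (isOpen_biInter_finset fun m _ => (AlgSpD.vanishLocus _ _).isOpen)
    (u := l.1.left (IsLocalRing.closedPoint q.K))
    (by simp only [Set.mem_iInter]; exact fun m _ => (AlgSpD.mem_vanishLocus_iff ((toAbEt X.obj).obj M) m q hq l).1 (h m))
  refine ⟨Set.range (Points.ofPt E'.obj.hom), (AlgSpB.isOpenMap_ofPt E'.property).isOpen_range, ⟨w, ?_⟩,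
    fun W hW m => sections_eq_zero_of_cover (sections_eq_zero_of_map g
      (rs_eq_zero_of_generators g _ hs' fun x hx => ?_)) W hW m⟩
  · rw [← AlgSpD.ofPt_lift q l, ← hw, ← EtOver.w g, AlgSpB.ofPt_map_comp]
  · exact (AlgSpD.map_eq_zero_iff_subset ((toAbEt X.obj).obj M) (U := E) x g).2
      (hg.trans fun z hz => Set.mem_iInter₂.1 hz x hx)

include hq in
/-- Injectivity of a stalk map spreads to a neighbourhood. -/
theorem exists_open_injective (hX : IsLocNoethSp X.obj) [M.IsFinitePresentation] [N.IsQuasicoherent] (φ : M ⟶ N)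
    (hinj : Mono ((stalkEtFunctor AddCommGrpCat.{u + 1} q).map ((toAbEt X.obj).map φ))) :
    ∃ O : Set (Points X.obj), IsOpen O ∧ Points.mk q ∈ O ∧
      ∀ (W : EtOver X.obj), Set.range (Points.ofPt W.obj.hom) ⊆ O → Function.Injective (hs φ W) := by
  obtain ⟨E, hE, ⟨l⟩⟩ := exists_affine_lift q hq
  have := isQuasicoherent_kernel φ
  have := isNoetherianRing_gr hX E
  have := finite_sections (M := M) E
  have : Module.Finite (gr E) (sectModEt (kernel φ) E) :=
    Module.Finite.of_injective (hs (kernel.ι φ) E) (hs_injective _ E)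
  obtain ⟨O, hO, hq', hz⟩ := exists_open_of_germs q hq l (germM_kernel q hq φ hinj l)
  refine ⟨O, hO, hq', fun W hW => (injective_iff_map_eq_zero _).2 fun m hm => ?_⟩
  obtain ⟨y, rfl⟩ := exists_kernel_hs φ m hm
  rw [hz W hW y, map_zero]

include hq in
/-- Surjectivity of a stalk map spreads to a neighbourhood. -/
theorem exists_open_locallySurjective [M.IsQuasicoherent] [N.IsFinitePresentation] (φ : M ⟶ N)
    (hsur : Function.Surjective ((stalkEtFunctor AddCommGrpCat.{u + 1} q).map ((toAbEt X.obj).map φ))) :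
    ∃ O : Set (Points X.obj), IsOpen O ∧ Points.mk q ∈ O ∧
      ∀ (W : EtOver X.obj), Set.range (Points.ofPt W.obj.hom) ⊆ O → ∀ n : sectModEt N W,
        ∃ J ∈ etTop X.obj W, ∀ (V : EtOver X.obj) (f : V ⟶ W), J f → ∃ m, hs φ V m = rs N f n := by
  obtain ⟨E, hE, ⟨l⟩⟩ := exists_affine_lift q hq
  have := isQuasicoherent_cokernel φ
  have := finite_sections (M := N) E
  have : Module.Finite (gr E) (sectModEt (cokernel φ) E) :=
    Module.Finite.of_surjective (hs (cokernel.π φ) E) (hs_surjective _ E)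
  obtain ⟨O, hO, hq', hz⟩ := exists_open_of_germs (M := cokernel φ) q hq l fun c => by
    obtain ⟨n, rfl⟩ := hs_surjective (cokernel.π φ) E c
    exact germM_cokernel q hq φ hsur l n
  exact ⟨O, hO, hq', fun W hW n => exists_local_preimage
    (ShortComplex.mk φ (cokernel.π φ) (cokernel.condition φ))
    (ShortComplex.exact_of_g_is_cokernel _ (cokernelIsCokernel φ)) n (hz W hW _)⟩

omit hq in
theorem range_ofPt_subset {E V : EtOver X.obj} (f : V ⟶ E) :
    Set.range (Points.ofPt V.obj.hom) ⊆ Set.range (Points.ofPt E.obj.hom) := by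
  rintro _ ⟨v, rfl⟩
  exact ⟨f.hom.left.left v, by rw [← AlgSpB.ofPt_map_comp, EtOver.w f]⟩

omit hq in
/-- A locally liftable section lifts if the map is injective on everything smaller. -/
theorem exists_preimage_of_local (φ : M ⟶ N) {E : EtOver X.obj} (n : sectModEt N E)
    (hinj : ∀ (V : EtOver X.obj) (_ : V ⟶ E), Function.Injective (hs φ V))
    (h : ∃ J ∈ etTop X.obj E, ∀ (V : EtOver X.obj) (f : V ⟶ E), J f → ∃ m, hs φ V m = rs N f n) :
    ∃ m, hs φ E m = n := by
  obtain ⟨J, hJ, hJ'⟩ := h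
  obtain hJc := (AlgSpD.mem_etTop_iff _).1 hJ
  choose V f hf w hw using hJc
  choose y hy using fun k => hJ' (V k) (f k) (hf k)
  obtain ⟨x, hx⟩ := exists_glue_sections f (fun e => ⟨e, w e, hw e⟩) y fun i j Z gi gj hg => by
    refine hinj Z (gi ≫ f i) ?_
    rw [hs_rs, hs_rs, hy, hy, ← rs_comp, ← rs_comp, hg]
  refine ⟨x, eq_of_sieve hJ fun U g hg => ?_⟩
  obtain ⟨m, hm⟩ := hJ' U g hg
  rw [← hm, ← hs_rs]
  refine congrArg _ (eq_of_sieve (T := Sieve.pullback g (Sieve.ofArrows V f))
    ((etTop X.obj).pullback_stable g (AlgSp.ofArrows_mem_etTop V f fun e => ⟨e, w e, hw e⟩)) fun Z a ha => ?_)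
  obtain ⟨k, b, hb⟩ := Sieve.ofArrows.exists ha
  refine hinj Z (a ≫ g) ?_
  rw [← rs_comp, hb, rs_comp, hx, hs_rs, hy, hs_rs, hm, ← rs_comp, ← rs_comp, hb]

end Groth.Agent.AlgSpQC
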