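import Groth.Agent.AlgSpQC.Cart
import Groth.Agent.AlgSpQC.WeakAssEtale
import Groth.Agent.AlgSpD.DecentCrit
import Mathlib.AlgebraicGeometry.Morphisms.Etale

/-!
# Weakly associated points on charts
-/

universe u

open CategoryTheory CategoryTheory.Limits AlgebraicGeometry Opposite TensorProduct

set_option backward.isDefEq.respectTransparency false
set_option autoImplicit false

namespace Groth.Agent.AlgSpQC

open _root_.AlgSp

variable {S : Scheme.{u}} {X : Sp S} {M : ModEt X}

theorem primeAtPt_comap {U V : Scheme.{u}} (f : U ⟶ V) (u : U) :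
    (primeAtPt U u).comap f.appTop.hom = primeAtPt V (f u) := by
  ext a
  simp only [primeAtPt, Ideal.mem_comap]
  have e : U.presheaf.germ ⊤ u trivial (f.appTop a) = f.stalkMap u (V.presheaf.germ ⊤ (f u) trivial a) :=
    (Scheme.Hom.germ_stalkMap_apply f ⊤ u trivial a).symm
  rw [e, IsLocalRing.mem_maximalIdeal, IsLocalRing.mem_maximalIdeal, mem_nonunits_iff, mem_nonunits_iff,
    not_iff_not]
  exact isUnit_map_iff (f.stalkMap u).hom _

theorem primeAtPt_eq {U : Scheme.{u}} [IsAffine U] (u : U) :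
    primeAtPt U u = ((isAffineOpen_top U).primeIdealOf ⟨u, trivial⟩).asIdeal := by
  rw [IsAffineOpen.primeIdealOf_eq_map_closedPoint]
  rfl

theorem exists_primeAtPt_eq {U : Scheme.{u}} [IsAffine U] (p : Ideal Γ(U, ⊤)) [hp : p.IsPrime] :
    ∃ u, primeAtPt U u = p := by
  let h := isAffineOpen_top U
  refine ⟨h.fromSpec ⟨p, hp⟩, ?_⟩
  rw [primeAtPt_eq]
  have : h.primeIdealOf ⟨h.fromSpec ⟨p, hp⟩, trivial⟩ = ⟨p, hp⟩ :=
    h.fromSpec.isOpenEmbedding.injective (by rw [h.fromSpec_primeIdealOf])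
  rw [this]

theorem annSect_eq_annihilator {E : EtOver X} (s : sectModEt M E) :
    annSect s = (Submodule.span (gr E) {s}).annihilator := by
  ext a
  rw [mem_annSect_iff, WeakAss.mem_ann, smul_def]

theorem isWeakAssOn_iff (E : EtOver X) [IsAffine E.obj.left.left] (u : E.obj.left.left) :
    IsWeakAssOn M E u ↔ primeAtPt E.obj.left.left u ∈ FlatCA.weakAss (gr E) (sectModEt M E) :=
  exists_congr fun s => by rw [annSect_eq_annihilator]

theorem etale_gm {E E' : EtOver X} [IsAffine E.obj.left.left] [IsAffine E'.obj.left.left] (g : E' ⟶ E) :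
    (gm g).Etale :=
  (HasRingHomProperty.iff_of_isAffine (P := @Etale)).1 (EtOver.etale_left g)

/-- Weak associatedness of a point does not change along morphisms of affine charts. -/
theorem isWeakAssOn_iff_of_hom [M.IsQuasicoherent] {E E' : EtOver X} [IsAffine E.obj.left.left]
    [IsAffine E'.obj.left.left] (g : E' ⟶ E) (u : E'.obj.left.left) :
    IsWeakAssOn M E' u ↔ IsWeakAssOn M E (g.hom.left.left u) := by
  rw [isWeakAssOn_iff, isWeakAssOn_iff]
  let _ := (gm g).toAlgebra
  have : Algebra.Etale (gr E) (gr E') := etale_gm g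
  have : (primeAtPt E'.obj.left.left u).LiesOver (primeAtPt E.obj.left.left (g.hom.left.left u)) :=
    ⟨(primeAtPt_comap g.hom.left.left u).symm⟩
  rw [← WeakAssEtale.mem_iff_of_etale (M := sectModEt M E) (primeAtPt E.obj.left.left (g.hom.left.left u))
    (primeAtPt E'.obj.left.left u)]
  let e := LinearEquiv.ofBijective _ ((isBC_iff (A := gr E) (rs M g) (rs_smul g)).1 (bc_of_pres (pres_id M E) g))
  exact ⟨fun h => WeakAss.weakAss_mono (f := e.symm.toLinearMap) e.symm.injective h,
    fun h => WeakAss.weakAss_mono (f := e.toLinearMap) e.injective h⟩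

/-- Two affine charts through a point have a common affine refinement. -/
theorem exists_common_affine {E E' : EtOver X} {u : E.obj.left.left} {u' : E'.obj.left.left}
    (h : Points.ofPt E.obj.hom u = Points.ofPt E'.obj.hom u') :
    ∃ (W : EtOver X) (a : W ⟶ E) (b : W ⟶ E') (w : W.obj.left.left), IsAffine W.obj.left.left ∧
      a.hom.left.left w = u ∧ b.hom.left.left w = u' := by
  obtain ⟨W, p, q, w, hpull, hp, -, hwp, hwq⟩ := AlgSpD.exists_common_chart E.property E'.property h
  obtain ⟨_, ⟨O, hO : IsAffineOpen O, rfl⟩, hmem, -⟩ :=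
    W.left.isBasis_affineOpens.exists_subset_of_mem_open (Set.mem_univ w) isOpen_univ
  let O' : Over S := Over.mk (Scheme.Opens.ι O ≫ W.hom)
  let j : O' ⟶ W := Over.homMk (Scheme.Opens.ι O) rfl
  let W' : EtOver X := EtOver.mk ((yon S).map j ≫ (yon S).map p ≫ E.obj.hom)
    ((RepWith _).comp_mem _ _ ((repWith_yon_map_iff _ j).2 (inferInstanceAs (Etale (Scheme.Opens.ι O))))
      ((RepWith _).comp_mem _ _ ((repWith_yon_map_iff _ p).2 hp) E.property))
  refine ⟨W', EtOver.homMk (j ≫ p) (by rw [Functor.map_comp, Category.assoc]; rfl),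
    EtOver.homMk (j ≫ q) (by rw [Functor.map_comp, Category.assoc, ← hpull.w]; rfl),
    (⟨w, hmem⟩ : ↥O), hO, hwp, hwq⟩

theorem isWeakAssOn_iff_of_eq [M.IsQuasicoherent] {E E' : EtOver X} [IsAffine E.obj.left.left]
    [IsAffine E'.obj.left.left] {u : E.obj.left.left} {u' : E'.obj.left.left}
    (h : Points.ofPt E.obj.hom u = Points.ofPt E'.obj.hom u') :
    IsWeakAssOn M E u ↔ IsWeakAssOn M E' u' := by
  obtain ⟨W, a, b, w, hW, rfl, rfl⟩ := exists_common_affine h
  rw [← isWeakAssOn_iff_of_hom a w, ← isWeakAssOn_iff_of_hom b w]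

theorem exists_affine_etOver (X : Space S) (x : Points X.obj) :
    ∃ (E : EtOver X.obj) (_ : IsAffine E.obj.left.left) (u : E.obj.left.left), Points.ofPt E.obj.hom u = x := by
  obtain ⟨U, a, u, hU, ha, hu⟩ := AlgSpD.exists_affine_chart X x
  exact ⟨EtOver.mk a ha, hU, u, hu⟩

/-- On affine charts weak associatedness can be tested anywhere. -/
theorem mem_weakAssEt_iff [M.IsQuasicoherent] (E : EtOver X) [IsAffine E.obj.left.left] (u : E.obj.left.left) :
    Points.ofPt E.obj.hom u ∈ WeakAssEt M ↔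
      primeAtPt E.obj.left.left u ∈ FlatCA.weakAss (gr E) (sectModEt M E) := by
  rw [← isWeakAssOn_iff]
  refine ⟨fun ⟨E', hE', u', hu', h⟩ => (isWeakAssOn_iff_of_eq hu').1 h, fun h => ⟨E, ‹_›, u, rfl, h⟩⟩

/-- A nonzero section over an affine object has a weakly associated point where it does not vanish. -/
theorem exists_mem_weakAssEt {E : EtOver X} [IsAffine E.obj.left.left] {m : sectModEt M E} (hm : m ≠ 0) :
    ∃ u : E.obj.left.left, Points.ofPt E.obj.hom u ∈ WeakAssEt M ∧ annSect m ≤ primeAtPt E.obj.left.left u := by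
  have htop : annSect m ≠ ⊤ := fun h => hm (by
    have : (1 : gr E) ∈ annSect m := h ▸ Submodule.mem_top
    rw [mem_annSect_iff, map_one, one_smul] at this
    exact this)
  obtain ⟨p, hp⟩ := Ideal.nonempty_minimalPrimes htop
  have := hp.1.1
  obtain ⟨u, rfl⟩ := exists_primeAtPt_eq p
  exact ⟨u, ⟨E, ‹_›, u, rfl, m, hp⟩, hp.1.2⟩

theorem eq_zero_of_affine {E : EtOver X} {m : sectModEt M E}
    (h : ∀ (W : EtOver X) (b : W ⟶ E), IsAffine W.obj.left.left → rs M b m = 0) : m = 0 := by
  obtain ⟨T, hT, hT'⟩ := exists_affine_sieve E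
  refine eq_of_sieve hT fun V f hf => ?_
  obtain ⟨W, a, b, hW, rfl⟩ := hT' V f hf
  rw [rs_comp, h W b hW, map_zero, map_zero]

theorem isZero_of_sections (h : ∀ (E : EtOver X), IsAffine E.obj.left.left → ∀ m : sectModEt M E, m = 0) :
    IsZero M := by
  rw [IsZero.iff_id_eq_zero]
  refine SheafOfModules.hom_ext (PresheafOfModules.hom_ext fun E => ModuleCat.hom_ext (LinearMap.ext fun m => ?_))
  exact (eq_zero_of_affine (E := E.unop) (m := m) fun W b hW => h W hW _).trans rfl

end Groth.Agent.AlgSpQC
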