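import Groth.Agent.AlgSpQC.Push
import Groth.Agent.AlgSpQC.WeakAss
import Groth.Agent.AlgSpQC.Finite
import Groth.Agent.WeakAssPush.Basic
import Groth.Agent.CartDiv.WeakPts

/-!
# Weakly associated points of direct images
-/

universe u

open CategoryTheory CategoryTheory.Limits AlgebraicGeometry Opposite TensorProduct

set_option backward.isDefEq.respectTransparency false
set_option backward.isDefEq.respectTransparency.types false
set_option autoImplicit false

namespace Groth.Agent.AlgSpQC

open _root_.AlgSp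

variable {S : Scheme.{u}} {X Y : Space S} {f : X ⟶ Y} {hf : Representable f.hom} {M : ModEt X.obj}

theorem weakAss_push_eq (E : EtOver Y.obj) :
    letI : Module (gr E) (sectModEt M (bcO hf E)) := Module.compHom _ (gπ hf E)
    FlatCA.weakAss (gr E) (sectModEt ((pushModEt hf).obj M) E) =
      FlatCA.weakAss (gr E) (sectModEt M (bcO hf E)) := by
  let _ : Module (gr E) (sectModEt M (bcO hf E)) := Module.compHom _ (gπ hf E)
  let e : sectModEt ((pushModEt hf).obj M) E ≃ₗ[gr E] sectModEt M (bcO hf E) :=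
    (pushSect hf M E).toLinearEquiv (pushSect_smul hf M E)
  exact (WeakAss.weakAss_mono (f := e.toLinearMap) e.injective).antisymm
    (WeakAss.weakAss_mono (f := e.symm.toLinearMap) e.symm.injective)

theorem weakAssEt_push_subset (haff : IsAffineMor f.hom) [M.IsQuasicoherent] :
    WeakAssEt ((pushModEt hf).obj M) ⊆ Points.map f.hom '' WeakAssEt M := by
  rintro y ⟨E, hE, u, rfl, h⟩
  rw [isWeakAssOn_iff, weakAss_push_eq] at h
  have := isAffine_bcO_and_map (hf := hf) haff E
  let _ : Algebra (gr E) (gr (bcO hf E)) := (gπ hf E).toAlgebra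
  let _ : Module (gr E) (sectModEt M (bcO hf E)) := Module.compHom _ (gπ hf E)
  have : IsScalarTower (gr E) (gr (bcO hf E)) (sectModEt M (bcO hf E)) := .of_algebraMap_smul fun _ _ => rfl
  obtain ⟨q, hq, hqu⟩ := WeakAssPush.weakAss_subset_image (B := gr (bcO hf E)) h
  have := WeakAss.isPrime_of_mem hq
  obtain ⟨w, rfl⟩ := exists_primeAtPt_eq q
  have hw : (EtOver.bcπ hf E).left w = u := by
    refine primeAtPt_inj ?_
    rw [← hqu]
    exact (primeAtPt_comap (EtOver.bcπ hf E).left w).symm
  refine ⟨_, ⟨bcO hf E, ‹_›, w, rfl, (isWeakAssOn_iff _ w).2 hq⟩, ?_⟩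
  rw [Points.map_ofPt]
  refine (congrArg (fun k => Points.ofPt k w) (EtOver.isPullback_bcObj hf E).w).trans ?_
  rw [AlgSpB.ofPt_map_comp]
  exact congrArg (Points.ofPt E.obj.hom) hw
where
  primeAtPt_inj {U : Scheme.{u}} [IsAffine U] {a b : U} (h : primeAtPt U a = primeAtPt U b) : a = b := by
    rw [primeAtPt_eq, primeAtPt_eq] at h
    have := (isAffineOpen_top U).fromSpec_primeIdealOf ⟨a, trivial⟩
    rw [PrimeSpectrum.ext h, IsAffineOpen.fromSpec_primeIdealOf] at this
    exact this.symm

theorem exists_lift_point (x : Points X.obj) (E : EtOver Y.obj) (u : E.obj.left.left)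
    (h : Points.ofPt E.obj.hom u = Points.map f.hom x) :
    ∃ w : (bcO hf E).obj.left.left, Points.ofPt (bcO hf E).obj.hom w = x ∧ (EtOver.bcπ hf E).left w = u := by
  obtain ⟨p, hp₁, hp₂⟩ := AlgSpB.exists_of_isPullback (EtOver.isPullback_bcObj hf E) x
    (Points.ofScheme E.obj.left u) (by rw [← h, Points.ofPt_eq_map_ofScheme])
  refine ⟨Points.toScheme (EtOver.bcObj hf E).obj.left p, ?_, ?_⟩
  · refine (Points.ofPt_eq_map_ofScheme _ _).trans ?_
    exact (congrArg (Points.map _) (Points.ofScheme_toScheme _ p)).trans hp₁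
  · refine (Points.toScheme_ofPt _ _).symm.trans ?_
    refine (congrArg (Points.toScheme E.obj.left) ((Points.ofPt_eq_map_ofScheme _ _).trans
      ((congrArg (Points.map _) (Points.ofScheme_toScheme _ p)).trans hp₂))).trans ?_
    exact Points.toScheme_ofScheme _ _

theorem weakAssEt_push_superset (haff : IsAffineMor f.hom) [M.IsQuasicoherent]
    [((pushModEt hf).obj M).IsQuasicoherent]
    (hgo : ∀ (E : EtOver Y.obj) [IsAffine E.obj.left.left],
      letI := (gπ hf E).toAlgebra
      letI : Module (gr E) (sectModEt M (bcO hf E)) := Module.compHom _ (gπ hf E)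
      ∀ q ∈ FlatCA.weakAss (gr (bcO hf E)) (sectModEt M (bcO hf E)),
        q.comap (gπ hf E) ∈ FlatCA.weakAss (gr E) (sectModEt M (bcO hf E))) :
    Points.map f.hom '' WeakAssEt M ⊆ WeakAssEt ((pushModEt hf).obj M) := by
  rintro _ ⟨x, hx, rfl⟩
  obtain ⟨E, hE, u, hu⟩ := exists_affine_etOver Y (Points.map f.hom x)
  have := isAffine_bcO_and_map (hf := hf) haff E
  obtain ⟨w, hw, hwu⟩ := exists_lift_point (hf := hf) x E u hu
  rw [← hw, mem_weakAssEt_iff] at hx
  rw [← hu, mem_weakAssEt_iff, weakAss_push_eq, ← hwu, ← primeAtPt_comap (EtOver.bcπ hf E).left w]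
  exact hgo E _ hx

theorem weakAssEt_push_finite (hfin : IsFiniteMor f.hom) [M.IsQuasicoherent]
    [((pushModEt hf).obj M).IsQuasicoherent] :
    WeakAssEt ((pushModEt hf).obj M) = Points.map f.hom '' WeakAssEt M := by
  refine (weakAssEt_push_subset (isAffineMor_of_isFiniteMor hfin)).antisymm
    (weakAssEt_push_superset (isAffineMor_of_isFiniteMor hfin) fun E _ => ?_)
  let _ : Algebra (gr E) (gr (bcO hf E)) := (gπ hf E).toAlgebra
  have : Module.Finite (gr E) (gr (bcO hf E)) := finite_gπ hfin E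
  let _ : Module (gr E) (sectModEt M (bcO hf E)) := Module.compHom _ (gπ hf E)
  have : IsScalarTower (gr E) (gr (bcO hf E)) (sectModEt M (bcO hf E)) := .of_algebraMap_smul fun _ _ => rfl
  exact fun q hq => CartDiv.WeakPts.comap_mem_weakAss_of_finite hq

theorem weakAssEt_push_noetherian (haff : IsAffineMor f.hom) (hX : IsLocNoethSp X.obj) [M.IsQuasicoherent]
    [((pushModEt hf).obj M).IsQuasicoherent] :
    WeakAssEt ((pushModEt hf).obj M) = Points.map f.hom '' WeakAssEt M := by
  refine (weakAssEt_push_subset haff).antisymm (weakAssEt_push_superset haff fun E _ => ?_)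
  have := isAffine_bcO_and_map (hf := hf) haff E
  have := isNoetherianRing_gr hX (bcO hf E)
  let _ : Algebra (gr E) (gr (bcO hf E)) := (gπ hf E).toAlgebra
  let _ : Module (gr E) (sectModEt M (bcO hf E)) := Module.compHom _ (gπ hf E)
  have : IsScalarTower (gr E) (gr (bcO hf E)) (sectModEt M (bcO hf E)) := .of_algebraMap_smul fun _ _ => rfl
  exact fun q hq => WeakAssPush.image_weakAss_subset ⟨q, hq, rfl⟩

end Groth.Agent.AlgSpQC
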