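import Groth.Agent.AlgSpQC.SupportSplit
import Groth.Agent.AlgSpQC.WeakAssPushEt
import Groth.Agent.AlgSp.IdealEtLib

/-!
# Modules supported on a closed subspace are killed by a power of its ideal
-/

universe u

open CategoryTheory CategoryTheory.Limits AlgebraicGeometry Opposite TopologicalSpace

set_option backward.isDefEq.respectTransparency false
set_option backward.isDefEq.respectTransparency.types false
set_option autoImplicit false

namespace Groth.Agent.AlgSpQC

open _root_.AlgSp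

variable {S : Scheme.{u}} {X Z : Space S} {M : ModEt X.obj}

theorem mem_range_iff_le_primeAtPt (i : Z ⟶ X) (I : IdealEt X.obj) (hZ : IsCutOutBy I i.hom) (E : EtOver X.obj)
    (hE : IsAffine E.obj.left.left) (u : E.obj.left.left) :
    Points.ofPt E.obj.hom u ∈ Set.range (Points.map i.hom) ↔ I.ideal E hE ≤ primeAtPt E.obj.left.left u := by
  obtain ⟨hi, rfl⟩ := hZ
  have hc : IsClosedImmersion (EtOver.bcπ hi.1 E).left := hi.2 _ _ _ (hi.1.isPullback E.obj.hom)
  obtain ⟨hW, hsurj⟩ := IsClosedImmersion.isAffine_surjective_of_isAffine (EtOver.bcπ hi.1 E).left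
  have key : ∀ w : (bcO hi.1 E).obj.left.left, Points.ofPt E.obj.hom ((EtOver.bcπ hi.1 E).left w) =
      Points.map i.hom (Points.ofPt (bcO hi.1 E).obj.hom w) := fun w => by
    rw [Points.map_ofPt]
    exact ((congrArg (fun k => Points.ofPt k w) (EtOver.isPullback_bcObj hi.1 E).w).trans
      (AlgSpB.ofPt_map_comp _ _ _)).symm
  constructor
  · rintro ⟨z, hz⟩
    obtain ⟨w, -, rfl⟩ := exists_lift_point (f := i) (hf := hi.1) z E u hz.symm
    intro a ha
    rw [← primeAtPt_comap (EtOver.bcπ hi.1 E).left w, Ideal.mem_comap]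
    exact ((mem_idealOfRep_iff hi.1 E hE a).1 ha) ▸ Ideal.zero_mem _
  · intro h
    have hp : ((primeAtPt E.obj.left.left u).map (EtOver.bcπ hi.1 E).left.appTop.hom).IsPrime :=
      Ideal.map_isPrime_of_surjective hsurj h
    have : IsAffine (bcO hi.1 E).obj.left.left := hW
    obtain ⟨w, hw⟩ := exists_primeAtPt_eq (U := (bcO hi.1 E).obj.left.left) _ (hp := hp)
    refine ⟨Points.ofPt (bcO hi.1 E).obj.hom w, (key w).symm.trans (congrArg _ ?_)⟩
    refine weakAssEt_push_subset.primeAtPt_inj ?_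
    rw [← primeAtPt_comap (EtOver.bcπ hi.1 E).left w]
    refine (congrArg (Ideal.comap _) hw).trans ?_
    rw [Ideal.comap_map_of_surjective _ hsurj, sup_eq_left]
    exact h

theorem ideal_pow_le_annSect_of_hom (hI : {I : IdealEt X.obj // I.IsQCoh}) (n : ℕ) [M.IsQuasicoherent]
    {E₀ W : EtOver X.obj} [hE₀ : IsAffine E₀.obj.left.left] [hW : IsAffine W.obj.left.left] (c : W ⟶ E₀)
    (h : ∀ s : sectModEt M E₀, (hI.1 ^ n).ideal E₀ hE₀ ≤ annSect s) {a : gr W}
    (ha : a ∈ (hI.1 ^ n).ideal W hW) (x : sectModEt M W) : a • x = 0 := by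
  have hx := rs_mem_span_range c x
  have ha' : a ∈ ((hI.1.ideal E₀ hE₀) ^ n).map (gm c) := by
    rw [Ideal.map_pow]
    exact Ideal.pow_right_mono (hI.2 c hE₀ hW) n ha
  clear ha
  rw [Ideal.map, Ideal.span] at ha'
  induction hx using Submodule.span_induction with
  | zero => exact smul_zero _
  | add p q _ _ hp hq => rw [smul_add, hp, hq, add_zero]
  | smul r p _ hp => rw [smul_comm, hp, smul_zero]
  | mem x hx =>
    obtain ⟨e, rfl⟩ := hx
    induction ha' using Submodule.span_induction with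
    | zero => exact zero_smul _ _
    | add p q _ _ hp hq => rw [add_smul, hp, hq, add_zero]
    | smul r p _ hp => rw [smul_eq_mul, mul_smul, hp, smul_zero]
    | mem b hb =>
      obtain ⟨b, hb, rfl⟩ := hb
      have h0 : b • e = 0 := (mem_annSect_iff e b).1 (h e hb)
      rw [← rs_smul, h0, map_zero]

theorem exists_pow_le_annSect_chart (hN : IsLocNoethSp X.obj) [M.IsFinitePresentation] (i : Z ⟶ X)
    (I : IdealEt X.obj) (hZ : IsCutOutBy I i.hom)
    (h : ∀ x : FieldPt X.obj, x.IsGeometric → Points.mk x ∉ Set.range (Points.map i.hom) →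
      IsZero (stalkEt x ((toAbEt X.obj).obj M))) (E : EtOver X.obj) [hE : IsAffine E.obj.left.left] :
    ∃ n : ℕ, ∀ s : sectModEt M E, (I ^ n).ideal E hE ≤ annSect s := by
  classical
  have := isNoetherianRing_gr hN E
  have := finite_sections (M := M) E
  have key : ∀ (a : gr E), a ∈ I.ideal E hE → ∀ s : sectModEt M E, ∃ k : ℕ, a ^ k • s = 0 := fun a ha s => by
    refine (basicOpen_subset_vanishLocus_iff E a s).1 fun u hu => ?_
    obtain ⟨q, hq, l, rfl, hmk⟩ := AlgSpD.exists_geometric_lift X E u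
    refine (AlgSpD.mem_vanishLocus_iff ((toAbEt X.obj).obj M) (U := E) s q hq l).1
      (@Subsingleton.elim _ (AddCommGrpCat.subsingleton_of_isZero (h q hq fun hr => ?_)) _ _)
    rw [hmk, mem_range_iff_le_primeAtPt i I hZ E hE] at hr
    exact (IsLocalRing.mem_maximalIdeal _).1 (hr ha) ((Scheme.mem_basicOpen_top _ _ _).1 hu)
  have hle : I.ideal E hE ≤ (Module.annihilator (gr E) (sectModEt M E)).radical := fun a ha => by
    obtain ⟨t, ht⟩ := Module.Finite.fg_top (R := gr E) (M := sectModEt M E)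
    choose k hk using key a ha
    refine ⟨t.sup k, Module.mem_annihilator.2 fun x => ?_⟩
    have hx : x ∈ Submodule.span (gr E) (t : Set (sectModEt M E)) := ht ▸ Submodule.mem_top
    induction hx using Submodule.span_induction with
    | mem x hx =>
      rw [← Nat.sub_add_cancel (Finset.le_sup (f := k) hx), pow_add, mul_smul, hk, smul_zero]
    | zero => exact smul_zero _
    | add p q _ _ hp hq => rw [smul_add, hp, hq, add_zero]
    | smul r p _ hp => rw [smul_comm, hp, smul_zero]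
  obtain ⟨n, hn⟩ := Ideal.exists_pow_le_of_le_radical_of_fg hle (IsNoetherian.noetherian _)
  exact ⟨n, fun s a ha => (mem_annSect_iff s a).2 (Module.mem_annihilator.1 (hn ha) s)⟩

theorem exists_pow_le_annSect (hqc : IsQuasiCompactSp X.obj) (hN : IsLocNoethSp X.obj) [M.IsFinitePresentation]
    (i : Z ⟶ X) (I : IdealEt X.obj) (hI : I.IsQCoh) (hZ : IsCutOutBy I i.hom)
    (h : ∀ x : FieldPt X.obj, x.IsGeometric → Points.mk x ∉ Set.range (Points.map i.hom) →
      IsZero (stalkEt x ((toAbEt X.obj).obj M))) :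
    ∃ n : ℕ, ∀ (E : EtOver X.obj) (hE : IsAffine E.obj.left.left) (s : sectModEt M E),
      (I ^ n).ideal E hE ≤ annSect s := by
  obtain ⟨U, p, hU, hp, hsur⟩ := Groth.Agent.AlgSpEN.exists_affine_atlas X hqc
  obtain ⟨E₀, hE₀, h₀⟩ : ∃ E₀ : EtOver X.obj, IsAffine E₀.obj.left.left ∧
      ∀ x : Points X.obj, ∃ u, Points.ofPt E₀.obj.hom u = x :=
    ⟨EtOver.mk p hp, hU, fun x => AlgSpB.surjective_ofPt hsur x⟩
  obtain ⟨n, hn⟩ := exists_pow_le_annSect_chart hN i I hZ h E₀
  refine ⟨n, fun E hE s a ha => (mem_annSect_iff s a).2 ?_⟩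
  obtain ⟨T, hT, hT'⟩ := exists_cover_hom h₀ E
  refine eq_of_sieve (x := a • s) (y := 0) hT fun V f hf => ?_
  obtain ⟨W, α, β, c, hW, rfl⟩ := hT' V f hf
  rw [rs_comp, rs_smul, ideal_pow_le_annSect_of_hom ⟨I, hI⟩ n c hn
    ((I ^ n).map_le β hE hW (Ideal.mem_map_of_mem _ ha)) (rs M β s), map_zero, map_zero]

theorem isZero_stalk_of_pow_le (i : Z ⟶ X) (I : IdealEt X.obj) (hZ : IsCutOutBy I i.hom) [M.IsQuasicoherent]
    {n : ℕ} (hn : ∀ (E : EtOver X.obj) (hE : IsAffine E.obj.left.left) (s : sectModEt M E),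
      (I ^ n).ideal E hE ≤ annSect s)
    (x : FieldPt X.obj) (hx : x.IsGeometric) (hxZ : Points.mk x ∉ Set.range (Points.map i.hom)) :
    IsZero (stalkEt x ((toAbEt X.obj).obj M)) := by
  by_contra h
  obtain ⟨U, l, σ, hσ⟩ := (AlgSpD.not_isZero_stalk_iff _ x hx).1 h
  refine hσ ((AlgSpD.mem_vanishLocus_iff ((toAbEt X.obj).obj M) (U := U) σ x hx l).2 ?_)
  obtain ⟨E, g, hE, -, v, hv⟩ := exists_affine_subObj (E := U) isOpen_univ
    (Set.mem_univ (l.1.left (IsLocalRing.closedPoint x.K)))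
  have hnot : ¬ I.ideal E hE ≤ primeAtPt E.obj.left.left v := fun hle => hxZ (by
    rw [← AlgSpD.ofPt_lift x l, ← hv, ofPt_apply_hom]
    exact (mem_range_iff_le_primeAtPt i I hZ E hE v).2 hle)
  obtain ⟨a, ha, hav⟩ := SetLike.not_le_iff_exists.1 hnot
  have hv' : v ∈ AlgSpD.vanishLocus ((toAbEt X.obj).obj M) (U := E) (rs M g σ) :=
    (basicOpen_subset_vanishLocus_iff E a (rs M g σ)).2
      ⟨n, (mem_annSect_iff (rs M g σ) _).1 (hn E hE _ (Ideal.pow_mem_pow ha n))⟩
      ((Scheme.mem_basicOpen_top _ _ _).2 (by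
        by_contra hu
        exact hav ((IsLocalRing.mem_maximalIdeal _).2 hu)))
  obtain ⟨V, k, hk, w, hw⟩ := exists_rs_of_mem_vanishLocus hv'
  rw [← hv, ← hw]
  exact mem_vanishLocus_of_rs (k ≫ g) (by rw [rs_comp]; exact hk) w

end Groth.Agent.AlgSpQC
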