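import Groth.Agent.AlgSpQC.Coherent
import Groth.Agent.AlgSpQC.WeakAss
import Groth.Agent.AlgSpEN.StrataSq

/-!
# Ascending chains of quasi-coherent submodules
-/

universe u

open CategoryTheory CategoryTheory.Limits AlgebraicGeometry Opposite TensorProduct

set_option backward.isDefEq.respectTransparency false
set_option autoImplicit false

namespace Groth.Agent.AlgSpQC

open _root_.AlgSp

variable {S : Scheme.{u}} {X : Sp S} {M N : ModEt X}

/-- Maps to a chart through which all points factor cover every affine object. -/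
theorem exists_cover_hom {E₀ : EtOver X} [IsAffine E₀.obj.left.left]
    (h₀ : ∀ x : Points X, ∃ u, Points.ofPt E₀.obj.hom u = x) (W : EtOver X) :
    ∃ T ∈ etTop X W, ∀ (V : EtOver X) (h : V ⟶ W), T h →
      ∃ (W' : EtOver X) (a : V ⟶ W') (b : W' ⟶ W) (_ : W' ⟶ E₀), IsAffine W'.obj.left.left ∧ a ≫ b = h := by
  refine ⟨{ arrows := fun V h => ∃ (W' : EtOver X) (a : V ⟶ W') (b : W' ⟶ W) (_ : W' ⟶ E₀),
              IsAffine W'.obj.left.left ∧ a ≫ b = h
            downward_closed := fun {_ _} h ⟨W', a, b, c, hW, e⟩ g =>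
              ⟨W', g ≫ a, b, c, hW, by rw [Category.assoc, e]⟩ }, ?_, fun V h hh => hh⟩
  refine (Groth.Agent.AlgSpD.mem_etTop_iff _).2 fun w => ?_
  obtain ⟨u, hu⟩ := h₀ (Points.ofPt W.obj.hom w)
  obtain ⟨W', a, b, w', hW', hw', -⟩ := exists_common_affine hu.symm
  exact ⟨W', a, ⟨W', 𝟙 _, a, b, hW', Category.id_comp _⟩, w', hw'⟩

theorem isZero_of_epi_of_zero [M.IsQuasicoherent] [N.IsQuasicoherent] (π : M ⟶ N) [Epi π]
    (h : ∀ (E : EtOver X), IsAffine E.obj.left.left → ∀ m, hs π E m = 0) : IsZero N :=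
  isZero_of_sections fun E hE n => by
    obtain ⟨m, rfl⟩ := hs_surjective π E n
    exact h E hE m

/-- A monomorphism of quasi-coherent modules surjective on sections over affine objects is an isomorphism. -/
theorem isIso_of_mono_of_surjective [M.IsQuasicoherent] [N.IsQuasicoherent] (φ : M ⟶ N) [Mono φ]
    (h : ∀ (E : EtOver X), IsAffine E.obj.left.left → Function.Surjective (hs φ E)) : IsIso φ := by
  have := isQuasicoherent_cokernel φ
  have hz : IsZero (cokernel φ) := isZero_of_epi_of_zero (cokernel.π φ) fun E hE m => by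
    obtain ⟨l, rfl⟩ := h E hE m
    rw [← hs_comp, cokernel.condition]
    rfl
  have : Epi φ := Abelian.epi_of_cokernel_π_eq_zero φ (hz.eq_of_tgt _ _)
  exact isIso_of_mono_of_epi φ

theorem surjective_of_chart {E₀ : EtOver X} [IsAffine E₀.obj.left.left]
    (h₀ : ∀ x : Points X, ∃ u, Points.ofPt E₀.obj.hom u = x) [M.IsQuasicoherent] [N.IsQuasicoherent]
    (φ : M ⟶ N) (h : Function.Surjective (hs φ E₀)) (E : EtOver X) [IsAffine E.obj.left.left] :
    Function.Surjective (hs φ E) := by
  intro n
  obtain ⟨T, hT, hT'⟩ := exists_cover_hom h₀ E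
  refine LinearMap.mem_range.1 (mem_of_local (LinearMap.range (hs φ E)) hT fun V g hg => ?_)
  obtain ⟨W, a, b, c, hW, rfl⟩ := hT' V g hg
  rw [rs_comp]
  have hN := rs_mem_span_range c (rs N b n)
  have key : ∀ x : sectModEt N W, x ∈ Submodule.span (gr W) (Set.range (rs N c)) →
      rs N a x ∈ Submodule.span (gr V) (rs N (a ≫ b) '' (LinearMap.range (hs φ E) : Set (sectModEt N E))) := by
    intro x hx
    induction hx using Submodule.span_induction with
    | mem x hx =>
      obtain ⟨e, rfl⟩ := hx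
      obtain ⟨m, rfl⟩ := h e
      rw [← hs_rs]
      have hmem := rs_mem_span_range b (rs M c m)
      generalize rs M c m = y at hmem
      induction hmem using Submodule.span_induction with
      | mem y hy =>
        obtain ⟨z, rfl⟩ := hy
        refine Submodule.subset_span ⟨hs φ E z, ⟨z, rfl⟩, ?_⟩
        rw [rs_comp, hs_rs]
      | zero => rw [map_zero, map_zero]; exact Submodule.zero_mem _
      | add x y _ _ hx hy => rw [map_add, map_add]; exact Submodule.add_mem _ hx hy
      | smul r x _ hx => rw [map_smul, rs_smul]; exact Submodule.smul_mem _ _ hx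
    | zero => rw [map_zero]; exact Submodule.zero_mem _
    | add x y _ _ hx hy => rw [map_add]; exact Submodule.add_mem _ hx hy
    | smul r x _ hx => rw [rs_smul]; exact Submodule.smul_mem _ _ hx
  exact key _ hN

theorem subobject_chain_stabilizes {X : Space S} (hqc : IsQuasiCompactSp X.obj) (hN : IsLocNoethSp X.obj)
    (M : ModEt X.obj) [M.IsFinitePresentation] (N : ℕ →o Subobject M)
    (hq : ∀ n, (Subobject.underlying.obj (N n)).IsQuasicoherent) : ∃ n, ∀ m, n ≤ m → N m = N n := by
  obtain ⟨U, p, hU, hp, hsur⟩ := Groth.Agent.AlgSpEN.exists_affine_atlas X hqc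
  obtain ⟨E₀, hE₀, h₀⟩ : ∃ E₀ : EtOver X.obj, IsAffine E₀.obj.left.left ∧
      ∀ x : Points X.obj, ∃ u, Points.ofPt E₀.obj.hom u = x :=
    ⟨EtOver.mk p hp, hU, fun x => AlgSpB.surjective_ofPt hsur x⟩
  have := isNoetherianRing_gr hN E₀
  have := finite_sections (M := M) E₀
  have : _root_.IsNoetherian (gr E₀) (sectModEt M E₀) := isNoetherian_of_isNoetherianRing_of_finite _ _
  let P : ℕ →o Submodule (gr E₀) (sectModEt M E₀) :=
    ⟨fun n => LinearMap.range (hs (N n).arrow E₀), fun a b hab => by
      rintro _ ⟨x, rfl⟩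
      refine ⟨hs (Subobject.ofLE _ _ (N.monotone hab)) E₀ x, ?_⟩
      rw [← hs_comp, Subobject.ofLE_arrow]⟩
  obtain ⟨n, hn⟩ := monotone_stabilizes_iff_noetherian.2 inferInstance P
  refine ⟨n, fun m hm => le_antisymm ?_ (N.monotone hm)⟩
  let j := Subobject.ofLE _ _ (N.monotone hm)
  have hqn : (Subobject.underlying.obj (N n)).IsQuasicoherent := hq n
  have hqm : (Subobject.underlying.obj (N m)).IsQuasicoherent := hq m
  have hj : Mono j := mono_of_mono_fac (Subobject.ofLE_arrow (N.monotone hm))
  have hj0 : Function.Surjective (hs j E₀) := fun y => by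
    have : hs (N m).arrow E₀ y ∈ P n := by
      rw [hn m hm]
      exact ⟨y, rfl⟩
    obtain ⟨x, hx⟩ := this
    refine ⟨x, hs_injective (N m).arrow E₀ ?_⟩
    rw [← hs_comp, Subobject.ofLE_arrow]
    exact hx
  have : IsIso j := isIso_of_mono_of_surjective j fun E hE => surjective_of_chart h₀ j hj0 E
  exact Subobject.le_of_comm (inv j) (by rw [IsIso.inv_comp_eq, Subobject.ofLE_arrow])

end Groth.Agent.AlgSpQC
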