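import Groth.Agent.AlgSpQC.PullFinite
import Groth.Agent.AlgSpQC.WeakAss

/-!
# Modules killed by the ideal of a closed subspace
-/

universe u

open CategoryTheory CategoryTheory.Limits AlgebraicGeometry Opposite TensorProduct

set_option backward.isDefEq.respectTransparency false
set_option backward.isDefEq.respectTransparency.types false
set_option autoImplicit false

namespace Groth.Agent.AlgSpQC

open _root_.AlgSp

variable {S : Scheme.{u}}

/-- A map of quasi-coherent modules bijective on sections over affine objects is an isomorphism. -/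
theorem isIso_of_bijective_affine {X : Space S} {M N : ModEt X.obj} [M.IsQuasicoherent] [N.IsQuasicoherent]
    (φ : M ⟶ N) (h : ∀ (E : EtOver X.obj), IsAffine E.obj.left.left → Function.Bijective (hs φ E)) : IsIso φ := by
  have := isQuasicoherent_kernel φ
  have hz : IsZero (kernel φ) := isZero_of_sections fun E hE m => by
    have e : hs φ E (hs (kernel.ι φ) E m) = 0 := by
      rw [← hs_comp, kernel.condition]
      rfl
    have e' : hs (kernel.ι φ) E m = 0 := (h E hE).1 (e.trans (map_zero (hs φ E)).symm)
    exact hs_injective (kernel.ι φ) E (e'.trans (map_zero (hs (kernel.ι φ) E)).symm)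
  have : Mono φ := Preadditive.mono_of_kernel_zero (hz.eq_of_src _ _)
  exact isIso_of_mono_of_surjective φ fun E hE => (h E hE).2

variable {Z X : Space S} {i : Z.obj ⟶ X.obj} (hi : RepWith @IsClosedImmersion i)

include hi in
theorem isFiniteMor_of_closedImm : IsFiniteMor i := fun T hT g => by
  have sq := hi.1.isPullback g
  have : IsClosedImmersion (hi.1.snd g).left := hi.2 g _ _ sq
  exact ⟨_, hi.1.snd g, hi.1.fst g, sq, isAffine_of_isAffineHom (hi.1.snd g).left, inferInstance⟩

theorem surjective_gπ (E : EtOver X.obj) [IsAffine E.obj.left.left] :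
    Function.Surjective (gπ hi.1 E) := by
  have : IsClosedImmersion (EtOver.bcπ hi.1 E).left := hi.2 E.obj.hom _ _ (EtOver.isPullback_bcObj hi.1 E)
  exact ((HasAffineProperty.iff_of_isAffine (P := @IsClosedImmersion)).1 this).2

variable (I : IdealEt X.obj)

/-- Direct images are killed by the ideal of the subspace. -/
theorem annihilated_push (hI : IsCutOutBy I i) (G : ModEt Z.obj) (E : EtOver X.obj)
    (hE : IsAffine E.obj.left.left) (s : sectModEt ((pushModEt hi.1).obj G) E) : I.ideal E hE ≤ annSect s := by
  obtain ⟨hi', rfl⟩ := hI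
  intro a ha
  rw [mem_annSect_iff]
  change a • s = 0
  apply (pushSect hi.1 G E).injective
  rw [pushSect_smul, show gπ hi.1 E a = 0 from RingHom.mem_ker.1 ha, zero_smul, map_zero]

variable {F : ModEt X.obj} [F.IsQuasicoherent]

theorem bijective_hs_pullUnit (hI : IsCutOutBy I i)
    (hF : ∀ (E : EtOver X.obj) (hE : IsAffine E.obj.left.left) (s : sectModEt F E), I.ideal E hE ≤ annSect s)
    (E : EtOver X.obj) [IsAffine E.obj.left.left] : Function.Bijective (hs (pullUnit hi.1 F) E) := by
  obtain ⟨hi', rfl⟩ := hI
  have := isAffine_bcO_and_map (hf := hi.1) (isAffineMor_of_isFiniteMor (isFiniteMor_of_closedImm hi)) E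
  let h : bcO hi.1 E ⟶ bcO hi.1 E := 𝟙 _
  let e : sectModEt ((pushModEt hi.1).obj (pullQC hi.1 F)) E →+ PT F h :=
    (pullEv F h).comp (pushSect hi.1 (pullQC hi.1 F) E).toAddMonoidHom
  have he : Function.Bijective e := (bijective_pullEv h).comp (pushSect hi.1 (pullQC hi.1 F) E).bijective
  have hu : ∀ n, e (hs (pullUnit hi.1 F) E n) = tm h 1 n := fun n => by
    rw [← pullEv_unit (G := F) h n, rs_id]
    rfl
  refine (Function.Bijective.of_comp_iff' he _).1 ?_
  rw [show e ∘ hs (pullUnit hi.1 F) E = fun n => tm h 1 n from funext hu]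
  have hsurj := surjective_gπ hi E
  have hker : ∀ a, gπ hi.1 E a = 0 → ∀ n : sectModEt F E, a • n = 0 := fun a ha n =>
    (mem_annSect_iff n a).1 (hF E ‹_› n (RingHom.mem_ker.2 ha))
  choose a ha using hsurj
  have hlift : ∀ b, ∀ r, gπ hi.1 E b = r → ∀ n : sectModEt F E, a r • n = b • n := fun b r hb n => by
    rw [← sub_eq_zero, ← sub_smul]
    exact hker _ (by rw [map_sub, ha, hb, sub_self]) n
  obtain ⟨Φ, hΦ⟩ := exists_lift (G := F) (h := h) (fun r n => a r • n)
    (fun r r' n => by rw [← add_smul]; exact hlift _ _ (by rw [map_add, ha, ha]) n)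
    (fun r n n' => smul_add _ _ _) fun c r n => by
      rw [← mul_smul]
      exact hlift _ _ (by rw [map_mul, ha, mul_comm]; rfl) n
  refine Function.bijective_iff_has_inverse.2 ⟨Φ, fun n => ?_, fun x => ?_⟩
  · rw [hΦ]
    exact (hlift 1 1 (map_one _) n).trans (one_smul _ _)
  · induction x using PT.induction with
    | zero => rw [map_zero]; exact TensorProduct.tmul_zero _ (show RZ h from 1)
    | tm r n =>
      rw [hΦ]
      change tm h 1 (a r • n) = _
      rw [← tm_smul, mul_one]
      exact congrArg (fun t => tm h t n) (ha r)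
    | add x y hx hy =>
      rw [map_add]
      exact (tm_add_right 1 (Φ x) (Φ y)).trans (congrArg₂ _ hx hy)

theorem isIso_pullUnit (hI : IsCutOutBy I i)
    (hF : ∀ (E : EtOver X.obj) (hE : IsAffine E.obj.left.left) (s : sectModEt F E), I.ideal E hE ≤ annSect s) :
    IsIso (pullUnit hi.1 F) := by
  have := isQuasicoherent_pullQC hi.1 F
  have := isQuasicoherent_push_affine (hf := hi.1) (isAffineMor_of_isFiniteMor (isFiniteMor_of_closedImm hi))
    (pullQC hi.1 F)
  exact isIso_of_bijective_affine _ fun E hE => bijective_hs_pullUnit hi I hI hF E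

theorem isFinitePresentation_push_closedImm (hX : IsLocNoethSp X.obj) (G : ModEt Z.obj) [G.IsFinitePresentation] :
    ((pushModEt hi.1).obj G).IsFinitePresentation := by
  have := isQuasicoherent_push_affine (hf := hi.1) (isAffineMor_of_isFiniteMor (isFiniteMor_of_closedImm hi)) G
  exact isFinitePresentation_of_finite hX fun E hE => finite_push (isFiniteMor_of_closedImm hi) G E

end Groth.Agent.AlgSpQC
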