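import Groth.Agent.AlgSpQC.Base

/-!
# Maps of modules on sections
-/

universe u

open CategoryTheory CategoryTheory.Limits AlgebraicGeometry Opposite

set_option backward.isDefEq.respectTransparency false
set_option backward.isDefEq.respectTransparency.types false
set_option autoImplicit false

namespace Groth.Agent.AlgSpQC

open _root_.AlgSp

variable {S : Scheme.{u}} {X : Sp S} {L M N : ModEt X}

/-- A map of modules on sections over an object, linear over the functions. -/
noncomputable def hs (φ : M ⟶ N) (E : EtOver X) : sectModEt M E →ₗ[gr E] sectModEt N E where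
  toFun := (φ.val.app (op E)).hom
  map_add' := map_add (φ.val.app (op E)).hom
  map_smul' a m := (φ.val.app (op E)).hom.map_smul (upΓ E a) m

theorem hs_rs (φ : M ⟶ N) {E E' : EtOver X} (g : E' ⟶ E) (m : sectModEt M E) :
    hs φ E' (rs M g m) = rs N g (hs φ E m) :=
  map_res φ g m

theorem hs_id (E : EtOver X) (m : sectModEt M E) : hs (𝟙 M) E m = m := rfl

theorem hs_comp (φ : L ⟶ M) (ψ : M ⟶ N) (E : EtOver X) (m : sectModEt L E) :
    hs (φ ≫ ψ) E m = hs ψ E (hs φ E m) := rfl

theorem hs_zero (E : EtOver X) (m : sectModEt M E) : hs (0 : M ⟶ N) E m = 0 := rfl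

theorem hs_injective (φ : M ⟶ N) [Mono φ] (E : EtOver X) : Function.Injective (hs φ E) := by
  have : Mono ((SheafOfModules.evaluation (OEtRing X) (op E)).map φ) := inferInstance
  have h := (ModuleCat.mono_iff_injective _).1 this
  exact h

theorem exact_hs (T : ShortComplex (ModEt X)) (hT : T.Exact) [Mono T.f] (E : EtOver X) :
    Function.Exact (hs T.f E) (hs T.g E) := by
  intro y
  constructor
  · intro hy
    let ev := SheafOfModules.forget (OEtRing X) ⋙ PresheafOfModules.evaluation _ (op E)
    have hex : (CategoryTheory.ShortComplex.mk (ev.map T.f) (ev.map T.g)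
        (by rw [← ev.map_comp, T.zero, Functor.map_zero])).Exact :=
      CategoryTheory.ShortComplex.exact_of_f_is_kernel _ (KernelFork.mapIsLimit _ hT.fIsKernel ev)
    exact (CategoryTheory.ShortComplex.moduleCat_exact_iff _).1 hex y hy
  · rintro ⟨x, rfl⟩
    exact (hs_comp T.f T.g E x).symm.trans (by rw [T.zero]; exact hs_zero E x)

end Groth.Agent.AlgSpQC
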