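import Groth.Agent.AlgSpQC.Finite
import Groth.Agent.AlgSpQC.Hom

/-!
# Kernels, cokernels, quotients and extensions of quasi-coherent modules
-/

universe u

open CategoryTheory CategoryTheory.Limits AlgebraicGeometry Opposite TensorProduct

set_option backward.isDefEq.respectTransparency false
set_option autoImplicit false

namespace Groth.Agent.AlgSpQC

open _root_.AlgSp

variable {S : Scheme.{u}} {X : Sp S} {L M N : ModEt X}

theorem hs_lc (φ : M ⟶ N) (E : EtOver X) {I : Type (u + 1)} (s : I → sectModEt M E) (c : I →₀ gr E) :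
    hs φ E (lc s c) = lc (fun i => hs φ E (s i)) c := by
  induction c using Finsupp.induction_linear with
  | zero => simp only [map_zero]
  | add x y hx hy => simp only [map_add, hx, hy]
  | single i a => simp only [lc, Finsupp.linearCombination_single, map_smul]

/-- An epimorphism is locally surjective on sections. -/
theorem exists_local_lift (π : M ⟶ N) [Epi π] {E : EtOver X} (n : sectModEt N E) :
    ∃ T ∈ etTop X E, ∀ (V : EtOver X) (f : V ⟶ E), T f → ∃ m : sectModEt M V, hs π V m = rs N f n := by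
  refine ⟨_, imageSieve_mem_of_transpose_epi (M := N) π.val (fun a b h => ?_) E n, fun V f hf => hf⟩
  exact (cancel_epi π).1 (SheafOfModules.hom_ext h)

theorem exists_local_lift_comp {K : ModEt X} (e : L ⟶ K) [Epi e] (ι : K ⟶ M) (f : L ⟶ M) (h : e ≫ ι = f)
    {E : EtOver X} {m : sectModEt M E} (y : sectModEt K E) (hy : hs ι E y = m) :
    ∃ J ∈ etTop X E, ∀ (V : EtOver X) (g : V ⟶ E), J g → ∃ l : sectModEt L V, hs f V l = rs M g m := by
  obtain ⟨J, hJ, hJ'⟩ := exists_local_lift e y
  refine ⟨J, hJ, fun V g hg => ?_⟩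
  obtain ⟨l, hl⟩ := hJ' V g hg
  refine ⟨l, ?_⟩
  subst h hy
  rw [hs_comp, hl, hs_rs]

theorem exists_kernel_hs (φ : M ⟶ N) {E : EtOver X} (m : sectModEt M E) (hm : hs φ E m = 0) :
    ∃ y : sectModEt (kernel φ) E, hs (kernel.ι φ) E y = m :=
  exists_kernel_lift φ m hm

/-- In a short complex exact at the middle, cycles are locally boundaries. -/
theorem exists_local_preimage (T : ShortComplex (ModEt X)) (hT : T.Exact) {E : EtOver X} (m : sectModEt T.X₂ E)
    (hm : hs T.g E m = 0) :
    ∃ J ∈ etTop X E, ∀ (V : EtOver X) (f : V ⟶ E), J f → ∃ l : sectModEt T.X₁ V, hs T.f V l = rs T.X₂ f m := by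
  have he : Epi (kernel.lift T.g T.f T.zero) := T.exact_iff_epi_kernel_lift.1 hT
  obtain ⟨y, hy⟩ := exists_kernel_hs T.g m hm
  exact exists_local_lift_comp (kernel.lift T.g T.f T.zero) (kernel.ι T.g) T.f (kernel.lift_ι _ _ _) y hy

theorem rs_mem_span_range [M.IsQuasicoherent] {E W : EtOver X} [IsAffine E.obj.left.left]
    [IsAffine W.obj.left.left] (g : W ⟶ E) (m : sectModEt M W) :
    m ∈ Submodule.span (gr W) (Set.range (rs M g)) := by
  obtain ⟨c, rfl⟩ := (bc_of_isQuasicoherent (M := M) g).1 m
  exact Finsupp.mem_span_range_iff_exists_finsupp.2 ⟨c, (Finsupp.linearCombination_apply _ _).symm⟩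

/-- Epimorphisms of quasi-coherent modules are surjective on sections over affine objects. -/
theorem hs_surjective [M.IsQuasicoherent] [N.IsQuasicoherent] (π : M ⟶ N) [Epi π] (E : EtOver X)
    [IsAffine E.obj.left.left] : Function.Surjective (hs π E) := by
  intro n
  obtain ⟨T, hT, hT'⟩ := exists_local_lift π n
  refine LinearMap.mem_range.1 (mem_of_local (LinearMap.range (hs π E))
    (GrothendieckTopology.bind_covering (etTop X) hT (R := fun V f _ => (exists_affine_sieve V).choose)
      fun V f _ => (exists_affine_sieve V).choose_spec.1) ?_)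
  rintro V g ⟨Z, k, f, hf, hk, rfl⟩
  obtain ⟨W, a, b, hW, rfl⟩ := (exists_affine_sieve Z).choose_spec.2 V k hk
  obtain ⟨m, hm⟩ := hT' Z f hf
  rw [rs_comp, ← hm, ← hs_rs, rs_comp]
  have hmem := rs_mem_span_range (b ≫ f) (rs M b m)
  generalize rs M b m = x at hmem
  induction hmem using Submodule.span_induction with
  | mem x hx =>
    obtain ⟨e, rfl⟩ := hx
    refine Submodule.subset_span ⟨hs π E e, ⟨e, rfl⟩, ?_⟩
    rw [← rs_comp, hs_rs, Category.assoc]
  | zero => rw [map_zero, map_zero]; exact Submodule.zero_mem _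
  | add x y _ _ hx hy => rw [map_add, map_add]; exact Submodule.add_mem _ hx hy
  | smul r x _ hx => rw [rs_smul, map_smul]; exact Submodule.smul_mem _ _ hx

/-- The sections of a cokernel are presented by those of the source. -/
theorem pres_of_exact (T : ShortComplex (ModEt X)) (hT : T.Exact) [Epi T.g] [T.X₁.IsQuasicoherent]
    [T.X₂.IsQuasicoherent] (E : EtOver X) [IsAffine E.obj.left.left] :
    Pres (fun n : sectModEt T.X₂ E => hs T.g E n) := by
  refine ⟨fun E' g m => ?_, fun E' g c hc => ?_⟩
  · obtain ⟨J, hJ, hJ'⟩ := exists_local_lift T.g m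
    refine ⟨_, GrothendieckTopology.bind_covering (etTop X) hJ (R := fun V f _ => (exists_affine_sieve V).choose)
      fun V f _ => (exists_affine_sieve V).choose_spec.1, ?_⟩
    rintro V h ⟨Z, k, f, hf, hk, rfl⟩
    obtain ⟨W, a, b, hW, rfl⟩ := (exists_affine_sieve Z).choose_spec.2 V k hk
    obtain ⟨n, hn⟩ := hJ' Z f hf
    rw [rs_comp, ← hn, ← hs_rs, rs_comp]
    have hmem := rs_mem_span_range (b ≫ f ≫ g) (rs T.X₂ b n)
    generalize rs T.X₂ b n = x at hmem
    induction hmem using Submodule.span_induction with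
    | mem x hx =>
      obtain ⟨e, rfl⟩ := hx
      refine Submodule.subset_span ⟨e, ?_⟩
      simp only [sr]
      rw [← hs_rs, ← rs_comp, Category.assoc, Category.assoc]
    | zero => rw [map_zero, map_zero]; exact Submodule.zero_mem _
    | add x y _ _ hx hy => rw [map_add, map_add]; exact Submodule.add_mem _ hx hy
    | smul r x _ hx => rw [rs_smul, map_smul]; exact Submodule.smul_mem _ _ hx
  · let n := lc (sr g (id : sectModEt T.X₂ E → sectModEt T.X₂ E)) c
    have hn : hs T.g E' n = 0 := by
      rw [hs_lc]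
      refine Eq.trans (congrArg (fun t => lc t c) (funext fun i => ?_)) hc
      exact hs_rs T.g g i
    obtain ⟨J, hJ, hJ'⟩ := exists_local_preimage T hT n hn
    refine ⟨_, GrothendieckTopology.bind_covering (etTop X) hJ (R := fun V f _ => (exists_affine_sieve V).choose)
      fun V f _ => (exists_affine_sieve V).choose_spec.1, ?_⟩
    rintro V h ⟨Z, k, f, hf, hk, rfl⟩
    obtain ⟨W, a, b, hW, rfl⟩ := (exists_affine_sieve Z).choose_spec.2 V k hk
    obtain ⟨l, hl⟩ := hJ' Z f hf
    let p := b ≫ f
    obtain ⟨c', hc'⟩ := (bc_of_isQuasicoherent (M := T.X₁) (p ≫ g)).1 (rs T.X₁ b l)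
    let c₂ : sectModEt T.X₂ E →₀ gr W := c'.mapDomain (hs T.f E)
    have hc₂ : lc (sr (p ≫ g) id) c₂ = lc (sr (p ≫ g) id) (cmap (gm p) c) := by
      refine Eq.trans ?_ (rs_lc p (sr g id) c |>.trans (by rw [sr_sr]))
      refine Eq.trans ?_ (((congrArg (rs T.X₂ b) hl).trans (rs_comp f b _).symm))
      rw [← hs_rs, ← hc', Finsupp.linearCombination_mapDomain, hs_lc]
      exact congrArg (fun t => lc t c') (funext fun i => (hs_rs T.f (p ≫ g) i).symm)
    have hmem : cmap (gm p) c - c₂ ∈ relSpan (p ≫ g) fun m : sectModEt T.X₂ E => hs T.g E m := by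
      refine Submodule.span_mono (Set.image_mono fun x hx => ?_)
        ((bc_of_isQuasicoherent (M := T.X₂) (p ≫ g)).2 _ (by rw [map_sub]; exact sub_eq_zero.2 hc₂.symm))
      rw [SetLike.mem_coe, LinearMap.mem_ker] at hx ⊢
      rw [← hs_lc]
      exact (congrArg (hs T.g E) hx).trans (map_zero _)
    have hmem₂ : c₂ ∈ relSpan (p ≫ g) fun m : sectModEt T.X₂ E => hs T.g E m := by
      rw [show c₂ = c'.sum fun i r => r • Finsupp.single (hs T.f E i) (1 : gr W) from by
        simp [c₂, Finsupp.mapDomain]]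
      refine Submodule.sum_mem _ fun i _ => Submodule.smul_mem _ _ (Submodule.subset_span ⟨Finsupp.single (hs T.f E i) 1, ?_, ?_⟩)
      · rw [SetLike.mem_coe, LinearMap.mem_ker, Finsupp.linearCombination_single, one_smul, ← hs_comp, T.zero]
        rfl
      · rw [cmap_single, map_one]
    have := cmap_mem_span (gm (p ≫ g)) (gm a) (gm (((a ≫ b) ≫ f) ≫ g))
      (fun x => by simp only [p, Category.assoc, gm_comp]) (Submodule.add_mem _ hmem hmem₂)
    rw [sub_add_cancel] at this
    rwa [cmap_cmap (gm p) (gm a) (gm ((a ≫ b) ≫ f)) (fun x => by simp only [p, Category.assoc, gm_comp])] at this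

theorem isQuasicoherent_of_exact (T : ShortComplex (ModEt X)) (hT : T.Exact) [Epi T.g] [T.X₁.IsQuasicoherent]
    [T.X₂.IsQuasicoherent] : T.X₃.IsQuasicoherent :=
  isQuasicoherent_of_bc fun E W g hE hW => bc_of_pres (pres_of_exact T hT E) g

/-- A kernel of a map of quasi-coherent modules is quasi-coherent. -/
theorem isQuasicoherent_of_exact_mono (T : ShortComplex (ModEt X)) (hT : T.Exact) [Mono T.f] [T.X₂.IsQuasicoherent]
    [T.X₃.IsQuasicoherent] : T.X₁.IsQuasicoherent :=
  isQuasicoherent_of_bc fun E W g hE hW => by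
    let _ := (gm g).toAlgebra
    have : Module.Flat (gr E) (gr W) := flat_gm g
    refine (isBC_iff (A := gr E) (rs T.X₁ g) (rs_smul g)).2 ?_
    refine bijective_of_exact (hs T.f E) (hs T.g E) (hs_injective T.f E) (exact_hs T hT E)
      (hs T.f W).toAddMonoidHom (hs T.g W) (hs_injective T.f W)
      (fun l => (hs_comp T.f T.g W l).symm.trans (by rw [T.zero]; rfl))
      (bc (rs T.X₁ g) (rs_smul g)).toAddMonoidHom (bc (rs T.X₂ g) (rs_smul g)).toAddMonoidHom
      (bc (rs T.X₃ g) (rs_smul g)).toAddMonoidHom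
      ((isBC_iff (A := gr E) (rs T.X₂ g) (rs_smul g)).1 (bc_of_isQuasicoherent g))
      ((isBC_iff (A := gr E) (rs T.X₃ g) (rs_smul g)).1 (bc_of_isQuasicoherent g)).1 ?_ ?_
    · intro x
      induction x using TensorProduct.induction_on with
      | zero => simp only [map_zero]
      | add x y hx hy => simp only [map_add, hx, hy]
      | tmul r l => simp [hs_rs]
    · intro x
      induction x using TensorProduct.induction_on with
      | zero => simp only [map_zero]
      | add x y hx hy =>
        simp only [map_add] at *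
        rw [hx, hy]
      | tmul r l => simp [hs_rs]

theorem isQuasicoherent_kernel [M.IsQuasicoherent] [N.IsQuasicoherent] (φ : M ⟶ N) :
    (kernel φ).IsQuasicoherent :=
  isQuasicoherent_of_exact_mono (ShortComplex.mk (kernel.ι φ) φ (kernel.condition φ))
    (ShortComplex.exact_of_f_is_kernel _ (kernelIsKernel φ))

theorem isQuasicoherent_cokernel [M.IsQuasicoherent] [N.IsQuasicoherent] (φ : M ⟶ N) :
    (cokernel φ).IsQuasicoherent :=
  isQuasicoherent_of_exact (ShortComplex.mk φ (cokernel.π φ) (cokernel.condition φ))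
    (ShortComplex.exact_of_g_is_cokernel _ (cokernelIsCokernel φ))

end Groth.Agent.AlgSpQC
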