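import Groth.Agent.AlgSpQC.Extension

/-!
# Coherent modules on locally noetherian algebraic spaces
-/

universe u

open CategoryTheory CategoryTheory.Limits AlgebraicGeometry Opposite TensorProduct

set_option backward.isDefEq.respectTransparency false
set_option autoImplicit false

namespace Groth.Agent.AlgSpQC

open _root_.AlgSp

variable {S : Scheme.{u}} {X : Space S} {M N : ModEt X.obj}

theorem isFinitePresentation_of_finite (hX : IsLocNoethSp X.obj) [M.IsQuasicoherent]
    (h : ∀ (E : EtOver X.obj), IsAffine E.obj.left.left → Module.Finite (gr E) (sectModEt M E)) :
    M.IsFinitePresentation :=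
  isFinitePresentation_of_finitePresentation fun E hE => by
    have := isNoetherianRing_gr hX E
    have := h E hE
    exact Module.finitePresentation_of_finite (gr E) (sectModEt M E)

theorem isFinitePresentation_of_mono (hX : IsLocNoethSp X.obj) [M.IsFinitePresentation] (ι : N ⟶ M) [Mono ι]
    [N.IsQuasicoherent] : N.IsFinitePresentation :=
  isFinitePresentation_of_finite hX fun E hE => by
    have := isNoetherianRing_gr hX E
    have := finite_sections (M := M) E
    exact Module.Finite.of_injective (hs ι E) (hs_injective ι E)

theorem isFinitePresentation_of_epi (hX : IsLocNoethSp X.obj) [M.IsFinitePresentation] (π : M ⟶ N) [Epi π]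
    [N.IsQuasicoherent] : N.IsFinitePresentation :=
  isFinitePresentation_of_finite hX fun E hE => by
    have := finite_sections (M := M) E
    exact Module.Finite.of_surjective (hs π E) (hs_surjective π E)

theorem isFinitePresentation_extension (hX : IsLocNoethSp X.obj) (T : ShortComplex (ModEt X.obj))
    (hT : T.ShortExact) [T.X₁.IsFinitePresentation] [T.X₃.IsFinitePresentation] : T.X₂.IsFinitePresentation := by
  have h3 := fun (E : EtOver X.obj) (hE : IsAffine E.obj.left.left) => finite_sections (M := T.X₃) E
  have := isQuasicoherent_extension hT h3
  refine isFinitePresentation_of_finite hX fun E hE => ?_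
  have := finite_sections (M := T.X₁) E
  have := h3 E hE
  exact finite_extension hT E

end Groth.Agent.AlgSpQC
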