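import Groth.Agent.AlgSpQC.Sigma
import Groth.Agent.AlgSpQC.Chain

/-!
# The largest quasi-coherent submodule
-/

universe u

open CategoryTheory CategoryTheory.Limits AlgebraicGeometry Opposite TensorProduct

set_option backward.isDefEq.respectTransparency false
set_option autoImplicit false

namespace Groth.Agent.AlgSpQC

open _root_.AlgSp

variable {S : Scheme.{u}} {X : Sp S} {F G K : ModEt X}

/-- A submodule of a quasi-coherent module whose sections are locally generated by sections over the base is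
quasi-coherent. -/
theorem isQuasicoherent_sub [F.IsQuasicoherent] (ι : K ⟶ F) [Mono ι]
    (h : ∀ (E W : EtOver X) (g : W ⟶ E), IsAffine E.obj.left.left → IsAffine W.obj.left.left →
      ∀ m : sectModEt K W, ∃ T ∈ etTop X W, ∀ (V : EtOver X) (f : V ⟶ W), T f →
        rs K f m ∈ Submodule.span (gr V) (Set.range (rs K (f ≫ g)))) : K.IsQuasicoherent := by
  refine isQuasicoherent_of_bc fun E W g hE hW => ?_
  let _ := (gm g).toAlgebra
  have : Module.Flat (gr E) (gr W) := flat_gm g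
  have hF := (isBC_iff (A := gr E) (rs F g) (rs_smul g)).1 (bc_of_isQuasicoherent g)
  have key : ∀ x, hs ι W (bc (rs K g) (rs_smul g) x) =
      bc (rs F g) (rs_smul g) (LinearMap.lTensor (gr W) (hs ι E) x) := fun x => by
    induction x using TensorProduct.induction_on with
    | zero => simp only [map_zero]
    | add x y hx hy => simp only [map_add, hx, hy]
    | tmul r k => rw [bc_tmul, map_smul, hs_rs, LinearMap.lTensor_tmul, bc_tmul]
  refine (isBC_iff (A := gr E) (rs K g) (rs_smul g)).2 ⟨(injective_iff_map_eq_zero _).2 fun x hx => ?_, fun m => ?_⟩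
  · refine (injective_iff_map_eq_zero _).1
      (Module.Flat.lTensor_preserves_injective_linearMap (M := gr W) (hs ι E) (hs_injective ι E)) x
      (hF.1 ?_)
    rw [← key, hx, map_zero, map_zero]
  · let P := Submodule.map (hs ι W) (LinearMap.range (bc (rs K g) (rs_smul g)))
    obtain ⟨T, hT, hT'⟩ := h E W g hE hW m
    have hm : hs ι W m ∈ P := mem_of_local P hT fun V f hf => by
      rw [← hs_rs]
      have hmem := hT' V f hf
      generalize rs K f m = y at hmem
      induction hmem using Submodule.span_induction with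
      | mem y hy =>
        obtain ⟨e, rfl⟩ := hy
        refine Submodule.subset_span ⟨hs ι W (rs K g e), ⟨rs K g e, ⟨1 ⊗ₜ e, by simp⟩, rfl⟩, ?_⟩
        rw [rs_comp, hs_rs (g := f)]
      | zero => rw [map_zero]; exact Submodule.zero_mem _
      | add x y _ _ hx hy => rw [map_add]; exact Submodule.add_mem _ hx hy
      | smul r x _ hx => rw [map_smul]; exact Submodule.smul_mem _ _ hx
    obtain ⟨_, ⟨x, rfl⟩, hx⟩ := hm
    exact ⟨x, hs_injective ι W hx⟩

theorem rs_mem_span_of_hom [G.IsQuasicoherent] (a : G ⟶ K) {E W : EtOver X} [IsAffine E.obj.left.left]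
    [IsAffine W.obj.left.left] (g : W ⟶ E) (x : sectModEt G W) :
    hs a W x ∈ Submodule.span (gr W) (Set.range (rs K g)) := by
  have hx := rs_mem_span_range g x
  induction hx using Submodule.span_induction with
  | mem x hx =>
    obtain ⟨e, rfl⟩ := hx
    exact Submodule.subset_span ⟨hs a E e, (hs_rs a g e).symm⟩
  | zero => rw [map_zero]; exact Submodule.zero_mem _
  | add x y _ _ hx hy => rw [map_add]; exact Submodule.add_mem _ hx hy
  | smul r x _ hx => rw [map_smul]; exact Submodule.smul_mem _ _ hx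

theorem mem_span_rs_of_mem {W V E : EtOver X} (g : W ⟶ E) (a : V ⟶ W) {y : sectModEt K W}
    (hy : y ∈ Submodule.span (gr W) (Set.range (rs K g))) :
    rs K a y ∈ Submodule.span (gr V) (Set.range (rs K (a ≫ g))) := by
  induction hy using Submodule.span_induction with
  | mem x hx =>
    obtain ⟨e, rfl⟩ := hx
    exact Submodule.subset_span ⟨e, rs_comp g a e⟩
  | zero => rw [map_zero]; exact Submodule.zero_mem _
  | add x y _ _ hx hy => rw [map_add]; exact Submodule.add_mem _ hx hy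
  | smul r x _ hx => rw [rs_smul]; exact Submodule.smul_mem _ _ hx

/-- The sum of the images of quasi-coherent modules is quasi-coherent inside a quasi-coherent module. -/
theorem isQuasicoherent_of_sigma [F.IsQuasicoherent] {I : Type (u + 1)} {H : I → ModEt X} {c : Cofan H}
    (hc : IsColimit c) (hH : ∀ i, (H i).IsQuasicoherent) (e : c.pt ⟶ K) [Epi e] (ι : K ⟶ F) [Mono ι] :
    K.IsQuasicoherent := by
  refine isQuasicoherent_sub ι fun E W g hE hW m => ?_
  obtain ⟨T₁, hT₁, hT₁'⟩ := exists_local_lift e m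
  have key : ∀ (V : EtOver X) (f : V ⟶ W), T₁ f → ∃ T₂ : Sieve V, T₂ ∈ etTop X V ∧
      ∀ (Z : EtOver X) (k : Z ⟶ V), T₂ k → rs K (k ≫ f) m ∈ Submodule.span (gr Z) (Set.range (rs K (k ≫ f ≫ g))) := by
    intro V f hf
    obtain ⟨x, hx⟩ := hT₁' V f hf
    obtain ⟨T₂, hT₂, hT₂'⟩ := exists_sieve_mem_iSup hc V x
    refine ⟨_, GrothendieckTopology.bind_covering (etTop X) hT₂ (R := fun Z _ _ => (exists_affine_sieve Z).choose)
      fun Z _ _ => (exists_affine_sieve Z).choose_spec.1, ?_⟩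
    rintro Z' k' ⟨Z, a, b, hb, ha, rfl⟩
    obtain ⟨Z₁, a₁, b₁, hZ₁, rfl⟩ := (exists_affine_sieve Z).choose_spec.2 Z' a ha
    have hmem : ∀ y : sectModEt c.pt Z, y ∈ (⨆ i, LinearMap.range ((c.inj i).val.app (op Z)).hom) →
        rs K b₁ (hs e Z y) ∈ Submodule.span (gr Z₁) (Set.range (rs K (b₁ ≫ b ≫ f ≫ g))) := by
      intro y hy
      refine Submodule.iSup_induction _
        (motive := fun y : sectModEt c.pt Z =>
          rs K b₁ (hs e Z y) ∈ Submodule.span (gr Z₁) (Set.range (rs K (b₁ ≫ b ≫ f ≫ g))))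
        hy (fun i y hy => ?_) ?_ fun (y z : sectModEt c.pt Z) hy hz => ?_
      rotate_left
      · change rs K b₁ (hs e Z (0 : sectModEt c.pt Z)) ∈ _
        rw [map_zero, map_zero]
        exact Submodule.zero_mem _
      · rw [map_add, map_add]
        exact Submodule.add_mem _ hy hz
      obtain ⟨h₀, rfl⟩ := hy
      have := hH i
      rw [← hs_rs]
      change hs e Z₁ (rs c.pt b₁ (hs (c.inj i) Z h₀)) ∈ _
      rw [← hs_rs, ← hs_comp]
      exact rs_mem_span_of_hom (c.inj i ≫ e) _ _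
    have h2 := mem_span_rs_of_mem _ a₁ (hmem _ (hT₂' Z b hb))
    have e2 : rs K a₁ (rs K b₁ (hs e Z (rs c.pt b x))) = rs K (((a₁ ≫ b₁) ≫ b) ≫ f) m := by
      rw [hs_rs, hx, ← rs_comp, ← rs_comp, ← rs_comp, Category.assoc, Category.assoc]
    simp only [← Category.assoc] at h2 e2 ⊢
    rw [← e2]
    exact h2
  choose! T₂ hT₂ hT₂' using key
  refine ⟨Sieve.bind T₁ fun V f _ => T₂ V f, GrothendieckTopology.bind_covering (etTop X) hT₁ fun V f hf => hT₂ V f hf,
    fun Z k' ⟨V, k, f, hf, hk, e'⟩ => ?_⟩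
  subst e'
  rw [Category.assoc]
  exact hT₂' V f hf Z k hk

theorem comp_cokernel_eq_zero {I : Type (u + 1)} {H : I → ModEt X} {c : Cofan H} (d : c.pt ⟶ G) {Q : ModEt X}
    (π : G ⟶ Q) (w : d ≫ π = 0) {H₀ : ModEt X} (ψ : H₀ ⟶ G)
    (h : ∀ (W : EtOver X), IsAffine W.obj.left.left → ∀ y : sectModEt H₀ W,
      ∃ (i : I) (x : sectModEt (H i) W), hs (c.inj i ≫ d) W x = hs ψ W y) : ψ ≫ π = 0 := by
  refine SheafOfModules.hom_ext (PresheafOfModules.hom_ext fun E => ModuleCat.hom_ext (LinearMap.ext fun m => ?_))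
  refine eq_zero_of_affine (E := E.unop) (m := hs (ψ ≫ π) E.unop m) fun W b hW => ?_
  obtain ⟨i, x, hx⟩ := h W hW (rs H₀ b m)
  rw [← hs_rs, hs_comp, ← hx, ← hs_comp, Category.assoc, w, comp_zero]
  rfl

theorem exists_largest_of_cofan [F.IsQuasicoherent] (ι : G ⟶ F) [Mono ι] {I : Type (u + 1)} {H : I → ModEt X}
    {c : Cofan H} (hc : IsColimit c) (hH : ∀ i, (H i).IsQuasicoherent) (d : c.pt ⟶ G)
    (h : ∀ (H₀ : ModEt X), H₀.IsQuasicoherent → ∀ (ψ : H₀ ⟶ G) (W : EtOver X), IsAffine W.obj.left.left →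
      ∀ y : sectModEt H₀ W, ∃ (i : I) (x : sectModEt (H i) W), hs (c.inj i ≫ d) W x = hs ψ W y) :
    ∃ (G' : ModEt X) (κ : G' ⟶ G), Mono κ ∧ G'.IsQuasicoherent ∧
      ∀ H : ModEt X, H.IsQuasicoherent → Function.Bijective (fun φ : H ⟶ G' => φ ≫ κ) := by
  have hk : Mono (kernel.ι (cokernel.π d)) := inferInstance
  have he : Epi (kernel.lift (cokernel.π d) d (cokernel.condition d)) :=
    (ShortComplex.mk d (cokernel.π d) (cokernel.condition d)).exact_iff_epi_kernel_lift.1
      (ShortComplex.exact_of_g_is_cokernel _ (cokernelIsCokernel d))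
  have hm : Mono (kernel.ι (cokernel.π d) ≫ ι) := mono_comp _ _
  have hq : (kernel (cokernel.π d)).IsQuasicoherent :=
    isQuasicoherent_of_sigma hc hH (kernel.lift (cokernel.π d) d (cokernel.condition d))
      (kernel.ι (cokernel.π d) ≫ ι)
  refine ⟨kernel (cokernel.π d), kernel.ι (cokernel.π d), hk, hq, fun H₀ hH₀ =>
    ⟨fun φ ψ h => (cancel_mono _).1 h, fun ψ => ?_⟩⟩
  exact ⟨kernel.lift _ ψ (comp_cokernel_eq_zero d _ (cokernel.condition d) ψ (h H₀ hH₀ ψ)), kernel.lift_ι _ _ _⟩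

theorem exists_of_mem_range {I : Type (u + 1)} {H : I → ModEt X} {P : ModEt X} {inj : ∀ i, H i ⟶ P} (j : I)
    (e : H j ⟶ P) (d : P ⟶ G) (a : H j ⟶ G) (h : e ≫ d = a) {H₀ : ModEt X} {W : EtOver X} {ψ : H₀ ⟶ G}
    (y : sectModEt H₀ W) (hm : hs ψ W y ∈ LinearMap.range (hs a W)) (he : inj j = e := by rfl) :
    ∃ (i : I) (x : sectModEt (H i) W), hs (inj i ≫ d) W x = hs ψ W y := by
  obtain ⟨x, hx⟩ := hm
  exact ⟨j, x, by rw [he, h]; exact hx⟩

theorem exists_largest (ι : G ⟶ F) [F.IsQuasicoherent] [Mono ι] :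
    ∃ (G' : ModEt X) (κ : G' ⟶ G), Mono κ ∧ G'.IsQuasicoherent ∧
      ∀ H : ModEt X, H.IsQuasicoherent → Function.Bijective (fun φ : H ⟶ G' => φ ≫ κ) := by
  let J := {p : Σ E : {E : EtOver X // IsAffine E.obj.left.left}, sectModEt G E.1 //
    ∃ (H : ModEt X) (a : H ⟶ G), H.IsQuasicoherent ∧ p.2 ∈ LinearMap.range (hs a p.1.1)}
  choose H a hH hmem using fun j : J => j.2
  refine exists_largest_of_cofan ι (coproductIsCoproduct H) hH (Limits.Sigma.desc a) fun H₀ hH₀ ψ W hW y => ?_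
  let j : J := ⟨⟨⟨W, hW⟩, hs ψ W y⟩, H₀, ψ, hH₀, LinearMap.mem_range.2 ⟨y, rfl⟩⟩
  exact exists_of_mem_range j (Limits.Sigma.ι H j) (Limits.Sigma.desc a) (a j) (Limits.Sigma.ι_desc a j) y (hmem j)

end Groth.Agent.AlgSpQC
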