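import Groth.Agent.AlgSpQC.UnionSub

/-!
# A quasi-coherent module on a Noetherian space is the union of its coherent submodules
-/

universe u

open CategoryTheory CategoryTheory.Limits AlgebraicGeometry Opposite TensorProduct TopologicalSpace

set_option backward.isDefEq.respectTransparency false
set_option backward.isDefEq.respectTransparency.types false
set_option autoImplicit false

namespace Groth.Agent.AlgSpQC

open _root_.AlgSp

variable {S : Scheme.{u}} {X : Space S} {M : ModEt X.obj} {E₀ : EtOver X.obj}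

theorem bc_overlap_eq [M.IsQuasicoherent] {E W V P : EtOver X.obj} (g : W ⟶ E) (a : V ⟶ E) (p : P ⟶ W) (q : P ⟶ V)
    (w : p ≫ g = q ≫ a) :
    letI := (gm g).toAlgebra
    letI := overBase M a
    ∀ (Φ : gr W ⊗[gr E] sectModEt M V →+ sectModEt M P)
      (_ : ∀ u n, Φ (u ⊗ₜ n) = gm p u • rs M q n) (η : sectModEt M E →ₗ[gr E] sectModEt M V)
      (_ : ∀ n, η n = rs M a n) (x : gr W ⊗[gr E] sectModEt M E),
      Φ (LinearMap.lTensor (gr W) η x) = rs M p (bc (rs M g) (rs_smul g) x) := by
  let _ := (gm g).toAlgebra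
  let _ := overBase M a
  intro Φ hΦ η hη x
  induction x using TensorProduct.induction_on with
  | zero => simp
  | add x y hx hy => simp only [map_add, hx, hy]
  | tmul u n => rw [LinearMap.lTensor_tmul, hΦ, hη, bc_tmul, rs_smul, ← rs_comp, ← rs_comp, w]

set_option maxHeartbeats 1000000 in
theorem exists_preimage_step [M.IsQuasicoherent] (N : Submodule (gr E₀) (sectModEt M E₀)) {E W V : EtOver X.obj}
    [IsAffine E.obj.left.left] [IsAffine W.obj.left.left] [IsAffine V.obj.left.left] (g : W ⟶ E) (a : V ⟶ E)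
    (c : V ⟶ E₀) (η : letI := overBase M a; sectModEt M E →ₗ[gr E] sectModEt M V)
    (hη : ∀ n, η n = rs M a n) (Q : letI := overBase M a; Submodule (gr E) (sectModEt M V))
    (hQ : ∀ n, n ∈ Q ↔ n ∈ Submodule.span (gr V) (rs M c '' (N : Set (sectModEt M E₀)))) :
    letI := (gm g).toAlgebra
    letI := overBase M a
    ∀ x : gr W ⊗[gr E] sectModEt M E, bc (rs M g) (rs_smul g) x ∈ unionSub M N W →
      LinearMap.lTensor (gr W) η x ∈ LinearMap.range (LinearMap.lTensor (gr W) Q.subtype) := by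
  let _ := (gm g).toAlgebra
  let _ := overBase M a
  intro x hx
  obtain ⟨P, p, q, hP, w, hpush, -⟩ := exists_overlap g a
  obtain ⟨Φ, hΦ, hΦt⟩ := exists_bc_square (pres_id M V) g a p q w hpush
  have hm := rs_mem_span_image N c q (hx P p (q ≫ c) hP)
  let _ := (gm a).toAlgebra
  let _ := (gm p).toAlgebra
  let _ := (gm q).toAlgebra
  let _ := (gm (p ≫ g)).toAlgebra
  have : IsScalarTower (gr E) (gr W) (gr P) := .of_algebraMap_eq (gm_comp g p)
  have : IsScalarTower (gr E) (gr V) (gr P) := .of_algebraMap_eq fun r => by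
    change gm (p ≫ g) r = gm q (gm a r)
    rw [w, gm_comp]
  have : IsScalarTower (gr E) (gr V) (sectModEt M V) := .of_algebraMap_smul fun _ _ => rfl
  have : Algebra.IsPushout (gr E) (gr W) (gr V) (gr P) := CommRingCat.isPushout_iff_isPushout.1 hpush
  obtain rfl : Q = (Submodule.span (gr V) (rs M c '' (N : Set (sectModEt M E₀)))).restrictScalars (gr E) :=
    SetLike.ext hQ
  obtain ⟨z, hz⟩ := span_image_le_range (A := gr E) (B := gr W) (B' := gr V) (W := gr P) Φ (rs M q) hΦt
    (rs_smul q) _ hm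
  exact ⟨z, hΦ.1 (hz.trans (bc_overlap_eq g a p q w Φ hΦt η hη x).symm)⟩

theorem mem_span_unionSub [QuasiSeparatedSpace ↥S] (hqs : IsQuasiSeparatedSp X.obj) [M.IsQuasicoherent]
    [IsAffine E₀.obj.left.left] (N : Submodule (gr E₀) (sectModEt M E₀)) {E W : EtOver X.obj}
    [IsAffine E.obj.left.left] [IsAffine W.obj.left.left] (g : W ⟶ E) (m : sectModEt M W)
    (hm : m ∈ unionSub M N W) :
    m ∈ Submodule.span (gr W) (rs M g '' (unionSub M N E : Set (sectModEt M E))) := by
  obtain ⟨κ, hκ, V, a, c, hV, huniv⟩ := exists_prod_cover hqs E E₀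
  let _ := (gm g).toAlgebra
  have : Module.Flat (gr E) (gr W) := flat_gm g
  have hb := (isBC_iff (A := gr E) (rs M g) (rs_smul g)).1 (bc_of_isQuasicoherent g)
  obtain ⟨x, rfl⟩ := hb.2 m
  let _ := fun k => overBase M (a k)
  let η : ∀ k, sectModEt M E →ₗ[gr E] sectModEt M (V k) := fun k =>
    { toFun := rs M (a k), map_add' := map_add _, map_smul' := rs_smul (a k) }
  let Q : ∀ k, Submodule (gr E) (sectModEt M (V k)) := fun k =>
    { carrier := (Submodule.span (gr (V k)) (rs M (c k) '' (N : Set (sectModEt M E₀))) : Set (sectModEt M (V k)))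
      add_mem' := Submodule.add_mem _
      zero_mem' := Submodule.zero_mem _
      smul_mem' := fun r n hn => Submodule.smul_mem _ (gm (a k) r) hn }
  refine Submodule.span_mono (Set.image_mono fun n hn => (mem_unionSub_iff N a c hV huniv n).2 hn)
    (mem_span_of_flat_preimage (A := gr E) (rs M g) (rs_smul g) η Q fun k => ?_)
  have := hV k
  exact exists_preimage_step N g (a k) (c k) (η k) (fun _ => rfl) (Q k) (fun _ => Iff.rfl) x hm

theorem finite_of_hom [M.IsQuasicoherent] [IsAffine E₀.obj.left.left] {V : EtOver X.obj} [IsAffine V.obj.left.left]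
    (c : V ⟶ E₀) [Module.Finite (gr E₀) (sectModEt M E₀)] : Module.Finite (gr V) (sectModEt M V) := by
  classical
  obtain ⟨s, hs'⟩ := Module.Finite.fg_top (R := gr E₀) (M := sectModEt M E₀)
  refine ⟨⟨s.image (rs M c), eq_top_iff.2 fun m _ => ?_⟩⟩
  rw [Finset.coe_image]
  refine Submodule.span_le.2 ?_ (rs_mem_span_range c m)
  rintro _ ⟨e, rfl⟩
  have he : e ∈ Submodule.span (gr E₀) (s : Set (sectModEt M E₀)) := hs' ▸ Submodule.mem_top
  induction he using Submodule.span_induction with
  | mem x hx => exact Submodule.subset_span ⟨x, hx, rfl⟩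
  | zero => rw [map_zero]; exact Submodule.zero_mem _
  | add p q _ _ hp hq => rw [map_add]; exact Submodule.add_mem _ hp hq
  | smul r p _ hp => rw [rs_smul]; exact Submodule.smul_mem _ _ hp

theorem exists_coherent_sub [QuasiSeparatedSpace ↥S] (hqs : IsQuasiSeparatedSp X.obj) (hN : IsLocNoethSp X.obj)
    [M.IsQuasicoherent] [IsAffine E₀.obj.left.left] (h₀ : ∀ x : Points X.obj, ∃ u, Points.ofPt E₀.obj.hom u = x)
    (N : Submodule (gr E₀) (sectModEt M E₀)) (hNfg : N.FG) :
    ∃ (G : ModEt X.obj) (ι : G ⟶ M), Mono ι ∧ G.IsFinitePresentation ∧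
      ∀ (E : EtOver X.obj) (m : sectModEt M E), (∃ y, hs ι E y = m) ↔ m ∈ unionSub M N E := by
  obtain ⟨G, ι, hι, hG⟩ := exists_subSheaf (unionSub M N) (fun g => rs_mem_unionSub N g)
    (mem_unionSub_of_local N)
  have : G.IsQuasicoherent := isQuasicoherent_sub ι fun E W g hE hW m => by
    refine ⟨⊤, (etTop X.obj).top_mem W, fun V f _ => ?_⟩
    have hm := mem_span_unionSub hqs N g (hs ι W m) ((hG W _).1 ⟨m, rfl⟩)
    have key : ∀ x ∈ Submodule.span (gr W) (rs M g '' (unionSub M N E : Set (sectModEt M E))),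
        ∃ y ∈ Submodule.span (gr W) (Set.range (rs G g)), hs ι W y = x := by
      intro x hx
      induction hx using Submodule.span_induction with
      | mem x hx =>
        obtain ⟨n, hn, rfl⟩ := hx
        obtain ⟨y, rfl⟩ := (hG E n).2 hn
        exact ⟨rs G g y, Submodule.subset_span ⟨y, rfl⟩, hs_rs ι g y⟩
      | zero => exact ⟨0, zero_mem _, map_zero _⟩
      | add p q _ _ hp hq =>
        obtain ⟨y, hy, rfl⟩ := hp
        obtain ⟨z, hz, rfl⟩ := hq
        exact ⟨y + z, add_mem hy hz, map_add _ _ _⟩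
      | smul r p _ hp =>
        obtain ⟨y, hy, rfl⟩ := hp
        exact ⟨r • y, Submodule.smul_mem _ r hy, map_smul _ _ _⟩
    obtain ⟨y, hy, hye⟩ := key _ hm
    obtain rfl := hs_injective ι W hye
    clear hye hm key
    induction hy using Submodule.span_induction with
    | mem x hx =>
      obtain ⟨e, rfl⟩ := hx
      exact Submodule.subset_span ⟨e, rs_comp g f e⟩
    | zero => rw [map_zero]; exact Submodule.zero_mem _
    | add p q _ _ hp hq => rw [map_add]; exact Submodule.add_mem _ hp hq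
    | smul r p _ hp => rw [rs_smul]; exact Submodule.smul_mem _ _ hp
  have := isNoetherianRing_gr hN E₀
  have hle : ∀ y, hs ι E₀ y ∈ N := fun y => by
    have h := (hG E₀ _).1 ⟨y, rfl⟩ E₀ (𝟙 E₀) (𝟙 E₀) ‹_›
    rw [rs_id] at h
    refine Submodule.span_le.2 ?_ h
    rintro _ ⟨e, he, rfl⟩
    rwa [rs_id]
  have : Module.Finite (gr E₀) N := Module.Finite.iff_fg.2 hNfg
  have : Module.Finite (gr E₀) (sectModEt G E₀) :=
    Module.Finite.of_injective ((hs ι E₀).codRestrict N hle)
      (fun a b h => hs_injective ι E₀ (congrArg Subtype.val h))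
  refine ⟨G, ι, hι, isFinitePresentation_of_finite hN fun E hE => ?_, hG⟩
  obtain ⟨T, hT, hT'⟩ := exists_cover_hom h₀ E
  obtain ⟨κ, _, V, f, hV, hTf, hf⟩ := exists_affine_family hT
  refine finite_of_cover f hV hf fun k => ?_
  obtain ⟨W', a, b, c, -, -⟩ := hT' _ _ (hTf k)
  have := hV k
  exact finite_of_hom (a ≫ c)

theorem le_unionSub {G : ModEt X.obj} [G.IsQuasicoherent] (ι : G ⟶ M) [IsAffine E₀.obj.left.left]
    (N : Submodule (gr E₀) (sectModEt M E₀)) (hle : ∀ y, hs ι E₀ y ∈ N) (E : EtOver X.obj) (y : sectModEt G E) :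
    hs ι E y ∈ unionSub M N E := fun V a c hV => by
  rw [← hs_rs]
  refine Submodule.span_mono ?_ (Submodule.apply_mem_span_image_of_mem_span (hs ι V) (rs_mem_span_range c (rs G a y)))
  rintro _ ⟨_, ⟨e, rfl⟩, rfl⟩
  exact ⟨hs ι E₀ e, hle e, (hs_rs ι c e).symm⟩

/-- Every section over an affine object lies in one of the submodules. -/
theorem exists_fg_mem_unionSub [QuasiSeparatedSpace ↥S] (hqs : IsQuasiSeparatedSp X.obj) [M.IsQuasicoherent]
    [IsAffine E₀.obj.left.left] {W : EtOver X.obj} [IsAffine W.obj.left.left] (n : sectModEt M W) :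
    ∃ N : Submodule (gr E₀) (sectModEt M E₀), N.FG ∧ n ∈ unionSub M N W := by
  classical
  obtain ⟨κ, hκ, V, a, c, hV, huniv⟩ := exists_prod_cover hqs W E₀
  have key : ∀ k, ∃ s : Finset (sectModEt M E₀),
      rs M (a k) n ∈ Submodule.span (gr (V k)) (rs M (c k) '' (s : Set (sectModEt M E₀))) := fun k => by
    have := hV k
    obtain ⟨t, hts, ht⟩ := Submodule.mem_span_finite_of_mem_span (rs_mem_span_range (c k) (rs M (a k) n))
    obtain ⟨s, rfl⟩ : ∃ s : Finset (sectModEt M E₀), s.image (rs M (c k)) = t :=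
      ⟨t.attach.image fun x => (hts x.2).choose, by
        ext y
        simp only [Finset.mem_image, Finset.mem_attach, true_and]
        constructor
        · rintro ⟨_, ⟨x, rfl⟩, rfl⟩
          rw [(hts x.2).choose_spec]
          exact x.2
        · exact fun hy => ⟨_, ⟨⟨y, hy⟩, rfl⟩, (hts hy).choose_spec⟩⟩
    exact ⟨s, by rwa [Finset.coe_image] at ht⟩
  choose s hs' using key
  have := Fintype.ofFinite κ
  refine ⟨Submodule.span (gr E₀) (Finset.univ.biUnion s : Set (sectModEt M E₀)), Submodule.fg_span (Finset.finite_toSet _),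
    (mem_unionSub_iff _ a c hV huniv n).2 fun k => Submodule.span_mono (Set.image_mono fun x hx => ?_) (hs' k)⟩
  exact Submodule.subset_span (Finset.mem_biUnion.2 ⟨k, Finset.mem_univ k, hx⟩)

end Groth.Agent.AlgSpQC
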