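import Groth.Agent.AlgSpQC.PullSheaf

/-!
# Sections of the constructed inverse image over charts
-/

universe u

open CategoryTheory CategoryTheory.Limits AlgebraicGeometry Opposite TensorProduct

set_option backward.isDefEq.respectTransparency false
set_option backward.isDefEq.respectTransparency.types false
set_option autoImplicit false

namespace Groth.Agent.AlgSpQC

open _root_.AlgSp

variable {S : Scheme.{u}} {X Y : Space S} {f : X.obj ⟶ Y.obj} {hf : Representable f} {G : ModEt Y.obj}
  [G.IsQuasicoherent] {W W' : EtOver X.obj} {E E' : EtOver Y.obj}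

theorem pullQC_smul (r : gr W) (x : sectModEt (pullQC hf G) W) :
    (show Fam hf G W from r • x) = r • (show Fam hf G W from x) := rfl

theorem pullQC_rs (g : W' ⟶ W) (x : sectModEt (pullQC hf G) W) :
    (show Fam hf G W' from rs (pullQC hf G) g x) = famRes g (show Fam hf G W from x) := rfl

variable (G) in
/-- Evaluation at a chart. -/
noncomputable def pullEv [IsAffine W.obj.left.left] [IsAffine E.obj.left.left] (h : W ⟶ bcO hf E) :
    sectModEt (pullQC hf G) W →+ PT G h where
  toFun x := (show Fam hf G W from x).1 ⟨W, 𝟙 W, E, h, inferInstance, inferInstance⟩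
  map_zero' := rfl
  map_add' _ _ := rfl

theorem pullEv_smul [IsAffine W.obj.left.left] [IsAffine E.obj.left.left] (h : W ⟶ bcO hf E) (r : gr W)
    (x : sectModEt (pullQC hf G) W) : pullEv G h (r • x) = r • pullEv G h x := rfl

theorem pullEv_rs [IsAffine W.obj.left.left] [IsAffine W'.obj.left.left] [IsAffine E.obj.left.left]
    [IsAffine E'.obj.left.left] (h : W ⟶ bcO hf E) (k : W' ⟶ bcO hf E') (g : W' ⟶ W) (g' : E' ⟶ E)
    (w : k ≫ bcM hf g' = g ≫ h) (x : sectModEt (pullQC hf G) W) :
    pullEv G k (rs (pullQC hf G) g x) = μ G h k g g' w (pullEv G h x) := by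
  let y : Fam hf G W := x
  have c := y.2 ⟨W', g, E', k, ‹_›, ‹_›⟩ ⟨W, 𝟙 W, E, h, ‹_›, ‹_›⟩ g (Category.comp_id g)
  have w₁ : k ≫ bcM hf (𝟙 E') = 𝟙 W' ≫ k := compat_id _ (Category.id_comp k).symm
  have w₂ : k ≫ bcM hf g' = 𝟙 W' ≫ g ≫ h := w.trans (Category.id_comp _).symm
  have e := c W' (𝟙 W') E' (𝟙 E') g' k w₁ w₂ ‹_› ‹_›
  rw [μ_id, μr, μ_comp (w'' := by rw [Category.comp_id, Category.id_comp]; exact w),
    μ_congr (Category.id_comp g) (Category.comp_id g') _ w] at e
  exact (fam_congr y.1 k ‹_› ‹_› (Category.id_comp g)).trans e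

theorem bijective_pullEv [IsAffine W.obj.left.left] [IsAffine E.obj.left.left] (h : W ⟶ bcO hf E) :
    Function.Bijective (pullEv G h) := by
  let c₀ : PChart hf W := ⟨W, 𝟙 W, E, h, ‹_›, ‹_›⟩
  refine ⟨fun x y e => ?_, fun z => ?_⟩
  · have e' : (show Fam hf G W from x).1 c₀ = (show Fam hf G W from y).1 c₀ := e
    refine Subtype.ext (funext fun c => ?_)
    have := c.hZ
    have := c.hE
    have hx := (show Fam hf G W from x).2 c c₀ c.a (Category.comp_id _)
    have hy := (show Fam hf G W from y).2 c c₀ c.a (Category.comp_id _)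
    rw [e'] at hx
    exact hx.symm.unique hy.symm
  · have hex : ∀ c : PChart hf W, ∃ t : PT G c.h, Compat (c.a ≫ h) c.h (μr G c.a rfl z) t := fun c => by
      have := c.hZ
      have := c.hE
      exact exists_compat _ _ _
    choose x hx using hex
    refine ⟨(show sectModEt (pullQC hf G) W from (⟨x, fun c c' l e => ?_⟩ : Fam hf G W)), ?_⟩
    · have := c.hZ
      have w₁ : c.a ≫ h = l ≫ c'.a ≫ h := by rw [← Category.assoc, e]
      have h₁ := (hx c').restrict l (h₁ := c.a ≫ h) (h₁' := l ≫ c'.h) w₁ rfl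
      rw [μr_comp (w'' := by rw [e])] at h₁
      refine (hx c).symm.trans ?_
      rwa [show μr G (l ≫ c'.a) (by rw [e]) z = μr G c.a (rfl : c.a ≫ h = c.a ≫ h) z from
        μ_congr e rfl _ _ z] at h₁
    · change x c₀ = z
      have e₂ : ∀ (k : W ⟶ bcO hf E) (w : k = 𝟙 W ≫ h) (t : PT G h), Compat k h (μr G (𝟙 W) w z) t → z = t := by
        intro k w t c
        obtain rfl : k = h := w.trans (Category.id_comp _)
        rw [μr_refl] at c
        exact c.eq
      exact (e₂ _ rfl _ (hx c₀)).symm

theorem bc_pullQC [IsAffine W.obj.left.left] [IsAffine W'.obj.left.left] [IsAffine E.obj.left.left]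
    (h : W ⟶ bcO hf E) (g : W' ⟶ W) : BC (pullQC hf G) g := by
  let _ := (gm g).toAlgebra
  refine (isBC_iff (A := gr W) (rs (pullQC hf G) g) (rs_smul g)).2 ?_
  let e : sectModEt (pullQC hf G) W ≃ₗ[gr W] PT G h :=
    LinearEquiv.ofBijective { __ := pullEv G h, map_smul' := pullEv_smul h } (bijective_pullEv h)
  have key : ∀ x, pullEv G (g ≫ h) (bc (rs (pullQC hf G) g) (rs_smul g) x) =
      bc (μr G g (rfl : g ≫ h = g ≫ h)) (μr_smul _ _)
        (TensorProduct.AlgebraTensorModule.congr (LinearEquiv.refl (gr W') (gr W')) e x) := fun x => by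
    induction x using TensorProduct.induction_on with
    | zero => simp only [map_zero]
    | add x y hx hy => simp only [map_add, hx, hy]
    | tmul r s =>
      rw [bc_tmul, pullEv_smul, pullEv_rs h (g ≫ h) g (𝟙 E) (compat_id g rfl) s,
        TensorProduct.AlgebraTensorModule.congr_tmul, bc_tmul]
      rfl
  refine (Function.Bijective.of_comp_iff' (bijective_pullEv (G := G) (g ≫ h)) _).1 ?_
  rw [show pullEv G (g ≫ h) ∘ bc (rs (pullQC hf G) g) (rs_smul g) = _ from funext key]
  exact (bijective_bc_μr (G := G) g (rfl : g ≫ h = g ≫ h)).comp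
    (TensorProduct.AlgebraTensorModule.congr (LinearEquiv.refl (gr W') (gr W')) e).bijective

variable (hf G) in
theorem isQuasicoherent_pullQC : (pullQC hf G).IsQuasicoherent :=
  SheafOfModules.QuasicoherentData.isQuasicoherent (M := pullQC hf G)
    { I := {V : EtOver X.obj // IsAffine V.obj.left.left ∧
        ∃ (E : EtOver Y.obj) (_ : IsAffine E.obj.left.left), Nonempty (V ⟶ bcO hf E)}
      X := fun i => i.1
      coversTop := coversTop_charts hf
      presentation := fun i =>
        presentationOfPres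
          (have := i.2.1
           pres_id_of_bc fun W g hW => by
            obtain ⟨E, hE, ⟨h⟩⟩ := i.2.2
            exact bc_pullQC h g)
          (Subtype.val : {c // c ∈ LinearMap.ker (lc (id : sectModEt (pullQC hf G) i.1 →
            sectModEt (pullQC hf G) i.1))} → _)
          (eq_span_range_subtype _) }

end Groth.Agent.AlgSpQC
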