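import Groth.Agent.AlgSpQC.PullEval
import Groth.Agent.AlgSpQC.Hom

/-!
# The unit of the constructed inverse image
-/

universe u

open CategoryTheory CategoryTheory.Limits AlgebraicGeometry Opposite TensorProduct

set_option backward.isDefEq.respectTransparency false
set_option backward.isDefEq.respectTransparency.types false
set_option autoImplicit false

namespace Groth.Agent.AlgSpQC

open _root_.AlgSp

variable {S : Scheme.{u}} {X Y : Space S} {f : X.obj ⟶ Y.obj} {hf : Representable f} {G : ModEt Y.obj}
  [G.IsQuasicoherent] {Z : EtOver X.obj} {E E' : EtOver Y.obj}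

/-- A tensor is compatible with its pullback along a map of charts. -/
theorem compat_μ {h : Z ⟶ bcO hf E} {h' : Z ⟶ bcO hf E'} (g : E' ⟶ E) (w : h' ≫ bcM hf g = 𝟙 Z ≫ h)
    (x : PT G h) : Compat h h' x (μ G h h' (𝟙 Z) g w x) := by
  refine compat_of_local fun z => ?_
  obtain ⟨Z₁, l₁, W, g'', g''', k, -, -, w₁, -, hz⟩ := exists_common_ref h' h' z
  have w₂ : k ≫ bcM hf (g'' ≫ g) = l₁ ≫ h := by
    rw [bcM_comp, ← Category.assoc, w₁, Category.assoc, w, Category.id_comp]
  refine ⟨Z₁, l₁, W, g'' ≫ g, g'', k, w₂, w₁, hz, ?_⟩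
  rw [μ_comp (w'' := by rw [Category.comp_id]; exact w₂)]
  exact μ_congr (Category.comp_id l₁).symm rfl _ _ x

variable (hf) in
/-- The family of pullbacks of a section. -/
theorem exists_unitFam (n : sectModEt G E) :
    ∃ t : Fam hf G (bcO hf E), ∀ c : PChart hf (bcO hf E), Compat c.a c.h (tm c.a 1 n) (t.1 c) := by
  have hex : ∀ c : PChart hf (bcO hf E), ∃ y : PT G c.h, Compat c.a c.h (tm c.a 1 n) y := fun c => by
    have := c.hZ
    have := c.hE
    exact exists_compat _ _ _
  choose y hy using hex
  refine ⟨⟨y, fun c c' l e => ?_⟩, hy⟩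
  have h₁ := (hy c').restrict l (h₁ := c.a) (h₁' := l ≫ c'.h) e.symm rfl
  rw [μr, μ_tm, map_one, rs_id] at h₁
  exact (hy c).symm.trans h₁

theorem unitFam_unique {n : sectModEt G E} {c : PChart hf (bcO hf E)} {y y' : PT G c.h}
    (h : Compat c.a c.h (tm c.a 1 n) y) (h' : Compat c.a c.h (tm c.a 1 n) y') : y = y' := by
  have := c.hZ
  have := c.hE
  exact h.unique h'

variable (hf G) in
/-- The unit on sections. -/
noncomputable def unitFun (E : EtOver Y.obj) (n : sectModEt G E) :
    sectModEt ((pushModEt hf).obj (pullQC hf G)) E :=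
  (pushSect hf (pullQC hf G) E).symm (exists_unitFam hf n).choose

theorem unitFun_spec (n : sectModEt G E) (c : PChart hf (bcO hf E)) :
    Compat c.a c.h (tm c.a 1 n)
      ((show Fam hf G (bcO hf E) from pushSect hf (pullQC hf G) E (unitFun hf G E n)).1 c) :=
  (exists_unitFam hf n).choose_spec c

theorem pullFam_ext {W : EtOver X.obj} {x y : sectModEt (pullQC hf G) W}
    (h : ∀ c : PChart hf W, (show Fam hf G W from x).1 c = (show Fam hf G W from y).1 c) : x = y :=
  Subtype.ext (funext h)

theorem unitFun_add (n n' : sectModEt G E) :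
    unitFun hf G E (n + n') = unitFun hf G E n + unitFun hf G E n' := by
  refine (pushSect hf (pullQC hf G) E).injective (pullFam_ext fun c => ?_)
  refine unitFam_unique (unitFun_spec (n + n') c) ?_
  rw [tm_add_right, map_add]
  exact (unitFun_spec n c).add (unitFun_spec n' c)

theorem unitFun_smul (r : gr E) (n : sectModEt G E) : unitFun hf G E (r • n) = r • unitFun hf G E n := by
  refine (pushSect hf (pullQC hf G) E).injective (pullFam_ext fun c => ?_)
  refine unitFam_unique (unitFun_spec (r • n) c) ?_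
  rw [pushSect_smul]
  have h := (unitFun_spec n c).smul (gm c.a (gπ hf E r))
  rw [smul_tm, tm_smul] at h
  exact h

theorem unitFun_rs (g : E' ⟶ E) (n : sectModEt G E) :
    unitFun hf G E' (rs G g n) = rs ((pushModEt hf).obj (pullQC hf G)) g (unitFun hf G E n) := by
  refine (pushSect hf (pullQC hf G) E').injective (pullFam_ext fun c => ?_)
  refine unitFam_unique (unitFun_spec (rs G g n) c) ?_
  rw [pushSect_rs]
  change Compat c.a c.h _ ((show Fam hf G (bcO hf E) from pushSect hf (pullQC hf G) E (unitFun hf G E n)).1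
    (c.comp (bcM hf g)))
  have w : c.a ≫ bcM hf g = 𝟙 c.Z ≫ c.a ≫ bcM hf g := (Category.id_comp _).symm
  have e := compat_μ (G := G) g w (tm (c.a ≫ bcM hf g) 1 n)
  rw [μ_tm, map_one] at e
  exact e.symm.trans (unitFun_spec n (c.comp (bcM hf g)))

variable (hf G) in
/-- The unit of the constructed inverse image. -/
noncomputable def pullUnit : G ⟶ (pushModEt hf).obj (pullQC hf G) :=
  ⟨PresheafOfModules.homMk
    { app := fun E => AddCommGrpCat.ofHom (AddMonoidHom.mk' (unitFun hf G E.unop) fun n n' => unitFun_add n n')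
      naturality := fun E E' g => by
        ext n
        exact unitFun_rs g.unop n }
    fun E r n => by
      obtain ⟨a⟩ := r
      exact unitFun_smul (show gr E.unop from a) n⟩

theorem hs_pullUnit (E : EtOver Y.obj) (n : sectModEt G E) :
    hs (pullUnit hf G) E n = unitFun hf G E n := rfl

theorem pullEv_unit [IsAffine Z.obj.left.left] [IsAffine E.obj.left.left] (h : Z ⟶ bcO hf E)
    (n : sectModEt G E) :
    pullEv G h (rs (pullQC hf G) h (pushSect hf (pullQC hf G) E (hs (pullUnit hf G) E n))) = tm h 1 n := by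
  have hs' := unitFun_spec n (⟨Z, h, E, h, ‹_›, ‹_›⟩ : PChart hf (bcO hf E))
  exact (fam_congr _ h ‹_› ‹_› (Category.id_comp h)).trans hs'.eq.symm

end Groth.Agent.AlgSpQC
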