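import Groth.Agent.AlgSpQC.PushQcqsGeom

/-!
# Direct images along quasi-compact quasi-separated representable morphisms are quasi-coherent
-/

universe u

open CategoryTheory CategoryTheory.Limits AlgebraicGeometry Opposite TensorProduct

set_option backward.isDefEq.respectTransparency false
set_option backward.isDefEq.respectTransparency.types false
set_option autoImplicit false

namespace Groth.Agent.AlgSpQC

open _root_.AlgSp

variable {S : Scheme.{u}} {X Y : Sp S} {f : X ⟶ Y} (hf : Representable f) (M : ModEt X) {E E' : EtOver Y}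

/-- The module structure over the functions of a chart on the sections over its base change. -/
noncomputable abbrev overE {V : EtOver X} (h : V ⟶ bcO hf E) : Module (gr E) (sectModEt M V) :=
  Module.compHom (sectModEt M V) ((gm h).comp (gπ hf E))

theorem exists_bc_square' [IsAffine E.obj.left.left] [M.IsQuasicoherent] (g : E' ⟶ E) {V P : EtOver X}
    [IsAffine V.obj.left.left] [IsAffine P.obj.left.left] (a : V ⟶ bcO hf E) (p : P ⟶ bcO hf E') (q : P ⟶ V)
    (w : p ≫ bcM hf g = q ≫ a)
    (h : IsPushout (CommRingCat.ofHom (gm g)) (CommRingCat.ofHom ((gm a).comp (gπ hf E)))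
      (CommRingCat.ofHom ((gm p).comp (gπ hf E'))) (CommRingCat.ofHom (gm q))) :
    letI := (gm g).toAlgebra
    letI := overE hf M a
    ∃ Φ : gr E' ⊗[gr E] sectModEt M V →+ sectModEt M P,
      Function.Bijective Φ ∧ ∀ u n, Φ (u ⊗ₜ n) = gm p (gπ hf E' u) • rs M q n := by
  let _ := (gm g).toAlgebra
  let _ := ((gm a).comp (gπ hf E)).toAlgebra
  let _ := ((gm p).comp (gπ hf E')).toAlgebra
  let _ := (gm q).toAlgebra
  let _ : Algebra (gr E) (gr P) := ((gm q).comp ((gm a).comp (gπ hf E))).toAlgebra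
  let _ := overE hf M a
  have : IsScalarTower (gr E) (gr E') (gr P) := .of_algebraMap_eq fun x => by
    change gm q (gm a (gπ hf E x)) = gm p (gπ hf E' (gm g x))
    rw [gπ_gm, ← gm_comp, ← gm_comp, w]
  have : IsScalarTower (gr E) (gr V) (gr P) := .of_algebraMap_eq fun x => rfl
  have : IsScalarTower (gr E) (gr V) (sectModEt M V) := .of_algebraMap_smul fun _ _ => rfl
  have : Algebra.IsPushout (gr E) (gr E') (gr V) (gr P) := CommRingCat.isPushout_iff_isPushout.1 h
  exact ⟨bcPush (rs M q) (rs_smul q), bcPush_bijective (rs M q) (rs_smul q) (bc_of_isQuasicoherent q),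
    bcPush_tmul (rs M q) (rs_smul q)⟩

variable (E) in
/-- Sections of the direct image restricted to a family over the base change. -/
noncomputable def etaPush {κ : Type u} {V : κ → EtOver X} (v : ∀ k, V k ⟶ bcO hf E) :
    letI := fun k => overE hf M (v k)
    sectModEt ((pushModEt hf).obj M) E →ₗ[gr E] ∀ k, sectModEt M (V k) :=
  letI := fun k => overE hf M (v k)
  { toFun := fun x k => rs M (v k) (pushSect hf M E x)
    map_add' := fun x y => funext fun k => (congrArg (rs M (v k)) (map_add _ x y)).trans (map_add _ _ _)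
    map_smul' := fun c x => funext fun k =>
      (congrArg (rs M (v k)) (pushSect_smul hf M E c x)).trans (rs_smul (v k) _ _) }

/-- The differences of restrictions on a family of overlaps. -/
noncomputable def deltaPush {κ ρ : Type u} {V : κ → EtOver X} (v : ∀ k, V k ⟶ bcO hf E) {W : ρ → EtOver X}
    (i j : ρ → κ) (p : ∀ t, W t ⟶ V (i t)) (q : ∀ t, W t ⟶ V (j t)) (hpq : ∀ t, p t ≫ v (i t) = q t ≫ v (j t)) :
    letI := fun k => overE hf M (v k)
    letI := fun t => overE hf M (p t ≫ v (i t))
    (∀ k, sectModEt M (V k)) →ₗ[gr E] ∀ t, sectModEt M (W t) :=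
  letI := fun k => overE hf M (v k)
  letI := fun t => overE hf M (p t ≫ v (i t))
  { toFun := fun y t => rs M (p t) (y (i t)) - rs M (q t) (y (j t))
    map_add' := fun x y => funext fun t => by
      simp only [Pi.add_apply, map_add]
      abel
    map_smul' := fun c y => funext fun t => by
      change rs M (p t) (gm (v (i t)) (gπ hf E c) • y (i t)) - rs M (q t) (gm (v (j t)) (gπ hf E c) • y (j t)) =
        gm (p t ≫ v (i t)) (gπ hf E c) • (rs M (p t) (y (i t)) - rs M (q t) (y (j t)))
      rw [rs_smul, rs_smul, ← gm_comp, ← gm_comp, ← hpq, smul_sub] }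

theorem exact_etaPush {κ ρ : Type u} {V : κ → EtOver X} (v : ∀ k, V k ⟶ bcO hf E)
    (hv : ∀ x : (bcO hf E).obj.left.left, ∃ k, x ∈ Set.range (v k).hom.left.left) {W : ρ → EtOver X}
    (i j : ρ → κ) (p : ∀ t, W t ⟶ V (i t)) (q : ∀ t, W t ⟶ V (j t)) (hpq : ∀ t, p t ≫ v (i t) = q t ≫ v (j t))
    (hmatch : ∀ y : ∀ k, sectModEt M (V k), (∀ t, rs M (p t) (y (i t)) = rs M (q t) (y (j t))) →
      ∀ a b (Z : EtOver X) (ga : Z ⟶ V a) (gb : Z ⟶ V b), ga ≫ v a = gb ≫ v b → rs M ga (y a) = rs M gb (y b)) :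
    Function.Exact (etaPush hf M E v) (deltaPush hf M v i j p q hpq) := by
  intro y
  constructor
  · intro hy
    obtain ⟨x, hx⟩ := exists_glue_sections (M := M) v hv y
      (hmatch y fun t => sub_eq_zero.1 (congrFun hy t))
    exact ⟨(pushSect hf M E).symm x, funext fun k => (congrArg (rs M (v k)) ((pushSect hf M E).apply_symm_apply x)).trans (hx k)⟩
  · rintro ⟨x, rfl⟩
    refine funext fun t => sub_eq_zero.2 ?_
    change rs M (p t) (rs M (v (i t)) (pushSect hf M E x)) = rs M (q t) (rs M (v (j t)) (pushSect hf M E x))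
    rw [← rs_comp, ← rs_comp, hpq]

/-- Finitely many affine objects detecting agreement on overlaps. -/
theorem exists_overlap_family (B : EtOver X) [QuasiSeparatedSpace B.obj.left.left] {κ : Type u} [Finite κ]
    {V : κ → EtOver X} (v : ∀ k, V k ⟶ B) (hV : ∀ k, IsAffine (V k).obj.left.left) :
    ∃ (ρ : Type u) (_ : Finite ρ) (W : ρ → EtOver X) (i j : ρ → κ) (p : ∀ t, W t ⟶ V (i t))
      (q : ∀ t, W t ⟶ V (j t)), (∀ t, IsAffine (W t).obj.left.left) ∧ (∀ t, p t ≫ v (i t) = q t ≫ v (j t)) ∧
        ∀ y : ∀ k, sectModEt M (V k), (∀ t, rs M (p t) (y (i t)) = rs M (q t) (y (j t))) →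
          ∀ a b (Z : EtOver X) (ga : Z ⟶ V a) (gb : Z ⟶ V b), ga ≫ v a = gb ≫ v b →
            rs M ga (y a) = rs M gb (y b) := by
  choose L hL W g hW hcov using fun r : κ × κ =>
    (have := hV r.1; have := hV r.2; have := compactSpace_pullbackObj (v r.1) (v r.2);
      exists_finite_affine_cover (EtOver.pullbackObj (v r.1) (v r.2)))
  refine ⟨Σ r : κ × κ, L r, inferInstance, fun t => W t.1 t.2, fun t => t.1.1, fun t => t.1.2,
    fun t => g t.1 t.2 ≫ EtOver.pullbackFst _ _, fun t => g t.1 t.2 ≫ EtOver.pullbackSnd _ _,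
    fun t => hW t.1 t.2, fun t => by rw [Category.assoc, Category.assoc, EtOver.pullback_condition],
    fun y hy a b Z ga gb h => ?_⟩
  have key : rs M (EtOver.pullbackFst (v a) (v b)) (y a) = rs M (EtOver.pullbackSnd (v a) (v b)) (y b) :=
    eq_of_family (g (a, b)) (hcov (a, b)) fun l => by
      rw [← rs_comp, ← rs_comp]
      exact hy ⟨(a, b), l⟩
  obtain ⟨l, rfl, rfl⟩ : ∃ l, l ≫ EtOver.pullbackFst (v a) (v b) = ga ∧ l ≫ EtOver.pullbackSnd (v a) (v b) = gb :=
    ⟨_, PullbackCone.IsLimit.lift' (EtOver.pullbackIsLimit (v a) (v b)) ga gb h |>.2⟩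
  rw [rs_comp, rs_comp, key]

theorem rs_push_smul_aux {P : EtOver X} (g : E' ⟶ E) (p : P ⟶ bcO hf E') (u : gr E')
    (n : sectModEt ((pushModEt hf).obj M) E) :
    rs M p (pushSect hf M E' (u • rs ((pushModEt hf).obj M) g n)) =
      gm p (gπ hf E' u) • rs M (p ≫ bcM hf g) (pushSect hf M E n) := by
  rw [pushSect_smul, rs_smul, pushSect_rs, ← rs_comp]

/-- Direct images of quasi-coherent modules along quasi-compact quasi-separated morphisms are quasi-coherent. -/
theorem isQuasicoherent_push_qcqs (hqc : IsQuasiCompactMor f) (hqs : IsQuasiSeparatedMor f) [M.IsQuasicoherent] :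
    ((pushModEt hf).obj M).IsQuasicoherent := by
  refine isQuasicoherent_of_bc fun E E' g hE hE' => ?_
  have := compactSpace_bcO hf hqc E
  have := quasiSeparatedSpace_bcO hf hqs E
  obtain ⟨κ, hκ, V, v, hV, hv⟩ := exists_finite_affine_cover (bcO hf E)
  obtain ⟨ρ, hρ, W, i, j, p, q, hW, hpq, hmatch⟩ := exists_overlap_family M (bcO hf E) v hV
  choose P a b hP hab hPpush hPuniv using fun k => (have := hV k; exists_bc_overlap hf g (v k))
  choose Q c d hQ hcd hQpush _ using fun t => (have := hW t; exists_bc_overlap hf g (p t ≫ v (i t)))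
  let _ := (gm g).toAlgebra
  have : Module.Flat (gr E) (gr E') := flat_gm g
  let _ := fun k => overE hf M (v k)
  let _ := fun t => overE hf M (p t ≫ v (i t))
  choose Φ hΦ hΦt using fun k =>
    (have := hV k; have := hP k; exists_bc_square' hf M g (v k) (a k) (b k) (hab k) (hPpush k))
  choose Φ' hΦ' hΦt' using fun t =>
    (have := hW t; have := hQ t; exists_bc_square' hf M g (p t ≫ v (i t)) (c t) (d t) (hcd t) (hQpush t))
  choose e he₁ he₂ using fun t => hPuniv (i t) (Q t) (c t) (d t ≫ p t) (by rw [hcd, Category.assoc])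
  choose e' he'₁ he'₂ using fun t => hPuniv (j t) (Q t) (c t) (d t ≫ q t) (by rw [hcd, Category.assoc, hpq])
  refine (isBC_iff (A := gr E) (rs ((pushModEt hf).obj M) g) (rs_smul g)).2 ?_
  refine bijective_of_exact (etaPush hf M E v) (deltaPush hf M v i j p q hpq) ?_
    (exact_etaPush hf M v hv i j p q hpq hmatch)
    ((AddMonoidHom.pi fun k => rs M (a k)).comp (pushSect hf M E').toAddMonoidHom)
    (fun z t => rs M (e t) (z (i t)) - rs M (e' t) (z (j t))) ?_ ?_
    (bc (rs ((pushModEt hf).obj M) g) (rs_smul g)).toAddMonoidHom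
    (bcPi Φ) (bcPi Φ') (bcPi_bijective Φ hΦ) (bcPi_injective Φ' fun t => (hΦ' t).1) ?_ ?_
  · exact fun x y h => (pushSect hf M E).injective (eq_of_family v hv (congrFun h))
  · intro x y h
    refine (pushSect hf M E').injective
      (eq_of_sieve (GrothendieckTopology.pullback_stable _ (bcM hf g) (AlgSp.ofArrows_mem_etTop V v hv))
      fun Z h' hh => ?_)
    obtain ⟨k, α, hα⟩ := Sieve.mem_ofArrows_iff .. |>.1 hh
    obtain ⟨l, rfl, -⟩ := hPuniv k Z h' α hα
    rw [rs_comp, rs_comp]
    exact congrArg (rs M l) (congrFun h k)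
  · intro l
    refine funext fun t => sub_eq_zero.2 ?_
    change rs M (e t) (rs M (a (i t)) (pushSect hf M E' l)) = rs M (e' t) (rs M (a (j t)) (pushSect hf M E' l))
    rw [← rs_comp, ← rs_comp, he₁, he'₁]
  · intro x
    induction x using TensorProduct.induction_on with
    | zero => simp only [map_zero]
    | add x y hx hy => simp only [map_add, hx, hy]
    | tmul u n =>
      funext k
      change Φ k (u ⊗ₜ rs M (v k) (pushSect hf M E n)) =
        rs M (a k) (pushSect hf M E' (u • rs ((pushModEt hf).obj M) g n))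
      rw [hΦt, rs_push_smul_aux, ← rs_comp, hab]
  · intro y
    induction y using TensorProduct.induction_on with
    | zero => funext t; simp
    | add x y hx hy =>
      funext t
      simp only [map_add, Pi.add_apply, hx, hy]
      abel
    | tmul u n =>
      funext t
      change Φ' t (u ⊗ₜ (rs M (p t) (n (i t)) - rs M (q t) (n (j t)))) =
        rs M (e t) (Φ (i t) (u ⊗ₜ n (i t))) - rs M (e' t) (Φ (j t) (u ⊗ₜ n (j t)))
      rw [hΦt', hΦt, hΦt, map_sub, smul_sub, rs_smul, rs_smul, ← gm_comp, ← gm_comp, ← rs_comp, ← rs_comp,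
        ← rs_comp, ← rs_comp, he₁, he'₁, he₂, he'₂]

end Groth.Agent.AlgSpQC
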