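import Groth.Agent.AlgSpQC.Abelian

/-!
# Extensions of quasi-coherent modules with finitely generated quotient
-/

universe u

open CategoryTheory CategoryTheory.Limits AlgebraicGeometry Opposite TensorProduct

set_option backward.isDefEq.respectTransparency false
set_option autoImplicit false

namespace Groth.Agent.AlgSpQC

open _root_.AlgSp

variable {S : Scheme.{u}} {X : Sp S} {T : ShortComplex (ModEt X)}

/-- Sections of the subobject and lifts of generators of the quotient, as one family. -/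
noncomputable abbrev extFam {V : EtOver X} {I : Type (u + 1)} (l : I → sectModEt T.X₂ V) :
    sectModEt T.X₁ V ⊕ I → sectModEt T.X₂ V :=
  Sum.elim (hs T.f V) l

theorem sr_extFam_inl {V W : EtOver X} (g : W ⟶ V) {I : Type (u + 1)} (l : I → sectModEt T.X₂ V)
    (c : sectModEt T.X₁ V →₀ gr W) :
    lc (sr g (extFam l)) (c.mapDomain Sum.inl) = hs T.f W (lc (sr g id) c) := by
  rw [Finsupp.linearCombination_mapDomain, hs_lc]
  exact congrArg (fun t => lc t c) (funext fun i => (hs_rs T.f g i).symm)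

theorem sr_extFam_inr {V W : EtOver X} (g : W ⟶ V) {I : Type (u + 1)} (l : I → sectModEt T.X₂ V)
    (c : I →₀ gr W) : lc (sr g (extFam l)) (c.mapDomain Sum.inr) = lc (sr g l) c := by
  rw [Finsupp.linearCombination_mapDomain]
  rfl

theorem cmap_mapDomain {B B' : Type u} [CommRing B] [CommRing B'] (φ : B →+* B') {α β : Type*} (f : α → β)
    (x : α →₀ B) : cmap φ (x.mapDomain f) = (cmap φ x).mapDomain f := by
  induction x using Finsupp.induction_linear with
  | zero => simp [cmap_zero]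
  | add x y hx hy => simp [cmap_add, Finsupp.mapDomain_add, hx, hy]
  | single i a => simp [cmap_single]

theorem exists_add_mem_relSpan (hT : T.Exact) [Mono T.f] {V W : EtOver X} (g : W ⟶ V) {I : Type (u + 1)}
    (l : I → sectModEt T.X₂ V) {d : I →₀ gr W} (hd : d ∈ relSpan g fun i => hs T.g V (l i)) :
    ∃ d₁ : sectModEt T.X₁ V →₀ gr W,
      d.mapDomain Sum.inr + d₁.mapDomain Sum.inl ∈ relSpan g (extFam l) := by
  induction hd using Submodule.span_induction with
  | mem x hx =>
    obtain ⟨k, hk, rfl⟩ := hx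
    rw [SetLike.mem_coe, LinearMap.mem_ker, ← hs_lc] at hk
    obtain ⟨a, ha⟩ := (exact_hs T hT V _).1 hk
    refine ⟨cmap (gm g) (-Finsupp.single a 1), Submodule.subset_span
      ⟨k.mapDomain Sum.inr + (-Finsupp.single a 1).mapDomain Sum.inl, ?_, ?_⟩⟩
    · rw [SetLike.mem_coe, LinearMap.mem_ker, map_add, Finsupp.linearCombination_mapDomain,
        Finsupp.linearCombination_mapDomain, map_neg, Finsupp.linearCombination_single, one_smul]
      exact sub_eq_zero.2 ha.symm |> (sub_eq_add_neg _ _).symm.trans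
    · rw [cmap_add, cmap_mapDomain, cmap_mapDomain]
  | zero => exact ⟨0, by simp⟩
  | add x y _ _ hx hy =>
    obtain ⟨a, ha⟩ := hx
    obtain ⟨b, hb⟩ := hy
    refine ⟨a + b, ?_⟩
    rw [Finsupp.mapDomain_add, Finsupp.mapDomain_add, add_add_add_comm]
    exact Submodule.add_mem _ ha hb
  | smul r x _ hx =>
    obtain ⟨a, ha⟩ := hx
    refine ⟨r • a, ?_⟩
    rw [Finsupp.mapDomain_smul, Finsupp.mapDomain_smul, ← smul_add]
    exact Submodule.smul_mem _ _ ha

theorem exists_split {α β R : Type*} [AddCommMonoid R] (c : α ⊕ β →₀ R) :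
    ∃ (a : α →₀ R) (b : β →₀ R), c = a.mapDomain Sum.inl + b.mapDomain Sum.inr := by
  induction c using Finsupp.induction_linear with
  | zero => exact ⟨0, 0, by simp⟩
  | add x y hx hy =>
    obtain ⟨a, b, rfl⟩ := hx
    obtain ⟨a', b', rfl⟩ := hy
    exact ⟨a + a', b + b', by rw [Finsupp.mapDomain_add, Finsupp.mapDomain_add, add_add_add_comm]⟩
  | single i r =>
    cases i with
    | inl i => exact ⟨Finsupp.single i r, 0, by simp⟩
    | inr i => exact ⟨0, Finsupp.single i r, by simp⟩

theorem mem_relSpan_extFam_inl [T.X₁.IsQuasicoherent] {V W : EtOver X} [IsAffine V.obj.left.left]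
    [IsAffine W.obj.left.left] (g : W ⟶ V) {I : Type (u + 1)} (l : I → sectModEt T.X₂ V)
    {c : sectModEt T.X₁ V →₀ gr W} (hc : lc (sr g id) c = 0) :
    c.mapDomain Sum.inl ∈ relSpan g (extFam l) := by
  have h := (pres_id T.X₁ V).mem_relSpan g hc
  let F : (sectModEt T.X₁ V →₀ gr W) →ₗ[gr W] (sectModEt T.X₁ V ⊕ I →₀ gr W) := Finsupp.lmapDomain _ _ Sum.inl
  have hF := Submodule.mem_map_of_mem (f := F) h
  rw [Submodule.map_span] at hF
  refine Submodule.span_mono ?_ hF
  rintro _ ⟨_, ⟨k, hk, rfl⟩, rfl⟩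
  refine ⟨k.mapDomain Sum.inl, ?_, cmap_mapDomain _ _ _⟩
  rw [SetLike.mem_coe, LinearMap.mem_ker] at hk ⊢
  rw [Finsupp.linearCombination_mapDomain]
  refine Eq.trans ?_ ((congrArg (hs T.f V) hk).trans (map_zero _))
  exact (hs_lc T.f V id k).symm

theorem pres_extFam (hT : T.Exact) [Mono T.f] [T.X₁.IsQuasicoherent] [T.X₃.IsQuasicoherent] {V : EtOver X}
    [IsAffine V.obj.left.left] {I : Type (u + 1)} (l : I → sectModEt T.X₂ V)
    (hl : Submodule.span (gr V) (Set.range fun i => hs T.g V (l i)) = ⊤) : Pres (extFam l) := by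
  have hP := pres_of_generators (M := T.X₃) hl
  refine ⟨fun E' g m => ?_, fun E' g c hc => ?_⟩
  · obtain ⟨J, hJ, hJ'⟩ := exists_affine_sieve E'
    refine ⟨J, hJ, fun V' h hh => ?_⟩
    obtain ⟨W, a, b, hW, rfl⟩ := hJ' V' h hh
    obtain ⟨c₂, hc₂⟩ := hP.exists_lc_eq' (b ≫ g) (hs T.g W (rs T.X₂ b m))
    have h0 : hs T.g W (rs T.X₂ b m - lc (sr (b ≫ g) l) c₂) = 0 := by
      rw [map_sub, sub_eq_zero, ← hc₂, hs_lc]
      exact congrArg (fun t => lc t c₂) (funext fun i => (hs_rs T.g (b ≫ g) (l i)).symm)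
    obtain ⟨x, hx⟩ := (exact_hs T hT W _).1 h0
    obtain ⟨c₁, hc₁⟩ := (pres_id T.X₁ V).exists_lc_eq' (b ≫ g) x
    have e : lc (sr (b ≫ g) (extFam l)) (c₁.mapDomain Sum.inl + c₂.mapDomain Sum.inr) = rs T.X₂ b m := by
      rw [map_add, sr_extFam_inl, sr_extFam_inr, hc₁, hx, sub_add_cancel]
    refine Finsupp.mem_span_range_iff_exists_finsupp.2
      ⟨cmap (gm a) (c₁.mapDomain Sum.inl + c₂.mapDomain Sum.inr), ?_⟩
    rw [rs_comp, ← e, Category.assoc, ← sr_sr, ← Finsupp.linearCombination_apply]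
    exact (rs_lc a _ _).symm
  · obtain ⟨J, hJ, hJ'⟩ := exists_affine_sieve E'
    refine ⟨J, hJ, fun V' h hh => ?_⟩
    obtain ⟨W, a, b, hW, rfl⟩ := hJ' V' h hh
    have hcW : lc (sr (b ≫ g) (extFam l)) (cmap (gm b) c) = 0 := by
      rw [← sr_sr, ← rs_lc, hc, map_zero]
    obtain ⟨c₁, c₂, e⟩ := exists_split (cmap (gm b) c)
    rw [e, map_add, sr_extFam_inl, sr_extFam_inr] at hcW
    have h₂ : lc (sr (b ≫ g) fun i => hs T.g V (l i)) c₂ = 0 := by
      have := congrArg (hs T.g W) hcW
      rw [map_add, map_zero, ← hs_comp, T.zero, hs_zero, zero_add, hs_lc] at this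
      refine Eq.trans ?_ this
      exact congrArg (fun t => lc t c₂) (funext fun i => (hs_rs T.g (b ≫ g) (l i)).symm)
    obtain ⟨d₁, hd⟩ := exists_add_mem_relSpan hT (b ≫ g) l (hP.mem_relSpan (b ≫ g) h₂)
    have hd0 := lc_eq_zero_of_mem_relSpan (b ≫ g) (extFam l) hd
    rw [map_add, sr_extFam_inl, sr_extFam_inr] at hd0
    have h₁ : lc (sr (b ≫ g) id) (c₁ - d₁) = 0 := hs_injective T.f W (by
      rw [map_sub, map_sub, map_zero, eq_neg_of_add_eq_zero_left hcW, eq_neg_of_add_eq_zero_right hd0, sub_self])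
    have hmem := Submodule.add_mem _ hd (mem_relSpan_extFam_inl (b ≫ g) l h₁)
    have e' : cmap (gm b) c =
        c₂.mapDomain Sum.inr + d₁.mapDomain Sum.inl + (c₁ - d₁).mapDomain Sum.inl := by
      rw [e, add_assoc, ← Finsupp.mapDomain_add, add_sub_cancel, add_comm]
    rw [← e'] at hmem
    have := cmap_mem_span (gm (b ≫ g)) (gm a) (gm ((a ≫ b) ≫ g)) (fun x => by rw [Category.assoc, gm_comp]) hmem
    rwa [cmap_cmap (gm b) (gm a) (gm (a ≫ b)) (fun x => gm_comp b a x)] at this

/-- An extension of quasi-coherent modules with finitely generated quotient is quasi-coherent. -/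
theorem isQuasicoherent_extension (hT : T.ShortExact) [T.X₁.IsQuasicoherent] [T.X₃.IsQuasicoherent]
    (hfin : ∀ (E : EtOver X), IsAffine E.obj.left.left → Module.Finite (gr E) (sectModEt T.X₃ E)) :
    T.X₂.IsQuasicoherent := by
  classical
  have := hT.mono_f
  have := hT.epi_g
  refine isQuasicoherent_of_bc fun E W g hE hW => ?_
  have := hfin E hE
  obtain ⟨n, t, ht⟩ := exists_finite_generators (M := T.X₃) (E := E)
  choose J hJ hJ' using fun i => exists_local_lift T.g (t i)
  have hinf : ∀ s : Finset (ULift.{u + 1} (Fin n)), s.inf J ∈ etTop X E := fun s => by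
    induction s using Finset.induction_on with
    | empty => rw [Finset.inf_empty]; exact GrothendieckTopology.top_mem _ _
    | insert a s _ ih => rw [Finset.inf_insert]; exact GrothendieckTopology.intersection_covering _ (hJ a) ih
  obtain ⟨κ, _, V, f, hV, hTf, hf⟩ := exists_affine_family (hinf Finset.univ)
  refine bc_of_cover f hf (fun k => ?_) g
  have := hV k
  have hle : ∀ i, J i (f k) := fun i => (Finset.inf_le (f := J) (Finset.mem_univ i)) _ (hTf k)
  choose l hl using fun i => hJ' i _ (f k) (hle i)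
  refine ⟨_, extFam l, pres_extFam hT.exact l ?_⟩
  rw [eq_top_iff, show (fun i => hs T.g (V k) (l i)) = fun i => rs T.X₃ (f k) (t i) from funext hl]
  intro m _
  obtain ⟨c, rfl⟩ := (pres_of_generators (M := T.X₃) ht).exists_lc_eq' (f k) m
  exact Finsupp.mem_span_range_iff_exists_finsupp.2 ⟨c, (Finsupp.linearCombination_apply _ _).symm⟩

theorem finite_extension (hT : T.ShortExact) [T.X₁.IsQuasicoherent] [T.X₂.IsQuasicoherent] [T.X₃.IsQuasicoherent]
    (E : EtOver X) [IsAffine E.obj.left.left] [Module.Finite (gr E) (sectModEt T.X₁ E)]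
    [Module.Finite (gr E) (sectModEt T.X₃ E)] : Module.Finite (gr E) (sectModEt T.X₂ E) := by
  have := hT.mono_f
  have := hT.epi_g
  exact Module.Finite.of_exact (exact_hs T hT.exact E) (hs_surjective T.g E)

end Groth.Agent.AlgSpQC
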