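import Groth.Agent.AlgSpQC.Quot
import Mathlib.RingTheory.IsTensorProduct
import Mathlib.RingTheory.Flat.Basic
import Mathlib.LinearAlgebra.TensorProduct.Pi

/-!
# Base change along semilinear maps
-/

universe u v v₁ v₂ v₃ v₄

open TensorProduct

set_option autoImplicit false

namespace Groth.Agent.AlgSpQC

section Def

variable {A W : Type u} [CommRing A] [CommRing W] {N : Type v} [AddCommGroup N] [Module A N]
  {L : Type v₁} [AddCommGroup L] [Module W L]

/-- `φ` exhibits `L` as the base change of `N` along `p`, phrased with generators and relations. -/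
def IsBC (p : A →+* W) (φ : N →+ L) : Prop :=
  (∀ l, ∃ c : N →₀ W, Finsupp.linearCombination W φ c = l) ∧
    ∀ c : N →₀ W, Finsupp.linearCombination W φ c = 0 →
      c ∈ Submodule.span W (cmap p '' (LinearMap.ker (Finsupp.linearCombination A (id : N → N)) : Set (N →₀ A)))

theorem linearCombination_cmap {p : A →+* W} {φ : N →+ L} (hφ : ∀ a n, φ (a • n) = p a • φ n) {I : Type v₂}
    (s : I → N) (c : I →₀ A) :
    Finsupp.linearCombination W (φ ∘ s) (cmap p c) = φ (Finsupp.linearCombination A s c) := by
  induction c using Finsupp.induction_linear with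
  | zero => simp [cmap_zero]
  | add x y hx hy => simp [cmap_add, map_add, hx, hy]
  | single i a => simp [cmap_single, hφ]

/-- Generators of `N` whose relations generate the relations of their images give a base change. -/
theorem isBC_of_generators {p : A →+* W} {φ : N →+ L} (hφ : ∀ a n, φ (a • n) = p a • φ n) {I : Type v₂}
    (s : I → N) (hs : ∀ n, ∃ c, Finsupp.linearCombination A s c = n)
    (hgen : ∀ l, ∃ c : I →₀ W, Finsupp.linearCombination W (φ ∘ s) c = l)
    (hrel : ∀ c : I →₀ W, Finsupp.linearCombination W (φ ∘ s) c = 0 →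
      c ∈ Submodule.span W (cmap p '' (LinearMap.ker (Finsupp.linearCombination A s) : Set (I →₀ A)))) :
    IsBC p φ := by
  classical
  choose d hd using hs
  refine ⟨fun l => ?_, fun c hc => ?_⟩
  · obtain ⟨c, rfl⟩ := hgen l
    exact ⟨Finsupp.mapDomain s c, Finsupp.linearCombination_mapDomain W s c⟩
  · let K := Submodule.span W
      (cmap p '' (LinearMap.ker (Finsupp.linearCombination A (id : N → N)) : Set (N →₀ A)))
    let D : (N →₀ W) →ₗ[W] (I →₀ W) := Finsupp.linearCombination W fun n => cmap p (d n)
    let E : (I →₀ W) →ₗ[W] (N →₀ W) := Finsupp.lmapDomain W W s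
    have hE : ∀ x : I →₀ A, E (cmap p x) = cmap p (Finsupp.mapDomain s x) := fun x => by
      induction x using Finsupp.induction_linear with
      | zero => simp [cmap_zero]
      | add x y hx hy => simp [cmap_add, map_add, Finsupp.mapDomain_add, hx, hy]
      | single i a => simp [E, cmap_single]
    have h1 : E (D c) ∈ K := by
      have hD' : ∀ y, Finsupp.linearCombination W (φ ∘ s) (D y) = Finsupp.linearCombination W φ y := fun y => by
        induction y using Finsupp.induction_linear with
        | zero => simp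
        | add x y hx hy => simp only [map_add, hx, hy]
        | single n a => simp [D, linearCombination_cmap hφ, hd]
      have hD : Finsupp.linearCombination W (φ ∘ s) (D c) = 0 := (hD' c).trans hc
      have := Submodule.mem_map_of_mem (f := E) (hrel _ hD)
      rw [Submodule.map_span] at this
      refine Submodule.span_le.2 ?_ this
      rintro _ ⟨_, ⟨x, hx, rfl⟩, rfl⟩
      refine Submodule.subset_span ⟨Finsupp.mapDomain s x, ?_, (hE x).symm⟩
      rw [SetLike.mem_coe, LinearMap.mem_ker, Finsupp.linearCombination_mapDomain]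
      exact hx
    have h2 : ∀ y : N →₀ W, y - E (D y) ∈ K := fun y => by
      induction y using Finsupp.induction_linear with
      | zero => simp
      | add x y hx hy =>
        rw [map_add, map_add, add_sub_add_comm]
        exact K.add_mem hx hy
      | single n a =>
        have e : Finsupp.single n a - E (D (Finsupp.single n a)) =
            a • cmap p (Finsupp.single n 1 - Finsupp.mapDomain s (d n)) := by
          rw [show D (Finsupp.single n a) = a • cmap p (d n) from Finsupp.linearCombination_single _ _ _,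
            map_smul, hE, cmap_sub, smul_sub, cmap_single, map_one, Finsupp.smul_single_one]
        rw [e]
        refine K.smul_mem _ (Submodule.subset_span ⟨_, ?_, rfl⟩)
        simp [Finsupp.linearCombination_mapDomain, hd]
    have := K.add_mem (h2 c) h1
    rwa [sub_add_cancel] at this

end Def

section Tensor

variable {A W : Type u} [CommRing A] [CommRing W] [Algebra A W] {N : Type v} [AddCommGroup N] [Module A N]
  {L : Type v₁} [AddCommGroup L] [Module W L]

/-- The map from the base change. -/
noncomputable def bc (φ : N →+ L) (hφ : ∀ a n, φ (a • n) = algebraMap A W a • φ n) : W ⊗[A] N →ₗ[W] L where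
  toFun := TensorProduct.liftAddHom
    { toFun := fun w => (DistribSMul.toAddMonoidHom L w).comp φ
      map_zero' := by ext n; simp
      map_add' := fun x y => by ext n; simp [add_smul] }
    (fun a w n => by simp [Algebra.smul_def, hφ, mul_smul, smul_comm (algebraMap A W a) w])
  map_add' := map_add _
  map_smul' w x := by
    induction x using TensorProduct.induction_on with
    | zero => simp
    | add x y hx hy => simp only [smul_add, map_add, RingHom.id_apply] at hx hy ⊢; rw [hx, hy]
    | tmul v n => simp [smul_tmul', mul_smul]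

@[simp] theorem bc_tmul (φ : N →+ L) (hφ : ∀ a n, φ (a • n) = algebraMap A W a • φ n) (w : W) (n : N) :
    bc φ hφ (w ⊗ₜ n) = w • φ n := rfl

/-- The tautological surjection onto the base change. -/
noncomputable def tid : (N →₀ W) →ₗ[W] W ⊗[A] N := Finsupp.linearCombination W fun n => (1 : W) ⊗ₜ[A] n

theorem bc_tid (φ : N →+ L) (hφ : ∀ a n, φ (a • n) = algebraMap A W a • φ n) (c : N →₀ W) :
    bc φ hφ (tid c) = Finsupp.linearCombination W φ c := by
  induction c using Finsupp.induction_linear with
  | zero => simp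
  | add x y hx hy => simp only [map_add, hx, hy]
  | single n a => simp [tid]

theorem tid_surjective : Function.Surjective (tid : (N →₀ W) →ₗ[W] W ⊗[A] N) := fun x => by
  induction x using TensorProduct.induction_on with
  | zero => exact ⟨0, map_zero _⟩
  | add x y hx hy =>
    obtain ⟨c, rfl⟩ := hx
    obtain ⟨d, rfl⟩ := hy
    exact ⟨c + d, map_add _ _ _⟩
  | tmul w n => exact ⟨Finsupp.single n w, by simp [tid, smul_tmul']⟩

theorem tid_eq_zero_iff (c : N →₀ W) :
    tid (A := A) c = 0 ↔ c ∈ Submodule.span W
      (cmap (algebraMap A W) '' (LinearMap.ker (Finsupp.linearCombination A (id : N → N)) : Set (N →₀ A))) := by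
  let e := LinearMap.quotKerEquivOfSurjective (Finsupp.linearCombination A (id : N → N))
    (fun n => ⟨Finsupp.single n 1, by simp⟩)
  have h : TensorProduct.AlgebraTensorModule.congr (LinearEquiv.refl W W) e (tmq W _ c) = tid (A := A) c := by
    induction c using Finsupp.induction_linear with
    | zero => simp
    | add x y hx hy => simp only [map_add, hx, hy]
    | single n a =>
      rw [tmq, Finsupp.linearCombination_single, tid, Finsupp.linearCombination_single, map_smul]
      simp [e, LinearMap.quotKerEquivOfSurjective]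
  rw [← h, EmbeddingLike.map_eq_zero_iff, tmq_eq_zero_iff]

theorem isBC_iff (φ : N →+ L) (hφ : ∀ a n, φ (a • n) = algebraMap A W a • φ n) :
    IsBC (algebraMap A W) φ ↔ Function.Bijective (bc φ hφ) := by
  refine ⟨fun h => ⟨(injective_iff_map_eq_zero _).2 fun x hx => ?_, fun l => ?_⟩, fun h => ⟨fun l => ?_, fun c hc => ?_⟩⟩
  · obtain ⟨c, rfl⟩ := tid_surjective x
    exact (tid_eq_zero_iff c).2 (h.2 c ((bc_tid φ hφ c).symm.trans hx))
  · obtain ⟨c, rfl⟩ := h.1 l
    exact ⟨tid c, bc_tid φ hφ c⟩
  · obtain ⟨x, rfl⟩ := h.2 l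
    obtain ⟨c, rfl⟩ := tid_surjective x
    exact ⟨c, (bc_tid φ hφ c).symm⟩
  · exact (tid_eq_zero_iff c).1 (h.1 (((bc_tid φ hφ c).trans hc).trans (map_zero _).symm))

end Tensor

section Comp

variable {A B W : Type u} [CommRing A] [CommRing B] [CommRing W] [Algebra A B] [Algebra B W] [Algebra A W]
  [IsScalarTower A B W] {N : Type v} [AddCommGroup N] [Module A N]
  {N' : Type v₁} [AddCommGroup N'] [Module B N'] {L : Type v₂} [AddCommGroup L] [Module W L]

theorem isBC_comp (φ : N →+ N') (hφ : ∀ a n, φ (a • n) = algebraMap A B a • φ n)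
    (ψ : N' →+ L) (hψ : ∀ b n, ψ (b • n) = algebraMap B W b • ψ n)
    (h : IsBC (algebraMap A B) φ) (h' : IsBC (algebraMap B W) ψ) : IsBC (algebraMap A W) (ψ.comp φ) := by
  have hψφ : ∀ a n, (ψ.comp φ) (a • n) = algebraMap A W a • (ψ.comp φ) n := fun a n => by
    simp [hφ, hψ, ← IsScalarTower.algebraMap_apply]
  rw [isBC_iff φ hφ] at h
  rw [isBC_iff ψ hψ] at h'
  rw [isBC_iff _ hψφ]
  let e := TensorProduct.AlgebraTensorModule.cancelBaseChange A B W W N
  let F : W ⊗[B] (B ⊗[A] N) ≃ₗ[W] W ⊗[B] N' :=
    TensorProduct.AlgebraTensorModule.congr (LinearEquiv.refl W W) (LinearEquiv.ofBijective _ h)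
  have : ∀ x, bc (ψ.comp φ) hψφ x = bc ψ hψ (F (e.symm x)) := fun x => by
    induction x using TensorProduct.induction_on with
    | zero => simp
    | add x y hx hy => simp only [map_add, hx, hy]
    | tmul w n => simp [e, F]
  rw [show (bc (ψ.comp φ) hψφ : W ⊗[A] N → L) = bc ψ hψ ∘ F ∘ e.symm from funext this]
  exact h'.comp (F.bijective.comp e.symm.bijective)

end Comp

section Pushout

variable {A B B' W : Type u} [CommRing A] [CommRing B] [CommRing B'] [CommRing W] [Algebra A B] [Algebra A B']
  [Algebra A W] [Algebra B W] [Algebra B' W] [IsScalarTower A B W] [IsScalarTower A B' W]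
  [Algebra.IsPushout A B B' W] {N : Type v} [AddCommGroup N] [Module A N] [Module B' N] [IsScalarTower A B' N]
  {L : Type v₁} [AddCommGroup L] [Module W L]

/-- The base change of a module over `B'` along `A → B`, mapped to a module over the pushout. -/
noncomputable def bcPush (φ : N →+ L) (hφ : ∀ b n, φ (b • n) = algebraMap B' W b • φ n) : B ⊗[A] N →+ L :=
  (bc φ hφ).toAddMonoidHom.comp (Algebra.IsPushout.cancelBaseChange A B B' W N).symm.toLinearMap.toAddMonoidHom

theorem bcPush_tmul (φ : N →+ L) (hφ : ∀ b n, φ (b • n) = algebraMap B' W b • φ n) (b : B) (n : N) :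
    bcPush (A := A) φ hφ (b ⊗ₜ n) = algebraMap B W b • φ n := by
  simp [bcPush]

theorem bcPush_bijective (φ : N →+ L) (hφ : ∀ b n, φ (b • n) = algebraMap B' W b • φ n)
    (h : IsBC (algebraMap B' W) φ) : Function.Bijective (bcPush (A := A) (B := B) φ hφ) :=
  ((isBC_iff φ hφ).1 h).comp (Algebra.IsPushout.cancelBaseChange A B B' W N).symm.bijective

end Pushout

section Descent

variable {A B : Type u} [CommRing A] [CommRing B] [Algebra A B] [Module.Flat A B]
  {N : Type v} [AddCommGroup N] [Module A N] {N₁ : Type v₁} [AddCommGroup N₁] [Module A N₁]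
  {N₂ : Type v₂} [AddCommGroup N₂] [Module A N₂]
  {L : Type v} [AddCommGroup L] {L₁ : Type v₃} [AddCommGroup L₁] {L₂ : Type v₄} [AddCommGroup L₂]

/-- Bijectivity of a comparison map descends along left exact sequences, by flatness. -/
theorem bijective_of_exact (η : N →ₗ[A] N₁) (δ : N₁ →ₗ[A] N₂) (hη : Function.Injective η)
    (hex : Function.Exact η δ) (ρ : L →+ L₁) (σ : L₁ → L₂) (hρ : Function.Injective ρ)
    (hσ : ∀ l, σ (ρ l) = 0) (Ψ : B ⊗[A] N →+ L) (Φ₁ : B ⊗[A] N₁ →+ L₁) (Φ₂ : B ⊗[A] N₂ →+ L₂)
    (h₁ : Function.Bijective Φ₁) (h₂ : Function.Injective Φ₂)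
    (c₁ : ∀ x, Φ₁ (LinearMap.lTensor B η x) = ρ (Ψ x)) (c₂ : ∀ y, Φ₂ (LinearMap.lTensor B δ y) = σ (Φ₁ y)) :
    Function.Bijective Ψ := by
  refine ⟨(injective_iff_map_eq_zero _).2 fun x hx => ?_, fun l => ?_⟩
  · refine Module.Flat.lTensor_preserves_injective_linearMap (M := B) η hη (h₁.1 ?_)
    rw [c₁, hx, map_zero, map_zero, map_zero]
  · obtain ⟨y, hy⟩ := h₁.2 (ρ l)
    have hy0 : LinearMap.lTensor B δ y = 0 := h₂ (by rw [c₂, hy, hσ, map_zero])
    obtain ⟨x, rfl⟩ := (Module.Flat.lTensor_exact B hex y).1 hy0
    exact ⟨x, hρ (by rw [← c₁, hy])⟩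

end Descent

section Pi

variable {A B : Type u} [CommRing A] [CommRing B] [Algebra A B] {κ : Type u} [Finite κ]
  {N : κ → Type v} [∀ k, AddCommGroup (N k)] [∀ k, Module A (N k)] {L : κ → Type v₁} [∀ k, AddCommGroup (L k)]

/-- Comparison maps on a finite product. -/
noncomputable def bcPi (Φ : ∀ k, B ⊗[A] N k →+ L k) : B ⊗[A] (∀ k, N k) →+ ∀ k, L k where
  toFun y k := Φ k (LinearMap.lTensor B (LinearMap.proj k) y)
  map_zero' := by ext k; simp
  map_add' x y := by ext k; simp

theorem bcPi_bijective (Φ : ∀ k, B ⊗[A] N k →+ L k) (h : ∀ k, Function.Bijective (Φ k)) :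
    Function.Bijective (bcPi Φ) := by
  classical
  have := Fintype.ofFinite κ
  let e := TensorProduct.piRight A A B N
  have : ∀ y k, LinearMap.lTensor B (LinearMap.proj k) y = e y k := fun y k => by
    induction y using TensorProduct.induction_on with
    | zero => simp
    | add x y hx hy => simp only [map_add, hx, hy, Pi.add_apply]
    | tmul b n => simp [e]
  rw [show (bcPi Φ : B ⊗[A] (∀ k, N k) → ∀ k, L k) = (Pi.map fun k => Φ k) ∘ e from
    funext fun y => funext fun k => by simp [bcPi, this]]
  exact (Function.Bijective.piMap h).comp e.bijective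

theorem bcPi_injective (Φ : ∀ k, B ⊗[A] N k →+ L k) (h : ∀ k, Function.Injective (Φ k)) :
    Function.Injective (bcPi Φ) := by
  classical
  have := Fintype.ofFinite κ
  refine (injective_iff_map_eq_zero _).2 fun y hy => (TensorProduct.piRight A A B N).injective ?_
  funext k
  have e : ∀ y, TensorProduct.piRight A A B N y k = LinearMap.lTensor B (LinearMap.proj k) y := fun y => by
    induction y using TensorProduct.induction_on with
    | zero => simp
    | add x y hx hy => simp only [map_add, hx, hy, Pi.add_apply]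
    | tmul b n => simp
  rw [map_zero, Pi.zero_apply, e]
  exact h k (by rw [map_zero]; exact congrFun hy k)

end Pi

end Groth.Agent.AlgSpQC
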