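import Groth.Agent.AlgSpQC.OfPresentation
import Groth.Agent.AlgSpQC.BaseChange
import Mathlib.CategoryTheory.Sites.CoversTop.Basic
import Mathlib.Algebra.Category.ModuleCat.Sheaf.Quasicoherent

/-!
# Quasi-coherent modules on affine objects of the small etale site are cartesian
-/

universe u

open CategoryTheory CategoryTheory.Limits AlgebraicGeometry Opposite TensorProduct

set_option backward.isDefEq.respectTransparency false
set_option autoImplicit false

namespace Groth.Agent.AlgSpQC

open _root_.AlgSp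

variable {S : Scheme.{u}} {X : Sp S} {M : ModEt X}

/-- Sections over the target are the base change of sections over the source. -/
def BC (M : ModEt X) {E E' : EtOver X} (g : E' ⟶ E) : Prop := IsBC (gm g) (rs M g)

/-- The module structure over the functions of a base object. -/
noncomputable abbrev overBase (M : ModEt X) {E V : EtOver X} (f : V ⟶ E) : Module (gr E) (sectModEt M V) :=
  Module.compHom (sectModEt M V) (gm f)

theorem bc_of_pres {I : Type (u + 1)} {E : EtOver X} [IsAffine E.obj.left.left] {s : I → sectModEt M E}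
    (hs : Pres s) {E' : EtOver X} [IsAffine E'.obj.left.left] (g : E' ⟶ E) : BC M g :=
  isBC_of_generators (rs_smul g) s hs.exists_lc_eq (hs.exists_lc_eq' g) fun _ hc => hs.mem_relSpan g hc

/-- Sections glue along jointly surjective families. -/
theorem exists_glue_sections {E : EtOver X} {κ : Type u} {V : κ → EtOver X} (f : ∀ k, V k ⟶ E)
    (hf : ∀ x : E.obj.left.left, ∃ k, x ∈ Set.range (f k).hom.left.left) (y : ∀ k, sectModEt M (V k))
    (h : ∀ i j (Z : EtOver X) (gi : Z ⟶ V i) (gj : Z ⟶ V j), gi ≫ f i = gj ≫ f j →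
      rs M gi (y i) = rs M gj (y j)) : ∃ x, ∀ k, rs M (f k) x = y k := by
  let F := M.val.presheaf ⋙ CategoryTheory.forget AddCommGrpCat
  have hF : Presieve.IsSheaf (etTop X) F :=
    (isSheaf_iff_isSheaf_of_type _ _).1
      (Presheaf.isSheaf_comp_of_isSheaf (etTop X) M.val.presheaf (CategoryTheory.forget AddCommGrpCat) M.isSheaf)
  have hF' : (Presieve.ofArrows V f).IsSheafFor F := by
    rw [Presieve.isSheafFor_iff_generate]
    exact hF _ (AlgSp.ofArrows_mem_etTop V f hf)
  obtain ⟨t, ht, -⟩ := (Presieve.isSheafFor_arrows_iff F f).1 hF' y h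
  exact ⟨t, ht⟩

theorem exists_bc_square {I : Type (u + 1)} {E U V P : EtOver X} [IsAffine V.obj.left.left] [IsAffine P.obj.left.left]
    {s : I → sectModEt M V} (hs : Pres s) (g : U ⟶ E) (f : V ⟶ E) (a : P ⟶ U) (b : P ⟶ V) (w : a ≫ g = b ≫ f)
    (h : IsPushout (CommRingCat.ofHom (gm g)) (CommRingCat.ofHom (gm f)) (CommRingCat.ofHom (gm a))
      (CommRingCat.ofHom (gm b))) :
    letI := (gm g).toAlgebra
    letI := overBase M f
    ∃ Φ : gr U ⊗[gr E] sectModEt M V →+ sectModEt M P,
      Function.Bijective Φ ∧ ∀ u n, Φ (u ⊗ₜ n) = gm a u • rs M b n := by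
  let _ := (gm g).toAlgebra
  let _ := (gm f).toAlgebra
  let _ := (gm a).toAlgebra
  let _ := (gm b).toAlgebra
  let _ := (gm (a ≫ g)).toAlgebra
  let _ := overBase M f
  have : IsScalarTower (gr E) (gr U) (gr P) := .of_algebraMap_eq (gm_comp g a)
  have : IsScalarTower (gr E) (gr V) (gr P) := .of_algebraMap_eq fun x => by
    change gm (a ≫ g) x = gm b (gm f x)
    rw [w, gm_comp]
  have : IsScalarTower (gr E) (gr V) (sectModEt M V) := .of_algebraMap_smul fun _ _ => rfl
  have : Algebra.IsPushout (gr E) (gr U) (gr V) (gr P) :=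
    CommRingCat.isPushout_iff_isPushout.1 h
  exact ⟨bcPush (rs M b) (rs_smul b), bcPush_bijective (rs M b) (rs_smul b) (bc_of_pres hs b),
    bcPush_tmul (rs M b) (rs_smul b)⟩

/-- Restriction to a jointly surjective family. -/
noncomputable def etaMap {E : EtOver X} {κ : Type u} {V : κ → EtOver X} (f : ∀ k, V k ⟶ E) :
    letI := fun k => overBase M (f k)
    sectModEt M E →ₗ[gr E] ∀ k, sectModEt M (V k) :=
  letI := fun k => overBase M (f k)
  { toFun := fun x k => rs M (f k) x
    map_add' := fun x y => funext fun k => map_add (rs M (f k)) x y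
    map_smul' := fun a x => funext fun k => rs_smul (f k) a x }

/-- The difference of the two restrictions to overlaps. -/
noncomputable def deltaMap {E : EtOver X} {κ : Type u} {V : κ → EtOver X} (f : ∀ k, V k ⟶ E)
    {W : κ × κ → EtOver X} (p : ∀ r, W r ⟶ V r.1) (q : ∀ r, W r ⟶ V r.2)
    (hpq : ∀ r, p r ≫ f r.1 = q r ≫ f r.2) :
    letI := fun k => overBase M (f k)
    letI := fun r => overBase M (p r ≫ f r.1)
    (∀ k, sectModEt M (V k)) →ₗ[gr E] ∀ r, sectModEt M (W r) :=
  letI := fun k => overBase M (f k)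
  letI := fun r => overBase M (p r ≫ f r.1)
  { toFun := fun y r => rs M (p r) (y r.1) - rs M (q r) (y r.2)
    map_add' := fun x y => funext fun r => by
      simp only [Pi.add_apply, map_add]
      abel
    map_smul' := fun a y => funext fun r => by
      change rs M (p r) (gm (f r.1) a • y r.1) - rs M (q r) (gm (f r.2) a • y r.2) =
        gm (p r ≫ f r.1) a • (rs M (p r) (y r.1) - rs M (q r) (y r.2))
      rw [rs_smul, rs_smul, ← gm_comp, ← gm_comp, ← hpq, smul_sub] }

theorem exact_eta_delta {E : EtOver X} {κ : Type u} {V : κ → EtOver X} (f : ∀ k, V k ⟶ E)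
    (hf : ∀ x : E.obj.left.left, ∃ k, x ∈ Set.range (f k).hom.left.left)
    {W : κ × κ → EtOver X} (p : ∀ r, W r ⟶ V r.1) (q : ∀ r, W r ⟶ V r.2)
    (hpq : ∀ r, p r ≫ f r.1 = q r ≫ f r.2)
    (huniv : ∀ r (Z : EtOver X) (a : Z ⟶ V r.1) (b : Z ⟶ V r.2), a ≫ f r.1 = b ≫ f r.2 →
      ∃ l, l ≫ p r = a ∧ l ≫ q r = b) :
    Function.Exact (etaMap (M := M) f) (deltaMap (M := M) f p q hpq) := by
  intro y
  constructor
  · intro hy
    obtain ⟨x, hx⟩ := exists_glue_sections (M := M) f hf y fun i j Z gi gj e => by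
      obtain ⟨l, rfl, rfl⟩ := huniv (i, j) Z gi gj e
      rw [rs_comp, rs_comp]
      exact congrArg (rs M l) (sub_eq_zero.1 (congrFun hy (i, j)))
    exact ⟨x, funext hx⟩
  · rintro ⟨x, rfl⟩
    refine funext fun r => sub_eq_zero.2 ?_
    change rs M (p r) (rs M (f r.1) x) = rs M (q r) (rs M (f r.2) x)
    rw [← rs_comp, ← rs_comp, hpq]

/-- A module presented on an affine cover is cartesian over the affine object covered. -/
theorem bc_of_cover {E : EtOver X} [IsAffine E.obj.left.left] {κ : Type u} [Finite κ] {V : κ → EtOver X}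
    (f : ∀ k, V k ⟶ E) [hV : ∀ k, IsAffine (V k).obj.left.left]
    (hf : ∀ x : E.obj.left.left, ∃ k, x ∈ Set.range (f k).hom.left.left)
    (hs : ∀ k, ∃ (I : Type (u + 1)) (s : I → sectModEt M (V k)), Pres s)
    {U : EtOver X} [IsAffine U.obj.left.left] (g : U ⟶ E) : BC M g := by
  choose W p q hW hpq _ huniv using fun r : κ × κ => exists_overlap (f r.1) (f r.2)
  choose P a b hP hab hPpush hPuniv using fun k => exists_overlap g (f k)
  have := hW
  choose Q c d hQ hcd hQpush _ using fun r => exists_overlap g (p r ≫ f r.1)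
  choose I s hs using hs
  let _ := (gm g).toAlgebra
  have : Module.Flat (gr E) (gr U) := flat_gm g
  let _ := fun k => overBase M (f k)
  let _ := fun r => overBase M (p r ≫ f r.1)
  choose Φ hΦ hΦt using fun k =>
    (have := hP k; exists_bc_square (hs k) g (f k) (a k) (b k) (hab k) (hPpush k))
  choose Φ' hΦ' hΦt' using fun r =>
    (have := hQ r; exists_bc_square ((hs r.1).restrict (p r)) g (p r ≫ f r.1) (c r) (d r) (hcd r) (hQpush r))
  choose e he₁ he₂ using fun r => hPuniv r.1 (Q r) (c r) (d r ≫ p r) (by rw [hcd, Category.assoc])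
  choose e' he'₁ he'₂ using fun r => hPuniv r.2 (Q r) (c r) (d r ≫ q r) (by rw [hcd, Category.assoc, hpq])
  refine (isBC_iff (A := gr E) (rs M g) (rs_smul g)).2 ?_
  refine bijective_of_exact (etaMap (M := M) f) (deltaMap (M := M) f p q hpq) ?_
    (exact_eta_delta f hf p q hpq huniv) (AddMonoidHom.pi fun k => rs M (a k))
    (fun z r => rs M (e r) (z r.1) - rs M (e' r) (z r.2)) ?_ ?_ (bc (rs M g) (rs_smul g)).toAddMonoidHom
    (bcPi Φ) (bcPi Φ') (bcPi_bijective Φ hΦ) (bcPi_injective Φ' fun r => (hΦ' r).1) ?_ ?_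
  · exact fun x y h => eq_of_family f hf (congrFun h)
  · intro x y h
    refine eq_of_sieve (GrothendieckTopology.pullback_stable _ g (AlgSp.ofArrows_mem_etTop V f hf))
      fun Z h' hh => ?_
    obtain ⟨k, α, hα⟩ := Sieve.mem_ofArrows_iff .. |>.1 hh
    obtain ⟨l, rfl, -⟩ := hPuniv k Z h' α hα
    rw [rs_comp, rs_comp]
    exact congrArg (rs M l) (congrFun h k)
  · intro l
    refine funext fun r => sub_eq_zero.2 ?_
    change rs M (e r) (rs M (a r.1) l) = rs M (e' r) (rs M (a r.2) l)
    rw [← rs_comp, ← rs_comp, he₁, he'₁]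
  · intro x
    induction x using TensorProduct.induction_on with
    | zero => simp only [map_zero]
    | add x y hx hy => simp only [map_add, hx, hy]
    | tmul u n =>
      funext k
      change Φ k (u ⊗ₜ rs M (f k) n) = rs M (a k) (u • rs M g n)
      rw [hΦt, rs_smul, ← rs_comp, ← rs_comp, hab]
  · intro y
    induction y using TensorProduct.induction_on with
    | zero => funext r; simp
    | add x y hx hy =>
      funext r
      simp only [map_add, Pi.add_apply, hx, hy]
      abel
    | tmul u n =>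
      funext r
      change Φ' r (u ⊗ₜ (rs M (p r) (n r.1) - rs M (q r) (n r.2))) =
        rs M (e r) (Φ r.1 (u ⊗ₜ n r.1)) - rs M (e' r) (Φ r.2 (u ⊗ₜ n r.2))
      rw [hΦt', hΦt, hΦt, map_sub, smul_sub, rs_smul, rs_smul, ← gm_comp, ← gm_comp, ← rs_comp, ← rs_comp,
        ← rs_comp, ← rs_comp, he₁, he'₁, he₂, he'₂]

/-- The morphisms through affine objects cover. -/
theorem exists_affine_sieve (E' : EtOver X) :
    ∃ T ∈ etTop X E', ∀ (V : EtOver X) (h : V ⟶ E'), T h →
      ∃ (W : EtOver X) (a : V ⟶ W) (b : W ⟶ E'), IsAffine W.obj.left.left ∧ a ≫ b = h := by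
  refine ⟨{ arrows := fun V h => ∃ (W : EtOver X) (a : V ⟶ W) (b : W ⟶ E'),
              IsAffine W.obj.left.left ∧ a ≫ b = h
            downward_closed := fun {_ _} h ⟨W, a, b, hW, e⟩ g =>
              ⟨W, g ≫ a, b, hW, by rw [Category.assoc, e]⟩ }, ?_, fun V h hh => hh⟩
  refine (Groth.Agent.AlgSpD.mem_etTop_iff _).2 fun x => ?_
  obtain ⟨_, ⟨O, hO : IsAffineOpen O, rfl⟩, hmem, -⟩ :=
    E'.obj.left.left.isBasis_affineOpens.exists_subset_of_mem_open (Set.mem_univ x) isOpen_univ
  let O' : Over S := Over.mk (Scheme.Opens.ι O ≫ E'.obj.left.hom)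
  let j : O' ⟶ E'.obj.left := Over.homMk (Scheme.Opens.ι O) rfl
  let V : EtOver X := EtOver.mk ((yon S).map j ≫ E'.obj.hom)
    ((RepWith _).comp_mem _ _ ((repWith_yon_map_iff _ j).2 (inferInstanceAs (Etale (Scheme.Opens.ι O))))
      E'.property)
  exact ⟨V, EtOver.homMk j rfl, ⟨V, 𝟙 V, _, hO, Category.id_comp _⟩, ⟨x, hmem⟩, rfl⟩

/-- If `M` is cartesian over `E`, all sections over `E` present `M`. -/
theorem pres_id_of_bc {E : EtOver X} (h : ∀ (W : EtOver X) (g : W ⟶ E), IsAffine W.obj.left.left → BC M g) :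
    Pres (id : sectModEt M E → sectModEt M E) := by
  refine ⟨fun E' g m => ?_, fun E' g c hc => ?_⟩
  · obtain ⟨T, hT, hT'⟩ := exists_affine_sieve E'
    refine ⟨T, hT, fun V h' hh => ?_⟩
    obtain ⟨W, a, b, hW, rfl⟩ := hT' V h' hh
    obtain ⟨c, hc⟩ := (h W (b ≫ g) hW).1 (rs M b m)
    rw [rs_comp, ← hc, show (rs M (b ≫ g) : sectModEt M E → sectModEt M W) = sr (b ≫ g) id from rfl]
    refine Finsupp.mem_span_range_iff_exists_finsupp.2 ⟨cmap (gm a) c, ?_⟩
    rw [Category.assoc, ← sr_sr, ← Finsupp.linearCombination_apply]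
    exact (rs_lc a (sr (b ≫ g) id) c).symm
  · obtain ⟨T, hT, hT'⟩ := exists_affine_sieve E'
    refine ⟨T, hT, fun V h' hh => ?_⟩
    obtain ⟨W, a, b, hW, rfl⟩ := hT' V h' hh
    have hcW : lc (sr (b ≫ g) id) (cmap (gm b) c) = 0 := by
      rw [← sr_sr, ← rs_lc, hc, map_zero]
    have := cmap_mem_span _ (gm a) (gm ((a ≫ b) ≫ g)) (fun x => by rw [Category.assoc, gm_comp])
      ((h W (b ≫ g) hW).2 _ hcW)
    rwa [cmap_cmap (gm b) (gm a) (gm (a ≫ b)) (fun x => gm_comp b a x)] at this

/-- On affine objects a quasi-coherent module is presented by its sections. -/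
theorem pres_id (M : ModEt X) [M.IsQuasicoherent] (E : EtOver X) [IsAffine E.obj.left.left] :
    Pres (id : sectModEt M E → sectModEt M E) := by
  obtain ⟨q⟩ := SheafOfModules.IsQuasicoherent.nonempty_quasicoherentData (M := M)
  obtain ⟨κ, _, V, f, hV, hTf, hf⟩ := exists_affine_family (q.coversTop E)
  refine pres_id_of_bc fun W g hW => ?_
  refine bc_of_cover f hf (fun k => ?_) g
  obtain ⟨i, ⟨φ⟩⟩ := (Sieve.mem_ofObjects_iff ..).1 (hTf k)
  have := hV k
  obtain ⟨s, hs, -⟩ := exists_pres_of_presentation (q.presentation i) φ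
  exact ⟨_, s, hs⟩

end Groth.Agent.AlgSpQC
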