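import Groth.Agent.AlgSpQC.StalkNbhd
import Mathlib.RingTheory.Localization.BaseChange

/-!
# Vanishing of sections on basic open subsets of affine charts
-/

universe u

open CategoryTheory CategoryTheory.Limits AlgebraicGeometry Opposite TensorProduct TopologicalSpace

set_option backward.isDefEq.respectTransparency false
set_option backward.isDefEq.respectTransparency.types false
set_option autoImplicit false

namespace Groth.Agent.AlgSpQC

open _root_.AlgSp

variable {S : Scheme.{u}}

/-- A basic open subset of an affine object as an object, with its functions. -/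
theorem exists_basic_subObj {X : Sp S} (E : EtOver X) [IsAffine E.obj.left.left] (a : gr E) :
    ∃ (D : EtOver X) (g : D ⟶ E) (_ : IsAffine D.obj.left.left),
      Set.range g.hom.left.left = (E.obj.left.left.basicOpen a : Set E.obj.left.left) ∧
        (letI := (gm g).toAlgebra; IsLocalization.Away a (gr D)) := by
  let W := E.obj.left.left.basicOpen a
  let O : Over S := Over.mk (W.ι ≫ E.obj.left.hom)
  let j : O ⟶ E.obj.left := Over.homMk W.ι rfl
  refine ⟨EtOver.mk ((yon S).map j ≫ E.obj.hom)
    ((RepWith _).comp_mem _ _ ((repWith_yon_map_iff _ j).2 (inferInstanceAs (Etale W.ι))) E.property),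
    EtOver.homMk j rfl, (isAffineOpen_top _).basicOpen a, Scheme.Opens.range_ι W, ?_⟩
  change @IsLocalization.Away _ _ a Γ(W.toScheme, ⊤) _ W.ι.appTop.hom.toAlgebra
  let _ : Algebra Γ(E.obj.left.left, ⊤) Γ(W.toScheme, ⊤) := W.ι.appTop.hom.toAlgebra
  have hA : IsLocalization.Away a Γ(E.obj.left.left, W) :=
    (isAffineOpen_top E.obj.left.left).isLocalization_basicOpen a
  let e : Γ(E.obj.left.left, W) ≃ₐ[Γ(E.obj.left.left, ⊤)] Γ(W.toScheme, ⊤) :=
    AlgEquiv.ofRingEquiv (f := W.topIso.symm.commRingCatIsoToRingEquiv) fun r => by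
      change (W.topIso.inv).hom ((E.obj.left.left.presheaf.map (homOfLE le_top).op).hom r) = W.ι.appTop.hom r
      rw [Scheme.Opens.topIso_inv, Scheme.Opens.ι_appTop, ← CommRingCat.comp_apply, ← Functor.map_comp]
      rfl
  exact IsLocalization.isLocalization_of_algEquiv _ e

variable {X : Space S} {M : ModEt X.obj} [M.IsQuasicoherent]

/-- A section vanishes on a basic open subset iff a power of the function kills it. -/
theorem basicOpen_subset_vanishLocus_iff (E : EtOver X.obj) [IsAffine E.obj.left.left] (a : gr E)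
    (m : sectModEt M E) :
    (E.obj.left.left.basicOpen a : Set E.obj.left.left) ⊆ AlgSpD.vanishLocus ((toAbEt X.obj).obj M) (U := E) m ↔
      ∃ k : ℕ, a ^ k • m = 0 := by
  obtain ⟨D, g, hD, hr, hloc⟩ := exists_basic_subObj E a
  rw [← hr, ← AlgSpD.map_eq_zero_iff_subset ((toAbEt X.obj).obj M) (U := E) m g]
  let _ := (gm g).toAlgebra
  have : IsLocalization (Submonoid.powers a) (gr D) := hloc
  have hb := (isBC_iff (A := gr E) (rs M g) (rs_smul g)).1 (bc_of_isQuasicoherent g)
  have key : rs M g m = 0 ↔ TensorProduct.mk (gr E) (gr D) (sectModEt M E) 1 m = 0 := by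
    rw [← hb.1.eq_iff (a := TensorProduct.mk (gr E) (gr D) (sectModEt M E) 1 m), map_zero, TensorProduct.mk_apply,
      bc_tmul, one_smul]
  refine key.trans ((IsLocalizedModule.eq_zero_iff (Submonoid.powers a)
    (TensorProduct.mk (gr E) (gr D) (sectModEt M E) 1)).trans ?_)
  constructor
  · rintro ⟨⟨_, k, rfl⟩, h⟩
    exact ⟨k, h⟩
  · rintro ⟨k, h⟩
    exact ⟨⟨_, k, rfl⟩, h⟩

end Groth.Agent.AlgSpQC
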