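import Groth.Agent.AlgSpQC.PullUnit
import Groth.Agent.AlgSpQC.Cart

/-!
# The universal property of the constructed inverse image
-/

universe u

open CategoryTheory CategoryTheory.Limits AlgebraicGeometry Opposite TensorProduct

set_option backward.isDefEq.respectTransparency false
set_option backward.isDefEq.respectTransparency.types false
set_option autoImplicit false

namespace Groth.Agent.AlgSpQC

open _root_.AlgSp

variable {S : Scheme.{u}} {X Y : Space S} {f : X.obj ⟶ Y.obj} {hf : Representable f} {G : ModEt Y.obj}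
  [G.IsQuasicoherent] {N : ModEt X.obj} (ψ : G ⟶ (pushModEt hf).obj N) {Z Z' W : EtOver X.obj}
  {E E' : EtOver Y.obj}

/-- The value at a section of `G` of a map to a direct image, restricted to a chart. -/
noncomputable abbrev descVal (h : Z ⟶ bcO hf E) (n : sectModEt G E) : sectModEt N Z :=
  rs N h (pushSect hf N E (hs ψ E n))

omit [G.IsQuasicoherent] in
theorem exists_descPT (h : Z ⟶ bcO hf E) :
    ∃ Φ : PT G h →+ sectModEt N Z, ∀ r n, Φ (tm h r n) = r • descVal ψ h n := by
  refine exists_lift (fun r n => r • descVal ψ h n) (fun r r' n => add_smul _ _ _)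
    (fun r n n' => ?_) fun a r n => ?_
  · simp only [descVal, map_add, smul_add]
  · change _ = r • rs N h (pushSect hf N E (hs ψ E (a • n)))
    rw [map_smul, pushSect_smul, rs_smul, smul_smul, mul_comm]

/-- The map out of tensors defined by a map to a direct image. -/
noncomputable def descPT (h : Z ⟶ bcO hf E) : PT G h →+ sectModEt N Z := (exists_descPT ψ h).choose

theorem descPT_tm (h : Z ⟶ bcO hf E) (r : gr Z) (n : sectModEt G E) :
    descPT ψ h (tm h r n) = r • descVal ψ h n :=
  (exists_descPT ψ h).choose_spec r n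

theorem descPT_smul (h : Z ⟶ bcO hf E) (a : gr Z) (x : PT G h) : descPT ψ h (a • x) = a • descPT ψ h x := by
  induction x using PT.induction with
  | zero => simp only [smul_zero, map_zero]
  | tm r n => rw [smul_tm, descPT_tm, descPT_tm, mul_smul]
  | add x y hx hy => simp only [smul_add, map_add, hx, hy]

theorem descPT_μ {h : Z ⟶ bcO hf E} {k : Z' ⟶ bcO hf E'} (l : Z' ⟶ Z) (g : E' ⟶ E)
    (w : k ≫ bcM hf g = l ≫ h) (x : PT G h) :
    descPT ψ k (μ G h k l g w x) = rs N l (descPT ψ h x) := by
  induction x using PT.induction with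
  | zero => simp only [map_zero]
  | tm r n =>
    rw [μ_tm, descPT_tm, descPT_tm, rs_smul]
    refine congrArg (gm l r • ·) ?_
    change rs N k (pushSect hf N E' (hs ψ E' (rs G g n))) = _
    rw [hs_rs, pushSect_rs, ← rs_comp, ← rs_comp, w]
  | add x y hx hy => simp only [map_add, hx, hy]

theorem descPT_compat {h : Z ⟶ bcO hf E} {h' : Z ⟶ bcO hf E'} {x : PT G h} {y : PT G h'}
    (c : Compat h h' x y) : descPT ψ h x = descPT ψ h' y := by
  choose Z₁ l W g g' k hZ₁ hW w w' hz using exists_common_ref h h'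
  refine eq_of_family l (fun z => ⟨z, hz z⟩) fun z => ?_
  rw [← descPT_μ ψ (l z) (g z) (w z), ← descPT_μ ψ (l z) (g' z) (w' z),
    c _ _ _ _ _ _ (w z) (w' z) (hZ₁ z) (hW z)]

/-- The value of the map out of the inverse image at a section, characterised on charts. -/
def IsPullDesc (x : sectModEt (pullQC hf G) W) (p : sectModEt N W) : Prop :=
  ∀ c : PChart hf W, rs N c.a p = descPT ψ c.h ((show Fam hf G W from x).1 c)

theorem pullDesc_overlap (x : sectModEt (pullQC hf G) W) (c c' : PChart hf W) {U : EtOver X.obj}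
    (a : U ⟶ c.Z) (b : U ⟶ c'.Z) (e : a ≫ c.a = b ≫ c'.a) :
    rs N a (descPT ψ c.h ((show Fam hf G W from x).1 c)) =
      rs N b (descPT ψ c'.h ((show Fam hf G W from x).1 c')) := by
  obtain ⟨T, hT, hT'⟩ := exists_affine_sieve U
  refine eq_of_sieve hT fun V v hv => ?_
  obtain ⟨U', v', b', hU', rfl⟩ := hT' V v hv
  rw [rs_comp b' v', rs_comp b' v', ← rs_comp a b', ← rs_comp b b']
  congr 1
  let y : Fam hf G W := x
  let d : PChart hf W := ⟨U', (b' ≫ a) ≫ c.a, c.E, (b' ≫ a) ≫ c.h, hU', c.hE⟩
  have h₁ := descPT_compat ψ (y.2 d c (b' ≫ a) rfl)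
  have h₂ := descPT_compat ψ (y.2 d c' (b' ≫ b)
    (show (b' ≫ b) ≫ c'.a = (b' ≫ a) ≫ c.a by rw [Category.assoc, Category.assoc, e]))
  rw [μr, descPT_μ] at h₁ h₂
  exact h₁.symm.trans h₂

theorem exists_isPullDesc (x : sectModEt (pullQC hf G) W) : ∃ p, IsPullDesc ψ x p := by
  choose Z' l E k hZ' hE hz using exists_chart hf W
  let c : ∀ z, PChart hf W := fun z => ⟨Z' z, l z, E z, k z, hZ' z, hE z⟩
  obtain ⟨p, hp⟩ := exists_glue_sections (M := N) l (fun z => ⟨z, hz z⟩)
    (fun z => descPT ψ (k z) ((show Fam hf G W from x).1 (c z))) fun i j U a b e =>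
      pullDesc_overlap ψ x (c i) (c j) a b e
  refine ⟨p, fun d => ?_⟩
  refine eq_of_sieve ((etTop X.obj).pullback_stable d.a (AlgSp.ofArrows_mem_etTop Z' l fun z => ⟨z, hz z⟩))
    fun U m hm => ?_
  obtain ⟨z, n, hn⟩ := Sieve.mem_ofArrows_iff .. |>.1 hm
  rw [← rs_comp d.a m, hn, rs_comp, hp]
  exact pullDesc_overlap ψ x (c z) d n m hn.symm

variable {ψ} in
theorem isPullDesc_unique {x : sectModEt (pullQC hf G) W} {p p' : sectModEt N W} (h : IsPullDesc ψ x p)
    (h' : IsPullDesc ψ x p') : p = p' := by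
  choose Z' l E k hZ' hE hz using exists_chart hf W
  exact eq_of_family l (fun z => ⟨z, hz z⟩) fun z =>
    (h ⟨Z' z, l z, E z, k z, hZ' z, hE z⟩).trans (h' ⟨Z' z, l z, E z, k z, hZ' z, hE z⟩).symm

theorem exists_pullDesc :
    ∃ φ : pullQC hf G ⟶ N, pullUnit hf G ≫ (pushModEt hf).map φ = ψ := by
  choose d hd using fun (W : EtOver X.obj) (x : sectModEt (pullQC hf G) W) => exists_isPullDesc ψ x
  have hadd : ∀ (W : EtOver X.obj) (x y : sectModEt (pullQC hf G) W), d W (x + y) = d W x + d W y :=
    fun W x y => isPullDesc_unique (hd W (x + y)) fun c => by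
      rw [map_add, hd W x c, hd W y c]
      exact (map_add (descPT ψ c.h) _ _).symm
  have hsmul : ∀ (W : EtOver X.obj) (r : gr W) (x : sectModEt (pullQC hf G) W), d W (r • x) = r • d W x :=
    fun W r x => isPullDesc_unique (hd W (r • x)) fun c => by
      rw [rs_smul, hd W x c, ← descPT_smul]
      rfl
  have hnat : ∀ {W W' : EtOver X.obj} (g : W' ⟶ W) (x : sectModEt (pullQC hf G) W),
      d W' (rs (pullQC hf G) g x) = rs N g (d W x) :=
    fun {W W'} g x => isPullDesc_unique (hd W' _) fun c => by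
      rw [← rs_comp g c.a]
      exact hd W x (c.comp g)
  let φ : pullQC hf G ⟶ N := ⟨PresheafOfModules.homMk
    { app := fun W => AddCommGrpCat.ofHom (AddMonoidHom.mk' (d W.unop) (hadd W.unop))
      naturality := fun W W' g => by
        ext x
        exact hnat g.unop x }
    fun W r x => by
      obtain ⟨a⟩ := r
      exact hsmul W.unop (show gr W.unop from a) x⟩
  refine ⟨φ, SheafOfModules.hom_ext (PresheafOfModules.hom_ext fun E => ModuleCat.hom_ext (LinearMap.ext
    fun n => ?_))⟩
  change hs (pullUnit hf G ≫ (pushModEt hf).map φ) E.unop n = hs ψ E.unop n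
  apply (pushSect hf N E.unop).injective
  change d _ (pushSect hf (pullQC hf G) E.unop (unitFun hf G E.unop n)) = _
  refine isPullDesc_unique (ψ := ψ) (hd _ _) fun c => ?_
  rw [← descPT_compat ψ (unitFun_spec n c), descPT_tm, one_smul]

theorem pullDesc_unique {φ φ' : pullQC hf G ⟶ N}
    (h : pullUnit hf G ≫ (pushModEt hf).map φ = pullUnit hf G ≫ (pushModEt hf).map φ') : φ = φ' := by
  refine SheafOfModules.hom_ext (PresheafOfModules.hom_ext fun W => ModuleCat.hom_ext (LinearMap.ext fun x => ?_))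
  change hs φ W.unop x = hs φ' W.unop x
  choose Z' l E k hZ' hE hz using exists_chart hf W.unop
  refine eq_of_family l (fun z => ⟨z, hz z⟩) fun z => ?_
  have := hZ' z
  have := hE z
  rw [← hs_rs, ← hs_rs]
  obtain ⟨t, ht⟩ : ∃ t : PT G (k z), pullEv G (k z) (rs (pullQC hf G) (l z) x) = t := ⟨_, rfl⟩
  have key : ∀ (t : PT G (k z)) (y : sectModEt (pullQC hf G) (Z' z)), pullEv G (k z) y = t →
      hs φ (Z' z) y = hs φ' (Z' z) y := by
    intro t
    induction t using PT.induction with
    | zero =>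
      intro y hy
      rw [(bijective_pullEv (k z)).1 (hy.trans (map_zero (pullEv G (k z))).symm), map_zero, map_zero]
    | tm r n =>
      intro y hy
      have e : y = r • rs (pullQC hf G) (k z) (pushSect hf (pullQC hf G) (E z) (hs (pullUnit hf G) (E z) n)) :=
        (bijective_pullEv (k z)).1 (by rw [hy, pullEv_smul, pullEv_unit, smul_tm, mul_one])
      rw [e, map_smul, map_smul, hs_rs, hs_rs]
      exact congrArg (fun v => r • rs N (k z) (pushSect hf N (E z) v))
        (congrArg (fun q : G ⟶ (pushModEt hf).obj N => hs q (E z) n) h)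
    | add a b ha hb =>
      intro y hy
      obtain ⟨ya, rfl⟩ := (bijective_pullEv (k z)).2 a
      obtain ⟨yb, rfl⟩ := (bijective_pullEv (k z)).2 b
      rw [(bijective_pullEv (k z)).1 (hy.trans (map_add (pullEv G (k z)) ya yb).symm), map_add, map_add,
        ha ya rfl, hb yb rfl]
  exact key t _ ht

variable (hf G) in
/-- The constructed module is the inverse image. -/
theorem nonempty_iso_pullQC [(SheafOfModules.pushforward.{u + 1} (bcRingHom hf)).IsRightAdjoint] :
    Nonempty ((pullModEt hf).obj G ≅ pullQC hf G) := by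
  let a := pullPushAdjModEt hf
  let γ : (pullModEt hf).obj G ⟶ pullQC hf G := (a.homEquiv G (pullQC hf G)).symm (pullUnit hf G)
  have hγ : a.homEquiv G (pullQC hf G) γ = pullUnit hf G := Equiv.apply_symm_apply _ _
  obtain ⟨δ, hδ⟩ := exists_pullDesc (a.homEquiv G _ (𝟙 ((pullModEt hf).obj G)))
  refine ⟨⟨γ, δ, (a.homEquiv G _).injective ?_, pullDesc_unique ?_⟩⟩
  · rw [Adjunction.homEquiv_naturality_right, hγ, hδ]
  · rw [Functor.map_comp, ← Category.assoc, hδ, ← Adjunction.homEquiv_naturality_right, Category.id_comp,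
      hγ, CategoryTheory.Functor.map_id, Category.comp_id]

/-- Inverse images of quasi-coherent modules are quasi-coherent. -/
theorem isQuasicoherent_pullModEt [(SheafOfModules.pushforward.{u + 1} (bcRingHom hf)).IsRightAdjoint] :
    ((pullModEt hf).obj G).IsQuasicoherent := by
  obtain ⟨e⟩ := nonempty_iso_pullQC hf G
  exact (SheafOfModules.isQuasicoherent (OEtRing X.obj)).prop_of_iso e.symm (isQuasicoherent_pullQC hf G)

end Groth.Agent.AlgSpQC
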