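import Mathlib.Algebra.Category.ModuleCat.Sheaf.Quasicoherent
import Mathlib.Algebra.Category.ModuleCat.Sheaf.Abelian
import Mathlib.CategoryTheory.Sites.LocallyInjective
import Mathlib.CategoryTheory.Sites.LocallySurjective
import Mathlib.Algebra.Homology.ShortComplex.ModuleCat
import Mathlib.Algebra.Homology.ShortComplex.ExactFunctor

/-!
# Sheaves of modules generated by sections, elementwise
-/

universe u v' u'

open CategoryTheory CategoryTheory.Limits Opposite

set_option backward.isDefEq.respectTransparency false
set_option autoImplicit false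

namespace Groth.Agent.AlgSpQC

variable {C : Type u'} [Category.{v'} C] {J : GrothendieckTopology C} {R : Sheaf J RingCat.{u}}
  [HasSheafify J AddCommGrpCat.{u}] [J.WEqualsLocallyBijective AddCommGrpCat.{u}]

/-- Restriction of sections of a sheaf of modules. -/
noncomputable abbrev res (M : SheafOfModules.{u} R) {U V : C} (h : V ⟶ U) (m : M.val.obj (op U)) : M.val.obj (op V) :=
  M.val.map h.op m

omit [HasSheafify J AddCommGrpCat.{u}] [J.WEqualsLocallyBijective AddCommGrpCat.{u}] in
theorem res_smul (M : SheafOfModules.{u} R) {U V : C} (h : V ⟶ U) (r : R.obj.obj (op U)) (m : M.val.obj (op U)) :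
    res M h (r • m) = R.obj.map h.op r • res M h m :=
  M.val.map_smul h.op r m

/-- The value of a global section. -/
noncomputable abbrev sec {M : SheafOfModules.{u} R} (s : M.sections) (V : C) : M.val.obj (op V) := s.val (op V)

/-- The unit of the sections over an object. -/
abbrev unitOne (R : Sheaf J RingCat.{u}) (V : C) : (SheafOfModules.unit R).val.obj (op V) := (1 : R.obj.obj (op V))

omit [HasSheafify J AddCommGrpCat.{u}] [J.WEqualsLocallyBijective AddCommGrpCat.{u}] in
/-- Restriction of a combination of global sections. -/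
theorem res_linearCombination {M : SheafOfModules.{u} R} {I : Type u} (σ : I → M.sections) {U V : C}
    (h : V ⟶ U) (c : I →₀ R.obj.obj (op U)) :
    res M h (Finsupp.linearCombination (R.obj.obj (op U)) (fun i => sec (σ i) U) c) =
      Finsupp.linearCombination (R.obj.obj (op V)) (fun i => sec (σ i) V)
        (c.mapRange (R.obj.map h.op).hom (map_zero _)) := by
  induction c using Finsupp.induction_linear with
  | zero => simp only [map_zero, Finsupp.mapRange_zero]
  | add x y hx hy =>
    rw [Finsupp.mapRange_add (map_add _), map_add, map_add, ← hx, ← hy]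
    exact map_add (M.val.map h.op).hom _ _
  | single i a =>
    rw [Finsupp.mapRange_single, Finsupp.linearCombination_single, Finsupp.linearCombination_single, res_smul]
    exact congrArg (fun m : M.val.obj (op V) => (R.obj.map h.op).hom a • m)
      (PresheafOfModules.sections_property (σ i) h.op)

/-- A map of presheaves of modules to a sheaf whose transpose is an epimorphism is locally surjective. -/
theorem imageSieve_mem_of_transpose_epi {P : PresheafOfModules.{u} R.obj} {M : SheafOfModules.{u} R}
    (g : P ⟶ M.val)
    (hg : ∀ {Q : SheafOfModules.{u} R} (a b : M ⟶ Q), g ≫ a.val = g ≫ b.val → a = b)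
    (U : C) (m : M.val.obj (op U)) :
    Presheaf.imageSieve ((PresheafOfModules.toPresheaf _).map g) m ∈ J U := by
  let L := PresheafOfModules.sheafification.{u} (𝟙 R.obj)
  let adj := PresheafOfModules.sheafificationAdjunction.{u} (𝟙 R.obj)
  let π := cokernel.π g
  have ht : Epi ((adj.homEquiv P M).symm g) := ⟨fun a b h => hg a b (by
    have := congrArg (adj.homEquiv _ _) h
    rw [Adjunction.homEquiv_naturality_right, Adjunction.homEquiv_naturality_right,
      Equiv.apply_symm_apply] at this
    exact this)⟩
  have hz : L.map π = 0 := by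
    have he : Epi (L.map g) := by
      have : L.map g = (adj.homEquiv P M).symm g ≫ inv (adj.counit.app M) := by
        rw [IsIso.eq_comp_inv, Adjunction.homEquiv_counit]

      rw [this]; infer_instance
    rw [← cancel_epi (L.map g), ← L.map_comp, cokernel.condition, Functor.map_zero, comp_zero]
  have hQ : IsZero (L.obj (cokernel g)) :=
    (IsZero.iff_id_eq_zero _).2 (by rw [← cancel_epi (L.map π), Category.comp_id, comp_zero, hz])
  let θ := (PresheafOfModules.toPresheaf _).map (adj.unit.app (cokernel g))
  have : Presheaf.IsLocallyInjective J θ :=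
    (J.W_toSheafify (cokernel g).presheaf).isLocallyInjective
  let q : (cokernel g).presheaf.obj (op U) := π.app (op U) m
  have hθ : θ.app (op U) q = θ.app (op U) 0 := by
    have hsub : Subsingleton ((L.obj (cokernel g)).val.obj (op U)) := by
      have := (SheafOfModules.forget _ ⋙ PresheafOfModules.evaluation _ (op U)).map_isZero hQ
      exact ModuleCat.subsingleton_of_isZero this
    exact hsub.elim _ _
  refine J.superset_covering ?_ (Presheaf.equalizerSieve_mem J θ q 0 hθ)
  intro V h hh
  have h0 : π.app (op V) (M.val.map h.op m) = 0 :=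
    ((PresheafOfModules.naturality_apply π h.op m)).trans (hh.trans (map_zero ((cokernel g).presheaf.map h.op).hom))
  let ev := PresheafOfModules.evaluation R.obj (op V)
  have hex : (CategoryTheory.ShortComplex.mk (ev.map g) (ev.map π) (by rw [← ev.map_comp, cokernel.condition, ev.map_zero])).Exact :=
    CategoryTheory.ShortComplex.exact_of_g_is_cokernel _ (CokernelCofork.mapIsColimit _ (cokernelIsCokernel g) ev)
  obtain ⟨x, hx⟩ := (CategoryTheory.ShortComplex.moduleCat_exact_iff _).1 hex _ h0
  exact ⟨x, hx⟩

/-- If a sheaf of modules is generated by a family of sections then every section is locally a linear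
combination of them. -/
theorem span_mem_of_epi {M : SheafOfModules.{u} R} {I : Type u} (s : I → M.sections)
    (hs : Epi (M.freeHomEquiv.symm s)) (U : C) (m : M.val.obj (op U)) :
    ∃ T ∈ J U, ∀ (V : C) (h : V ⟶ U), T h →
      res M h m ∈ Submodule.span (R.obj.obj (op V)) (Set.range fun i => sec (s i) V) := by
  let P : PresheafOfModules.{u} R.obj := ∐ fun _ : I => PresheafOfModules.unit R.obj
  let g : P ⟶ M.val := Limits.Sigma.desc fun i => (M.unitHomEquiv.symm (s i)).val
  refine ⟨_, imageSieve_mem_of_transpose_epi g (fun {Q} a b h => ?_) U m, fun V h ⟨x, hx⟩ => ?_⟩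
  · refine hs.left_cancellation a b ?_
    refine Cofan.IsColimit.hom_ext (SheafOfModules.isColimitFreeCofan I) _ _ fun i => ?_
    rw [SheafOfModules.freeCofan_inj, ← Category.assoc, ← Category.assoc,
      ← SheafOfModules.unitHomEquiv_symm_freeHomEquiv_apply, Equiv.apply_symm_apply]
    apply SheafOfModules.hom_ext
    have := Limits.Sigma.ι _ i ≫= h
    simp only [g, Limits.Sigma.ι_desc_assoc] at this
    exact this
  · let ev := PresheafOfModules.evaluation R.obj (op V)
    let N := Submodule.span (R.obj.obj (op V)) (Set.range fun i => sec (s i) V)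
    suffices H : ev.map g ≫ ModuleCat.ofHom N.mkQ = 0 by
      have hx' : (g.app (op V)).hom x = res M h m := hx
      rw [← hx']
      exact (Submodule.Quotient.mk_eq_zero N).1 (LinearMap.congr_fun (congrArg ModuleCat.Hom.hom H) x)
    refine Cofan.IsColimit.hom_ext
      (isColimitCofanMkObjOfIsColimit ev _ _ (coproductIsCoproduct fun _ : I => PresheafOfModules.unit R.obj)) _ _
      fun i => ?_
    change ev.map (Limits.Sigma.ι _ i) ≫ ev.map g ≫ _ = _ ≫ 0
    rw [comp_zero, ← Category.assoc, ← ev.map_comp, Limits.Sigma.ι_desc]
    apply ModuleCat.hom_ext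
    refine LinearMap.ext fun (r : R.obj.obj (op V)) => ?_
    change N.mkQ (((M.unitHomEquiv.symm (s i)).val.app (op V)).hom r) = 0
    have er : (r : (SheafOfModules.unit R).val.obj (op V)) = r • unitOne R V := (mul_one r).symm
    refine (congrArg (fun t => N.mkQ (((M.unitHomEquiv.symm (s i)).val.app (op V)).hom t)) er).trans ?_
    rw [map_smul, map_smul]
    refine smul_eq_zero_of_right _ ((Submodule.Quotient.mk_eq_zero N).2 (Submodule.subset_span ⟨i, ?_⟩))
    exact (congrArg (fun t : M.sections => t.val (op V)) (M.unitHomEquiv.apply_symm_apply (s i))).symm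

/-- A family of sections locally spanning a sheaf of modules generates it. -/
theorem epi_of_span_mem {M : SheafOfModules.{u} R} {I : Type u} (s : I → M.sections)
    (h : ∀ (U : C) (m : M.val.obj (op U)), ∃ T ∈ J U, ∀ (V : C) (g : V ⟶ U), T g →
      res M g m ∈ Submodule.span (R.obj.obj (op V)) (Set.range fun i => sec (s i) V)) :
    Epi (M.freeHomEquiv.symm s) := by
  refine ⟨fun {Q} a b hab => ?_⟩
  apply SheafOfModules.hom_ext
  apply PresheafOfModules.hom_ext
  intro U
  obtain ⟨U⟩ := U
  ext m
  obtain ⟨T, hT, hTs⟩ := h U m
  refine (Presheaf.IsSheaf.isSeparated Q.isSheaf) U T hT _ _ fun V g hg => ?_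
  refine (PresheafOfModules.naturality_apply a.val g.op m).symm.trans
    (Eq.trans ?_ (PresheafOfModules.naturality_apply b.val g.op m))
  refine LinearMap.eqOn_span (f := (a.val.app (op V)).hom) (g := (b.val.app (op V)).hom) ?_ (hTs V g hg)
  rintro _ ⟨i, rfl⟩
  have e := congrArg (fun k => (Q.freeHomEquiv k i).val (op V)) hab
  simp only [SheafOfModules.freeHomEquiv_comp_apply, Equiv.apply_symm_apply] at e
  exact e

/-- The coordinate functionals of a free sheaf of modules. -/
noncomputable def coord {I : Type u} (i : I) : SheafOfModules.free (R := R) I ⟶ SheafOfModules.unit R :=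
  haveI := Classical.decEq I
  Cofan.IsColimit.desc (SheafOfModules.isColimitFreeCofan I) fun j => if j = i then 𝟙 _ else 0

theorem ιFree_coord {I' : Type u} [DecidableEq I'] (i j : I') :
    SheafOfModules.ιFree j ≫ coord (R := R) i = if j = i then 𝟙 _ else 0 := by
  rw [← SheafOfModules.freeCofan_inj, coord, Cofan.IsColimit.fac]
  split_ifs <;> rfl

theorem coord_freeSection {I' : Type u} [DecidableEq I'] (i j : I') (V : C) :
    ((coord (R := R) i).val.app (op V)).hom (sec (SheafOfModules.freeSection (R := R) j) V) =
      if j = i then unitOne R V else 0 := by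
  have e : ((SheafOfModules.unit R).unitHomEquiv (SheafOfModules.ιFree j ≫ coord (R := R) i)).val (op V) =
      ((coord (R := R) i).val.app (op V)).hom (sec (SheafOfModules.freeSection (R := R) j) V) := by
    rw [SheafOfModules.unitHomEquiv_comp_apply]
    simp [SheafOfModules.freeSection, SheafOfModules.freeHomEquiv]
  rw [← e, ιFree_coord, SheafOfModules.unitHomEquiv_apply_coe]
  split_ifs <;> rfl

/-- Sections killed by a map come from its kernel. -/
theorem exists_kernel_lift {M N : SheafOfModules.{u} R} (π : M ⟶ N) {U : C} (x : M.val.obj (op U))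
    (hx : (π.val.app (op U)).hom x = 0) : ∃ y, ((kernel.ι π).val.app (op U)).hom y = x := by
  let ev := SheafOfModules.forget R ⋙ PresheafOfModules.evaluation _ (op U)
  have hex : (CategoryTheory.ShortComplex.mk (ev.map (kernel.ι π)) (ev.map π)
      (by rw [← ev.map_comp, kernel.condition, Functor.map_zero])).Exact :=
    CategoryTheory.ShortComplex.exact_of_f_is_kernel _ (KernelFork.mapIsLimit _ (kernelIsKernel π) ev)
  exact (CategoryTheory.ShortComplex.moduleCat_exact_iff _).1 hex x hx

theorem map_kernel_ι {M N : SheafOfModules.{u} R} (π : M ⟶ N) {U : C} (y : (kernel π).val.obj (op U)) :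
    (π.val.app (op U)).hom (((kernel.ι π).val.app (op U)).hom y) = 0 :=
  LinearMap.congr_fun (congrArg (fun k : kernel π ⟶ N => (k.val.app (op U)).hom) (kernel.condition π)) y

omit [HasSheafify J AddCommGrpCat.{u}] [J.WEqualsLocallyBijective AddCommGrpCat.{u}] in
theorem map_res {M N : SheafOfModules.{u} R} (φ : M ⟶ N) {U V : C} (h : V ⟶ U) (x : M.val.obj (op U)) :
    (φ.val.app (op V)).hom (res M h x) = res N h ((φ.val.app (op U)).hom x) :=
  PresheafOfModules.naturality_apply φ.val h.op x

omit [HasSheafify J AddCommGrpCat.{u}] [J.WEqualsLocallyBijective AddCommGrpCat.{u}] in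
theorem res_sec {M : SheafOfModules.{u} R} (σ : M.sections) {U V : C} (h : V ⟶ U) :
    res M h (sec σ U) = sec σ V :=
  PresheafOfModules.sections_property σ h.op

omit [HasSheafify J AddCommGrpCat.{u}] [J.WEqualsLocallyBijective AddCommGrpCat.{u}] in
theorem map_mem_span {M N : SheafOfModules.{u} R} (φ : M ⟶ N) {V : C} {I : Type*} (v : I → M.val.obj (op V))
    (w : I → N.val.obj (op V)) (hvw : ∀ i, (φ.val.app (op V)).hom (v i) = w i) {m : M.val.obj (op V)}
    (hm : m ∈ Submodule.span (R.obj.obj (op V)) (Set.range v)) :
    (φ.val.app (op V)).hom m ∈ Submodule.span (R.obj.obj (op V)) (Set.range w) := by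
  have := Submodule.mem_map_of_mem (f := (φ.val.app (op V)).hom) hm
  rw [Submodule.map_span, ← Set.range_comp] at this
  rwa [show ⇑(φ.val.app (op V)).hom ∘ v = w from funext hvw] at this

end Groth.Agent.AlgSpQC
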