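import Groth.Agent.AlgSpD.EtSite
import Groth.Agent.AlgSpQC.Gen
import Groth.Prelude.Def_AlgSpModX
import Mathlib.RingTheory.Flat.Stability
import Mathlib.AlgebraicGeometry.Morphisms.Flat

/-!
# Sections of modules over affine objects of the small etale site
-/

universe u

open CategoryTheory CategoryTheory.Limits AlgebraicGeometry Opposite

set_option backward.isDefEq.respectTransparency false
set_option autoImplicit false

namespace Groth.Agent.AlgSpQC

open _root_.AlgSp

variable {S : Scheme.{u}} {X : Sp S} {M N : ModEt X}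

/-- The functions of an object of the site. -/
abbrev gr (E : EtOver X) : Type u := Γ(E.obj.left.left, ⊤)

/-- Pullback of functions along a morphism of the site. -/
noncomputable abbrev gm {E E' : EtOver X} (g : E' ⟶ E) : gr E →+* gr E' := g.hom.left.left.appTop.hom

theorem gm_id (E : EtOver X) (a : gr E) : gm (𝟙 E) a = a := rfl

theorem gm_comp {E E' E'' : EtOver X} (g : E' ⟶ E) (h : E'' ⟶ E') (a : gr E) :
    gm (h ≫ g) a = gm h (gm g a) := by
  change (h.hom.left.left ≫ g.hom.left.left).appTop a = _
  rw [Scheme.Hom.comp_appTop]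
  rfl

/-- Sections of a module are a module over the functions. -/
noncomputable scoped instance moduleSect (M : ModEt X) (E : EtOver X) : Module (gr E) (sectModEt M E) :=
  Module.compHom (sectModEt M E) (upΓ E)

theorem smul_def {M : ModEt X} {E : EtOver X} (a : gr E) (s : sectModEt M E) : a • s = upΓ E a • s := rfl

/-- Restriction of sections. -/
noncomputable def rs (M : ModEt X) {E E' : EtOver X} (g : E' ⟶ E) : sectModEt M E →+ sectModEt M E' where
  toFun s := res M g s
  map_zero' := map_zero (M.val.map g.op).hom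
  map_add' := map_add (M.val.map g.op).hom

theorem rs_smul {E E' : EtOver X} (g : E' ⟶ E) (a : gr E) (s : sectModEt M E) :
    rs M g (a • s) = gm g a • rs M g s :=
  res_smul M g (upΓ E a) s

theorem rs_id (E : EtOver X) (s : sectModEt M E) : rs M (𝟙 E) s = s := by
  change M.val.map (𝟙 (op E)) s = s
  rw [PresheafOfModules.map_id]
  rfl

theorem rs_comp {E E' E'' : EtOver X} (g : E' ⟶ E) (h : E'' ⟶ E') (s : sectModEt M E) :
    rs M (h ≫ g) s = rs M h (rs M g s) :=
  M.val.map_comp_apply g.op h.op s

theorem annSect_eq {E : EtOver X} (s : sectModEt M E) :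
    annSect s = (⊥ : Submodule (gr E) (sectModEt M E)).colon {s} := by
  ext a
  rw [mem_annSect_iff, Submodule.mem_colon]
  simp [smul_def]

/-- Sections agreeing on a covering sieve agree. -/
theorem eq_of_sieve {E : EtOver X} {T : Sieve E} (hT : T ∈ etTop X E) {x y : sectModEt M E}
    (h : ∀ (V : EtOver X) (f : V ⟶ E), T f → rs M f x = rs M f y) : x = y :=
  Presheaf.IsSheaf.isSeparated M.isSheaf E T hT x y h

/-- Sections agreeing on a jointly surjective family agree. -/
theorem eq_of_family {E : EtOver X} {ι : Type*} {V : ι → EtOver X} (f : ∀ k, V k ⟶ E)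
    (hf : ∀ x : E.obj.left.left, ∃ k, x ∈ Set.range (f k).hom.left.left) {x y : sectModEt M E}
    (h : ∀ k, rs M (f k) x = rs M (f k) y) : x = y := by
  refine eq_of_sieve (AlgSp.ofArrows_mem_etTop V f hf) fun W g hg => ?_
  obtain ⟨k, a, rfl⟩ := Sieve.mem_ofArrows_iff .. |>.1 hg
  rw [rs_comp, rs_comp, h]

/-- A covering sieve of an affine object contains a finite jointly surjective family of affine objects. -/
theorem exists_affine_family {E : EtOver X} [IsAffine E.obj.left.left] {T : Sieve E} (hT : T ∈ etTop X E) :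
    ∃ (ι : Type u) (_ : Finite ι) (V : ι → EtOver X) (f : ∀ k, V k ⟶ E),
      (∀ k, IsAffine (V k).obj.left.left) ∧ (∀ k, T (f k)) ∧
        ∀ x : E.obj.left.left, ∃ k, x ∈ Set.range (f k).hom.left.left := by
  have key : ∀ x : E.obj.left.left, ∃ (V : EtOver X) (f : V ⟶ E), IsAffine V.obj.left.left ∧ T f ∧
      x ∈ Set.range f.hom.left.left := by
    intro x
    obtain ⟨E', g, hg, z, hz⟩ := (Groth.Agent.AlgSpD.mem_etTop_iff _).1 hT x
    obtain ⟨_, ⟨W, hW : IsAffineOpen W, rfl⟩, hmem, -⟩ :=
      E'.obj.left.left.isBasis_affineOpens.exists_subset_of_mem_open (Set.mem_univ z) isOpen_univ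
    let O : Over S := Over.mk (Scheme.Opens.ι W ≫ E'.obj.left.hom)
    let j : O ⟶ E'.obj.left := Over.homMk (Scheme.Opens.ι W) rfl
    let V : EtOver X := EtOver.mk ((yon S).map j ≫ E'.obj.hom)
      ((RepWith _).comp_mem _ _ ((repWith_yon_map_iff _ j).2 (inferInstanceAs (Etale (Scheme.Opens.ι W))))
        E'.property)
    let jV : V ⟶ E' := EtOver.homMk j rfl
    exact ⟨V, jV ≫ g, hW, T.downward_closed hg jV, ⟨z, hmem⟩, hz⟩
  choose V f hV hTf hmem using key
  obtain ⟨t, ht⟩ := isCompact_univ.elim_finite_subcover (fun x => Set.range (f x).hom.left.left)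
    (fun x => by
      have := EtOver.etale_left (f x)
      exact (f x).hom.left.left.isOpenMap.isOpen_range)
    (fun x _ => Set.mem_iUnion.2 ⟨x, hmem x⟩)
  refine ⟨{x // x ∈ t}, inferInstance, fun k => V k.1, fun k => f k.1, fun k => hV k.1, fun k => hTf k.1,
    fun x => ?_⟩
  obtain ⟨k, hk, hxk⟩ := Set.mem_iUnion₂.1 (ht (Set.mem_univ x))
  exact ⟨⟨k, hk⟩, hxk⟩

/-- Morphisms between affine objects are flat on functions. -/
theorem flat_gm {E E' : EtOver X} [IsAffine E.obj.left.left] [IsAffine E'.obj.left.left] (g : E' ⟶ E) :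
    (gm g).Flat := by
  have := EtOver.etale_left g
  exact (HasRingHomProperty.iff_of_isAffine (P := @Flat)).1 inferInstance

/-- A jointly surjective family of affine objects is jointly surjective on spectra of functions. -/
theorem exists_prime_comap {E : EtOver X} [IsAffine E.obj.left.left] {ι : Type*} {V : ι → EtOver X}
    (f : ∀ k, V k ⟶ E) (hV : ∀ k, IsAffine (V k).obj.left.left)
    (hf : ∀ x : E.obj.left.left, ∃ k, x ∈ Set.range (f k).hom.left.left) (p : PrimeSpectrum (gr E)) :
    ∃ k q, PrimeSpectrum.comap (gm (f k)) q = p := by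
  obtain ⟨k, y, hy⟩ := hf (E.obj.left.left.isoSpec.inv p)
  have := hV k
  refine ⟨k, (V k).obj.left.left.isoSpec.hom y, ?_⟩
  change Spec.map (f k).hom.left.left.appTop ((V k).obj.left.left.isoSpec.hom y) = p
  rw [← Scheme.Hom.comp_apply, Scheme.isoSpec_hom_naturality, Scheme.Hom.comp_apply, hy,
    ← Scheme.Hom.comp_apply, Iso.inv_hom_id]
  rfl

/-- Fibre products of affine objects of the site, with their rings of functions. -/
theorem exists_overlap {U V V' : EtOver X} [IsAffine U.obj.left.left] [IsAffine V.obj.left.left]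
    [IsAffine V'.obj.left.left] (f : V ⟶ U) (f' : V' ⟶ U) :
    ∃ (W : EtOver X) (p : W ⟶ V) (q : W ⟶ V'), IsAffine W.obj.left.left ∧ p ≫ f = q ≫ f' ∧
      IsPushout (CommRingCat.ofHom (gm f)) (CommRingCat.ofHom (gm f')) (CommRingCat.ofHom (gm p))
        (CommRingCat.ofHom (gm q)) ∧
      ∀ (Z : EtOver X) (a : Z ⟶ V) (b : Z ⟶ V'), a ≫ f = b ≫ f' → ∃ l, l ≫ p = a ∧ l ≫ q = b := by
  have sq : IsPullback (EtOver.pullbackFst f f').hom.left.left (EtOver.pullbackSnd f f').hom.left.left
      f.hom.left.left f'.hom.left.left := (IsPullback.of_hasPullback f.hom.left f'.hom.left).map (Over.forget S)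
  have hW : IsAffine (EtOver.pullbackObj f f').obj.left.left := IsAffine.of_isIso sq.isoPullback.hom
  refine ⟨EtOver.pullbackObj f f', EtOver.pullbackFst f f', EtOver.pullbackSnd f f', hW,
    EtOver.pullback_condition f f', ?_,
    fun Z a b h => ⟨_, PullbackCone.IsLimit.lift' (EtOver.pullbackIsLimit f f') a b h |>.2⟩⟩
  have sq' : IsPullback (Scheme.Spec.map (EtOver.pullbackFst f f').hom.left.left.appTop.op)
      (Scheme.Spec.map (EtOver.pullbackSnd f f').hom.left.left.appTop.op)
      (Scheme.Spec.map f.hom.left.left.appTop.op) (Scheme.Spec.map f'.hom.left.left.appTop.op) :=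
    sq.of_iso (Scheme.isoSpec _) (Scheme.isoSpec _) (Scheme.isoSpec _) (Scheme.isoSpec _)
      (Scheme.isoSpec_hom_naturality _).symm (Scheme.isoSpec_hom_naturality _).symm
      (Scheme.isoSpec_hom_naturality _).symm (Scheme.isoSpec_hom_naturality _).symm
  exact (IsPullback.of_map_of_faithful Scheme.Spec sq').unop.flip

end Groth.Agent.AlgSpQC
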