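import Groth.Agent.ModShf.GrothAb
import Groth.Prelude.Def_AlgSpOX
import Mathlib.CategoryTheory.Limits.Yoneda
import Mathlib.CategoryTheory.Yoneda

/-!
# Modules on the small etale site have enough injectives
-/

universe v u

open CategoryTheory CategoryTheory.Limits AlgebraicGeometry Opposite

set_option backward.isDefEq.respectTransparency false
set_option backward.isDefEq.respectTransparency.types false
set_option autoImplicit false

namespace Groth.Agent.AlgSpQC

section General

variable {C : Type (u + 1)} [Category.{u} C] {J : GrothendieckTopology C} (R : Sheaf J RingCat.{u + 1})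
  [HasSheafify J AddCommGrpCat.{u + 1}] [J.WEqualsLocallyBijective AddCommGrpCat.{u + 1}]

/-- The free sheaf of modules on an object of the site. -/
noncomputable def freeRep (U : C) : SheafOfModules.{u + 1} R :=
  (PresheafOfModules.sheafification (𝟙 R.obj)).obj
    ((PresheafOfModules.free R.obj).obj (yoneda.obj U ⋙ uliftFunctor.{u + 1}))

/-- Maps out of the free sheaf on an object are the sections over it. -/
noncomputable def freeRepEquiv (U : C) (M : SheafOfModules.{u + 1} R) :
    (freeRep R U ⟶ M) ≃ M.val.obj (op U) :=
  (((PresheafOfModules.sheafificationAdjunction (𝟙 R.obj)).homEquiv _ M).trans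
    PresheafOfModules.freeHomEquiv).trans uliftYonedaEquiv.{u + 1}

theorem freeRepEquiv_comp (U : C) {M N : SheafOfModules.{u + 1} R} (g : freeRep R U ⟶ M) (f : M ⟶ N) :
    freeRepEquiv R U N (g ≫ f) = f.val.app _ (freeRepEquiv R U M g) := by
  let adj := PresheafOfModules.sheafificationAdjunction (𝟙 R.obj)
  exact (congrArg (fun t => uliftYonedaEquiv.{u + 1} (PresheafOfModules.freeHomEquiv t))
    (adj.homEquiv_naturality_right g f)).trans rfl

theorem isSeparating_freeRep : ObjectProperty.IsSeparating (ObjectProperty.ofObj (freeRep R)) := by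
  intro M N f g h
  apply SheafOfModules.hom_ext
  ext ⟨U⟩ m
  obtain ⟨φ, rfl⟩ := (freeRepEquiv R U M).surjective m
  simpa only [freeRepEquiv_comp] using congrArg (freeRepEquiv R U N) (h _ ⟨U⟩ φ)

/-- Sheaves of modules on such a site form a Grothendieck abelian category. -/
theorem isGrothendieckAbelian_sheafOfModules : IsGrothendieckAbelian.{u + 1} (SheafOfModules.{u + 1} R) :=
  { locallySmall := inferInstance
    hasFilteredColimitsOfSize := ⟨fun _ _ _ => inferInstance⟩
    ab5OfSize := ⟨fun _ _ _ => inferInstance⟩
    hasSeparator := ⟨⟨∐ (freeRep R), (isSeparator_sigma _).2 (isSeparating_freeRep R)⟩⟩ }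

end General

open _root_.AlgSp

/-- The modules on the small etale site form a category with enough injectives. -/
theorem enoughInjectives_modEt {S : Scheme.{u}} (X : Sp S) : EnoughInjectives (ModEt X) :=
  @IsGrothendieckAbelian.enoughInjectives (ModEt X) _ _ (isGrothendieckAbelian_sheafOfModules (OEtRing X))

end Groth.Agent.AlgSpQC
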