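import Groth.Agent.AlgSpQC.Cart

/-!
# From elementwise presentations on affine objects back to presentations
-/

universe u

open CategoryTheory CategoryTheory.Limits AlgebraicGeometry Opposite TensorProduct

set_option backward.isDefEq.respectTransparency false
set_option autoImplicit false

namespace Groth.Agent.AlgSpQC

open _root_.AlgSp

variable {S : Scheme.{u}} {X : Sp S} {M : ModEt X} {E : EtOver X}

/-- The base as an object over itself. -/
abbrev oTop (E : EtOver X) : Over E := Over.mk (𝟙 E)

/-- The morphism to the base. -/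
abbrev toTop {E : EtOver X} (Y : Over E) : Y ⟶ oTop E := Over.homMk Y.hom

/-- A value on the base as a section of a module over it. -/
noncomputable def secTop {F : SheafOfModules.{u + 1} ((OEtRing X).over E)} (m : F.val.obj (op (oTop E))) :
    F.sections :=
  PresheafOfModules.sectionsMk (fun Y => res F (toTop Y.unop) m) fun {Y Z} f => by
    refine (F.val.map_comp_apply (toTop Y.unop).op f m).symm.trans ?_
    rw [show (toTop Y.unop).op ≫ f = (toTop Z.unop).op from
      Quiver.Hom.unop_inj (Over.OverMorphism.ext ((Over.w f.unop).trans rfl))]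

theorem sec_secTop {F : SheafOfModules.{u + 1} ((OEtRing X).over E)} (m : F.val.obj (op (oTop E)))
    (Y : Over E) : sec (secTop m) Y = res F (toTop Y) m :=
  rfl

/-- A section of `M` over `E` as a section of the restriction. -/
noncomputable def secOf (m : sectModEt M E) : (M.over E).sections := secTop (F := M.over E) m

theorem topSec_secOf (m : sectModEt M E) : topSec (secOf m) = m := by
  change rs M (toTop (oTop E)).left m = m
  exact rs_id E m

theorem kernel_ι_injective {A B : SheafOfModules.{u + 1} ((OEtRing X).over E)} (π : A ⟶ B) (Y : Over E) :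
    Function.Injective ((kernel.ι π).val.app (op Y)).hom := by
  have : Mono ((SheafOfModules.evaluation ((OEtRing X).over E) (op Y)).map (kernel.ι π)) := inferInstance
  have h := (ModuleCat.mono_iff_injective _).1 this
  exact h

theorem mem_span_over_of_mem_span (Z : Over E) (A : Set ((M.over E).val.obj (op Z)))
    (B : Set (sectModEt M Z.left)) (hAB : A = B) {x : sectModEt M Z.left}
    (hx : x ∈ Submodule.span (gr Z.left) B) :
    (x : (M.over E).val.obj (op Z)) ∈ Submodule.span (((OEtRing X).over E).obj.obj (op Z)) A := by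
  subst hAB
  induction hx using Submodule.span_induction with
  | mem x hx => exact Submodule.subset_span hx
  | zero => exact Submodule.zero_mem _
  | add x y _ _ hx hy => exact Submodule.add_mem _ hx hy
  | smul a x _ hx => exact Submodule.smul_mem _ (up' Z a) hx

theorem lce_mem_span {I κ : Type (u + 1)} (Z : Over E) (v : κ → (I →₀ gr Z.left)) {c : I →₀ gr Z.left}
    (hc : c ∈ Submodule.span (gr Z.left) (Set.range v)) :
    lce I Z c ∈ Submodule.span (((OEtRing X).over E).obj.obj (op Z)) (Set.range fun r => lce I Z (v r)) := by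
  induction hc using Submodule.span_induction with
  | mem x hx =>
    obtain ⟨r, rfl⟩ := hx
    exact Submodule.subset_span ⟨r, rfl⟩
  | zero => rw [map_zero]; exact Submodule.zero_mem _
  | add x y _ _ hx hy => rw [map_add]; exact Submodule.add_mem _ hx hy
  | smul a x _ hx => rw [lce_smul]; exact Submodule.smul_mem _ _ hx

/-- A covering sieve downstairs gives one over the base. -/
theorem overSieve_mem {Y : Over E} {T : Sieve Y.left} (hT : T ∈ etTop X Y.left) :
    (Sieve.overEquiv Y).symm T ∈ (etTop X).over E Y := by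
  exact (congrArg (fun U => U ∈ etTop X Y.left) ((Sieve.overEquiv Y).apply_symm_apply T)).mpr hT

theorem epi_secOf {I : Type (u + 1)} (s : I → sectModEt M E)
    (hgen : ∀ (E' : EtOver X) (g : E' ⟶ E) (m : sectModEt M E'), ∃ T ∈ etTop X E', ∀ (V : EtOver X) (h : V ⟶ E'),
      T h → rs M h m ∈ Submodule.span (gr V) (Set.range (sr (h ≫ g) s))) :
    Epi ((M.over E).freeHomEquiv.symm fun i => secOf (s i)) := by
  refine epi_of_span_mem _ fun Y m => ?_
  obtain ⟨T, hT, h⟩ := hgen Y.left Y.hom m
  refine ⟨_, overSieve_mem hT, fun V g hg => ?_⟩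
  have h' := h V.left g.left ((Sieve.overEquiv_symm_iff _ _).1 hg)
  rw [Over.w g] at h'
  exact mem_span_over_of_mem_span V _ _ rfl h'

theorem exists_lift_of_pres {I κ : Type (u + 1)} {s : I → sectModEt M E} (C : κ → (I →₀ gr E))
    (hC : ∀ r, lc s (C r) = 0) (r : κ) :
    ∃ y, ((kernel.ι ((M.over E).freeHomEquiv.symm fun i => secOf (s i))).val.app (op (oTop E))).hom y =
      lce I (oTop E) (C r) := by
  refine exists_kernel_lift _ _ ?_
  refine (map_lce_sr _ _ (Equiv.apply_symm_apply _ _) (top := oTop E) (oTop E) (𝟙 _) (C r)).trans ?_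
  refine Eq.trans (congrArg (fun t => lc t (C r)) (funext fun i => ?_)) ((hC r).trans (over_zero (oTop E)).symm)
  exact (rs_id E _).trans ((rs_id E _).trans (topSec_secOf (s i)))

theorem cmap_mem_span_range_of_mem_relSpan {I κ : Type (u + 1)} {s : I → sectModEt M E}
    (C : κ → (I →₀ gr E)) (hK : LinearMap.ker (lc s) = Submodule.span (gr E) (Set.range C))
    {W : EtOver X} (g : W ⟶ E) {c : I →₀ gr W} (hc : c ∈ relSpan g s) :
    c ∈ Submodule.span (gr W) (Set.range fun r => cmap (gm g) (C r)) := by
  refine Submodule.span_le.2 ?_ hc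
  rintro _ ⟨x, hx, rfl⟩
  rw [SetLike.mem_coe, hK] at hx
  rw [SetLike.mem_coe]
  induction hx using Submodule.span_induction with
  | mem x hx =>
    obtain ⟨r, rfl⟩ := hx
    exact Submodule.subset_span ⟨r, rfl⟩
  | zero => rw [cmap_zero]; exact Submodule.zero_mem _
  | add x y _ _ hx hy => rw [cmap_add]; exact Submodule.add_mem _ hx hy
  | smul a x _ hx => rw [cmap_smul]; exact Submodule.smul_mem _ _ hx

theorem exists_cover_kernel {I κ : Type (u + 1)} {s : I → sectModEt M E} (hs : Pres s) (C : κ → (I →₀ gr E))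
    (hK : LinearMap.ker (lc s) = Submodule.span (gr E) (Set.range C))
    (π : SheafOfModules.free (R := (OEtRing X).over E) I ⟶ M.over E)
    (hπ : (M.over E).freeHomEquiv π = fun i => secOf (s i))
    (Z : Over E) (c : I →₀ gr Z.left) (hz : (π.val.app (op Z)).hom (lce I Z c) = 0) :
    ∃ T₂ : Sieve Z, T₂ ∈ (etTop X).over E Z ∧
      ∀ (W : Over E) (k : W ⟶ Z), T₂ k →
        cmap (gm k.left) c ∈ Submodule.span (gr W.left) (Set.range fun r => cmap (gm W.hom) (C r)) := by
  have hlc : lc (sr Z.hom s) c = 0 := by
    refine Eq.trans ?_ ((map_lce π Z c).symm.trans (hz.trans (over_zero Z)))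
    refine congrArg (fun t => lc t c) (funext fun i => congrArg (rs M Z.hom) ?_)
    exact (topSec_secOf (s i)).symm.trans (congrArg topSec (congrFun hπ i).symm)
  obtain ⟨T₂, hT₂, h₂⟩ := hs.rel Z.left Z.hom c hlc
  refine ⟨_, overSieve_mem hT₂, fun W k hk => ?_⟩
  have h' := h₂ W.left k.left ((Sieve.overEquiv_symm_iff _ _).1 hk)
  rw [Over.w k] at h'
  exact cmap_mem_span_range_of_mem_relSpan C hK W.hom h'

theorem mem_span_of_injective {R A B : Type*} [Ring R] [AddCommGroup A] [Module R A] [AddCommGroup B] [Module R B]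
    (f : A →ₗ[R] B) (hf : Function.Injective f) {κ : Type*} (u' : κ → A) (v : κ → B) (hu : ∀ r, f (u' r) = v r)
    {x : A} {y : B} (hx : f x = y) (h : y ∈ Submodule.span R (Set.range v)) :
    x ∈ Submodule.span R (Set.range u') := by
  subst hx
  rw [← funext hu] at h
  refine (Submodule.apply_mem_span_image_iff_mem_span hf).1 ?_
  rw [← Set.range_comp]
  exact h

theorem mem_span_of_kernel_map {I κ : Type (u + 1)}
    (π : SheafOfModules.free (R := (OEtRing X).over E) I ⟶ M.over E) (W : Over E) (v : κ → (I →₀ gr W.left))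
    (u' : κ → (kernel π).val.obj (op W)) (hu : ∀ r, ((kernel.ι π).val.app (op W)).hom (u' r) = lce I W (v r))
    (x : (kernel π).val.obj (op W)) (c : I →₀ gr W.left)
    (hx : ((kernel.ι π).val.app (op W)).hom x = lce I W c) (hc : c ∈ Submodule.span (gr W.left) (Set.range v)) :
    x ∈ Submodule.span (((OEtRing X).over E).obj.obj (op W)) (Set.range u') :=
  mem_span_of_injective ((kernel.ι π).val.app (op W)).hom (kernel_ι_injective π W) u' _ hu hx
    (lce_mem_span W v hc)

theorem res_res {F : SheafOfModules.{u + 1} ((OEtRing X).over E)} {Y Z W : Over E} (g : Z ⟶ Y) (k : W ⟶ Z)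
    (x : F.val.obj (op Y)) : res F (k ≫ g) x = res F k (res F g x) :=
  F.val.map_comp_apply g.op k.op x

theorem map_eq_lce {I : Type (u + 1)} {F : SheafOfModules.{u + 1} ((OEtRing X).over E)}
    (ι : F ⟶ SheafOfModules.free (R := (OEtRing X).over E) I) {Y W : Over E} (k : W ⟶ Y) (x : F.val.obj (op Y))
    (c : I →₀ gr Y.left) (hc : lce I Y c = (ι.val.app (op Y)).hom x) :
    (ι.val.app (op W)).hom (res F k x) = lce I W (cmap (gm k.left) c) :=
  (map_res ι k x).trans ((congrArg (res _ k) hc.symm).trans (res_lce k c))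

theorem exists_cover_mem_span {I κ : Type (u + 1)} {s : I → sectModEt M E} (hs : Pres s) (C : κ → (I →₀ gr E))
    (hK : LinearMap.ker (lc s) = Submodule.span (gr E) (Set.range C))
    (π : SheafOfModules.free (R := (OEtRing X).over E) I ⟶ M.over E)
    (hπ : (M.over E).freeHomEquiv π = fun i => secOf (s i))
    (y : κ → (kernel π).val.obj (op (oTop E)))
    (hy : ∀ r, ((kernel.ι π).val.app (op (oTop E))).hom (y r) = lce I (oTop E) (C r))
    (Z : Over E) (x : (kernel π).val.obj (op Z)) (c : I →₀ gr Z.left)
    (hc : lce I Z c = ((kernel.ι π).val.app (op Z)).hom x) :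
    ∃ T₂ : Sieve Z, T₂ ∈ (etTop X).over E Z ∧
      ∀ (W : Over E) (k : W ⟶ Z), T₂ k → res (kernel π) k x ∈
        Submodule.span (((OEtRing X).over E).obj.obj (op W))
          (Set.range fun r => res (kernel π) (toTop W) (y r)) := by
  have h := exists_cover_kernel hs C hK π hπ Z c
    ((congrArg (π.val.app (op Z)).hom hc).trans (map_kernel_ι π x))
  revert h
  refine fun ⟨T₂, hT₂, h₂⟩ => ⟨T₂, hT₂, fun W k hk => ?_⟩
  have e := map_eq_lce (kernel.ι π) k x c hc
  have e' := fun r => map_eq_lce (kernel.ι π) (toTop W) (y r) (C r) (hy r).symm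
  exact mem_span_of_kernel_map π W (fun r => cmap (gm W.hom) (C r)) (fun r => res (kernel π) (toTop W) (y r))
    e' (res (kernel π) k x) (cmap (gm k.left) c) e (h₂ W k hk)

theorem epi_of_local {κ : Type (u + 1)} {F : SheafOfModules.{u + 1} ((OEtRing X).over E)}
    (y : κ → F.val.obj (op (oTop E)))
    (h : ∀ (Y : Over E) (z : F.val.obj (op Y)), ∃ T ∈ (etTop X).over E Y, ∀ (Z : Over E) (g : Z ⟶ Y), T g →
      ∃ T₂ : Sieve Z, T₂ ∈ (etTop X).over E Z ∧ ∀ (W : Over E) (k : W ⟶ Z), T₂ k → res F k (res F g z) ∈
        Submodule.span (((OEtRing X).over E).obj.obj (op W)) (Set.range fun r => res F (toTop W) (y r))) :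
    Epi (F.freeHomEquiv.symm fun r => secTop (y r)) := by
  refine epi_of_span_mem _ fun Y z => ?_
  obtain ⟨T, hT, key⟩ := h Y z
  choose! T₂ hT₂ hT₂' using key
  refine ⟨Sieve.bind T fun Z g _ => T₂ Z g, ((etTop X).over E).bind_covering hT fun Z g hg => hT₂ Z g hg,
    fun V g ⟨Z, k, f, hf, hk, e⟩ => ?_⟩
  subst e
  rw [res_res]
  exact hT₂' Z f hf V k hk

theorem exists_lce_local {I : Type (u + 1)} (Y : Over E)
    (z : (SheafOfModules.free (R := (OEtRing X).over E) I).val.obj (op Y)) :
    ∃ T ∈ (etTop X).over E Y, ∀ (Z : Over E) (g : Z ⟶ Y), T g → ∃ c : I →₀ gr Z.left,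
      lce I Z c = res (SheafOfModules.free (R := (OEtRing X).over E) I) g z := by
  obtain ⟨T, hT, hTs⟩ := span_mem_of_epi (M := SheafOfModules.free (R := (OEtRing X).over E) I)
    (fun i => SheafOfModules.freeSection i)
    (by
      have : (SheafOfModules.free (R := (OEtRing X).over E) I).freeHomEquiv.symm
          (fun i => SheafOfModules.freeSection i) = 𝟙 _ := Equiv.symm_apply_apply _ _
      rw [this]; infer_instance) Y z
  exact ⟨T, hT, fun Z g hg => exists_lce_of_mem_span (hTs Z g hg)⟩

theorem epi_of_lce_local {I κ : Type (u + 1)} {F : SheafOfModules.{u + 1} ((OEtRing X).over E)}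
    (ι : F ⟶ SheafOfModules.free (R := (OEtRing X).over E) I) (y : κ → F.val.obj (op (oTop E)))
    (H : ∀ (Z : Over E) (x : F.val.obj (op Z)) (c : I →₀ gr Z.left), lce I Z c = (ι.val.app (op Z)).hom x →
      ∃ T₂ : Sieve Z, T₂ ∈ (etTop X).over E Z ∧ ∀ (W : Over E) (k : W ⟶ Z), T₂ k → res F k x ∈
        Submodule.span (((OEtRing X).over E).obj.obj (op W)) (Set.range fun r => res F (toTop W) (y r))) :
    Epi (F.freeHomEquiv.symm fun r => secTop (y r)) := by
  refine epi_of_local y fun Y z => ?_
  obtain ⟨T, hT, hTs⟩ := exists_lce_local Y ((ι.val.app (op Y)).hom z)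
  refine ⟨T, hT, fun Z g hg => ?_⟩
  obtain ⟨c, hc⟩ := hTs Z g hg
  exact H Z (res F g z) c (hc.trans (map_res ι g z).symm)

theorem epi_relations {I κ : Type (u + 1)} {s : I → sectModEt M E} (hs : Pres s) (C : κ → (I →₀ gr E))
    (hK : LinearMap.ker (lc s) = Submodule.span (gr E) (Set.range C))
    (π : SheafOfModules.free (R := (OEtRing X).over E) I ⟶ M.over E)
    (hπ : (M.over E).freeHomEquiv π = fun i => secOf (s i))
    (y : κ → (kernel π).val.obj (op (oTop E)))
    (hy : ∀ r, ((kernel.ι π).val.app (op (oTop E))).hom (y r) = lce I (oTop E) (C r)) :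
    Epi ((kernel π).freeHomEquiv.symm fun r => secTop (y r)) := by
  exact epi_of_lce_local (kernel.ι π) y (exists_cover_mem_span hs C hK π hπ y hy)

/-- A presentation of the restriction from an elementwise presentation. -/
noncomputable def presentationOfPres {I κ : Type (u + 1)} {s : I → sectModEt M E} (hs : Pres s)
    (C : κ → (I →₀ gr E)) (hK : LinearMap.ker (lc s) = Submodule.span (gr E) (Set.range C)) :
    (M.over E).Presentation where
  generators :=
    { I := I
      s := fun i => secOf (s i)
      epi := epi_secOf s hs.gen }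
  relations :=
    { I := κ
      s := fun r => secTop (exists_lift_of_pres C (fun r => LinearMap.mem_ker.1
        (hK ▸ Submodule.subset_span ⟨r, rfl⟩)) r).choose
      epi := epi_relations hs C hK _ (Equiv.apply_symm_apply _ _) _ fun r =>
        (exists_lift_of_pres C (fun r => LinearMap.mem_ker.1
          (hK ▸ Submodule.subset_span ⟨r, rfl⟩)) r).choose_spec }

theorem eq_span_range_subtype {R A : Type*} [Semiring R] [AddCommMonoid A] [Module R A] (K : Submodule R A) :
    K = Submodule.span R (Set.range (Subtype.val : {c // c ∈ K} → A)) :=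
  ((congrArg (Submodule.span R) Subtype.range_coe).trans (Submodule.span_eq K)).symm

/-- Affine objects cover. -/
theorem coversTop_affine : (etTop X).CoversTop fun i : {V : EtOver X // IsAffine V.obj.left.left} => i.1 := by
  intro E'
  obtain ⟨T, hT, hT'⟩ := exists_affine_sieve E'
  refine GrothendieckTopology.superset_covering _ (fun V h hh => ?_) hT
  obtain ⟨W, a, b, hW, -⟩ := hT' V h hh
  exact (Sieve.mem_ofObjects_iff ..).2 ⟨⟨W, hW⟩, ⟨a⟩⟩

/-- A module whose sections over affine objects present it is quasi-coherent. -/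
theorem isQuasicoherent_of_pres (h : ∀ (E : EtOver X), IsAffine E.obj.left.left →
    Pres (id : sectModEt M E → sectModEt M E)) : M.IsQuasicoherent :=
  SheafOfModules.QuasicoherentData.isQuasicoherent (M := M)
    { I := {V : EtOver X // IsAffine V.obj.left.left}
      X := fun i => i.1
      coversTop := coversTop_affine
      presentation := fun i => presentationOfPres (h i.1 i.2)
        (Subtype.val : {c // c ∈ LinearMap.ker (lc (id : sectModEt M i.1 → sectModEt M i.1))} → _)
        (eq_span_range_subtype _) }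

/-- A module which is cartesian on affine objects is quasi-coherent. -/
theorem isQuasicoherent_of_bc (h : ∀ (E W : EtOver X) (g : W ⟶ E), IsAffine E.obj.left.left →
    IsAffine W.obj.left.left → BC M g) : M.IsQuasicoherent :=
  isQuasicoherent_of_pres fun E hE => pres_id_of_bc fun W g hW => h E W g hE hW

theorem bc_of_isQuasicoherent [M.IsQuasicoherent] {E' : EtOver X} [IsAffine E.obj.left.left]
    [IsAffine E'.obj.left.left] (g : E' ⟶ E) : BC M g :=
  bc_of_pres (pres_id M E) g

end Groth.Agent.AlgSpQC
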