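import Groth.Agent.AlgSpQC.PullFamily
import Mathlib.Algebra.Category.ModuleCat.Presheaf

/-!
# The inverse image of a quasi-coherent module, constructed from tensors on charts
-/

universe u

open CategoryTheory CategoryTheory.Limits AlgebraicGeometry Opposite TensorProduct

set_option backward.isDefEq.respectTransparency false
set_option backward.isDefEq.respectTransparency.types false
set_option autoImplicit false

namespace Groth.Agent.AlgSpQC

open _root_.AlgSp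

variable {S : Scheme.{u}} {X Y : Space S} {f : X.obj ⟶ Y.obj} (hf : Representable f) (G : ModEt Y.obj)
  {W : EtOver X.obj}

/-- Sections of the structure sheaf as functions. -/
noncomputable abbrev dnΓ (W : EtOver X.obj) : (OEtRing X.obj).obj.obj (op W) →+* gr W :=
  ULift.ringEquiv.toRingHom

noncomputable instance instModuleFamLift (W : (EtOver X.obj)ᵒᵖ) :
    Module ((OEtRing X.obj).obj.obj W) (Fam hf G W.unop) :=
  Module.compHom _ (dnΓ W.unop)

/-- Families as a presheaf of groups. -/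
noncomputable def famPre : (EtOver X.obj)ᵒᵖ ⥤ AddCommGrpCat.{u + 1} where
  obj W := AddCommGrpCat.of (Fam hf G W.unop)
  map g := AddCommGrpCat.ofHom (famRes g.unop)
  map_id _ := AddCommGrpCat.hom_ext (AddMonoidHom.ext fun x => famRes_id x)
  map_comp g g' := AddCommGrpCat.hom_ext (AddMonoidHom.ext fun x => famRes_comp g.unop g'.unop x)

noncomputable instance instModuleFamPre (W : (EtOver X.obj)ᵒᵖ) :
    Module ((OEtRing X.obj).obj.obj W) ((famPre hf G).obj W) :=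
  instModuleFamLift hf G W

/-- Families as a presheaf of modules. -/
noncomputable def famMod : PresheafOfModules.{u + 1} (OEtRing X.obj).obj :=
  PresheafOfModules.ofPresheaf (famPre hf G) fun W W' g r m => by
    obtain ⟨a⟩ := r
    exact famRes_smul g.unop (show gr W.unop from a) m

variable {hf G}

/-- A tensor restricting to prescribed values on the members of a sieve lying over a chart. -/
def IsGlue {T : Sieve W} (y : ∀ V (v : V ⟶ W), T v → Fam hf G V) (c : PChart hf W) (z : PT G c.h) : Prop :=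
  ∀ (V : EtOver X.obj) (v : V ⟶ c.Z) (hV : IsAffine V.obj.left.left) (ht : T (v ≫ c.a)),
    μr G v (rfl : v ≫ c.h = v ≫ c.h) z = (y V (v ≫ c.a) ht).1 ⟨V, 𝟙 _, c.E, v ≫ c.h, hV, c.hE⟩

theorem exists_isGlue [G.IsQuasicoherent] {T : Sieve W} (hT : T ∈ etTop X.obj W)
    (y : ∀ V (v : V ⟶ W), T v → Fam hf G V)
    (hy : ∀ (U V₁ V₂ : EtOver X.obj) (a : U ⟶ V₁) (b : U ⟶ V₂) (v₁ : V₁ ⟶ W) (v₂ : V₂ ⟶ W) (h₁ : T v₁) (h₂ : T v₂),
      a ≫ v₁ = b ≫ v₂ → famRes a (y V₁ v₁ h₁) = famRes b (y V₂ v₂ h₂))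
    (c : PChart hf W) : ∃ z, IsGlue y c z := by
  have := c.hZ
  have := c.hE
  obtain ⟨κ, _, V, v, hV, ht, hv⟩ := exists_affine_family ((etTop X.obj).pullback_stable c.a hT)
  obtain ⟨z, hz⟩ := μr_glue (G := G) (h := c.h) v hV hv
    (fun k => (y (V k) (v k ≫ c.a) (ht k)).1 ⟨V k, 𝟙 _, c.E, v k ≫ c.h, hV k, c.hE⟩) (fun i j U a b hab hU => by
      have := hV i
      have := hV j
      exact fam_eq_of_overlap y hy a b (ht i) (ht j)
        (by rw [← Category.assoc, hab, Category.assoc]) _ _ _ _ _)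
  refine ⟨z, fun V' v' hV' ht' => ?_⟩
  have hQ : ∀ p : V'.obj.left.left, ∃ (Q : EtOver X.obj) (q : Q ⟶ V') (k : κ) (r : Q ⟶ V k),
      IsAffine Q.obj.left.left ∧ q ≫ v' = r ≫ v k ∧ p ∈ Set.range q.hom.left.left := by
    intro p
    obtain ⟨k, b, hb⟩ := hv (v'.hom.left.left p)
    obtain ⟨d, hd, -⟩ := Scheme.Pullback.exists_preimage_pullback (f := v'.hom.left.left)
      (g := (v k).hom.left.left) p b hb.symm
    have sqP := isPullback_pullbackObj v' (v k)
    obtain ⟨d', hd'⟩ : ∃ d', (EtOver.pullbackFst v' (v k)).hom.left.left d' = p :=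
      ⟨sqP.isoPullback.inv d,
        ((Scheme.Hom.comp_apply _ _ _).symm.trans congr($(sqP.isoPullback_inv_fst) d)).trans hd⟩
    obtain ⟨Q, g, hQ, -, w, hw⟩ := exists_affine_subObj (E := EtOver.pullbackObj v' (v k)) isOpen_univ
      (Set.mem_univ d')
    refine ⟨Q, g ≫ EtOver.pullbackFst _ _, k, g ≫ EtOver.pullbackSnd _ _, hQ, ?_, w, ?_⟩
    · rw [Category.assoc, Category.assoc, EtOver.pullback_condition]
    · rw [← hd', ← hw]
      rfl
  choose Q q k r hQa hqr hq using hQ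
  refine μr_separated q hQa (fun p => ⟨p, hq p⟩) fun p => ?_
  have := hQa p
  have := hV (k p)
  have wq : q p ≫ v' ≫ c.h = r p ≫ v (k p) ≫ c.h := by rw [← Category.assoc, hqr, Category.assoc]
  rw [fam_eq_of_overlap y hy (q p) (r p) ht' (ht (k p)) (by rw [← Category.assoc, hqr, Category.assoc])
    (v' ≫ c.h) (v (k p) ≫ c.h) (q p ≫ v' ≫ c.h) rfl wq, ← hz (k p),
    μr_comp (w'' := (Category.assoc (q p) v' c.h).symm),
    μr_comp (w'' := wq.trans (Category.assoc (r p) (v (k p)) c.h).symm)]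
  exact μ_congr (hqr p) rfl _ _ z

theorem IsGlue.eq_at_id [G.IsQuasicoherent] {T : Sieve W} {y : ∀ V (v : V ⟶ W), T v → Fam hf G V}
    {c : PChart hf W} {z : PT G c.h} (hz : IsGlue y c z) (hm : T c.a) :
    z = (y c.Z c.a hm).1 ⟨c.Z, 𝟙 _, c.E, c.h, c.hZ, c.hE⟩ := by
  have key : ∀ (m : c.Z ⟶ W) (k : c.Z ⟶ bcO hf c.E) (hm : T m) (w : k = 𝟙 c.Z ≫ c.h), m = 𝟙 c.Z ≫ c.a →
      μr G (𝟙 c.Z) w z = (y c.Z m hm).1 ⟨c.Z, 𝟙 _, c.E, k, c.hZ, c.hE⟩ := by
    intro m k hm w e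
    subst e
    subst w
    exact hz c.Z (𝟙 _) c.hZ hm
  have h := key c.a c.h hm (Category.id_comp _).symm (Category.id_comp _).symm
  rwa [μr_refl] at h

theorem isGlue_unique [G.IsQuasicoherent] {T : Sieve W} (hT : T ∈ etTop X.obj W)
    {y : ∀ V (v : V ⟶ W), T v → Fam hf G V} {c : PChart hf W} {z z' : PT G c.h}
    (hz : IsGlue y c z) (hz' : IsGlue y c z') : z = z' := by
  have := c.hZ
  obtain ⟨κ, _, V, v, hV, ht, hv⟩ := exists_affine_family ((etTop X.obj).pullback_stable c.a hT)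
  exact μr_separated v hV hv fun k => (hz _ _ (hV k) (ht k)).trans (hz' _ _ (hV k) (ht k)).symm

theorem exists_fam_glue [G.IsQuasicoherent] {T : Sieve W} (hT : T ∈ etTop X.obj W)
    (y : ∀ V (v : V ⟶ W), T v → Fam hf G V)
    (hy : ∀ (U V₁ V₂ : EtOver X.obj) (a : U ⟶ V₁) (b : U ⟶ V₂) (v₁ : V₁ ⟶ W) (v₂ : V₂ ⟶ W) (h₁ : T v₁) (h₂ : T v₂),
      a ≫ v₁ = b ≫ v₂ → famRes a (y V₁ v₁ h₁) = famRes b (y V₂ v₂ h₂)) :
    ∃ t : Fam hf G W, ∀ V (v : V ⟶ W) (hv : T v), famRes v t = y V v hv := by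
  choose z hz using exists_isGlue hT y hy
  refine ⟨⟨z, fun c c' l e => ?_⟩, fun V v hv => Subtype.ext (funext fun c => ?_)⟩
  · have := c.hZ
    obtain ⟨κ, _, V, v, hV, ht, hv⟩ := exists_affine_family ((etTop X.obj).pullback_stable c.a hT)
    refine compat_of_cover v hv fun k => ?_
    have := hV k
    have ev : (v k ≫ l) ≫ c'.a = v k ≫ c.a := by rw [Category.assoc, e]
    have ht' : T ((v k ≫ l) ≫ c'.a) := by rw [ev]; exact ht k
    have hc' := hz c' (V k) (v k ≫ l) (hV k) ht'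
    rw [hz c (V k) (v k) (hV k) (ht k), μr_comp (w'' := (Category.assoc (v k) l c'.h).symm)]
    refine Compat.congr_μr (v k ≫ l) _ ?_
    rw [hc']
    have key : ∀ (m m' : V k ⟶ W) (hm : T m) (hm' : T m'), m = m' →
        ∀ d : PChart hf (V k), (y (V k) m hm).1 d = (y (V k) m' hm').1 d := by
      rintro m _ hm hm' rfl d
      rfl
    rw [key _ _ ht' (ht k) ev]
    have := (y (V k) (v k ≫ c.a) (ht k)).2 ⟨V k, 𝟙 _, c.E, v k ≫ c.h, hV k, c.hE⟩
      ⟨V k, 𝟙 _, c'.E, (v k ≫ l) ≫ c'.h, hV k, c'.hE⟩ (𝟙 _) (Category.id_comp _)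
    have w₀ : (v k ≫ l) ≫ c'.h = 𝟙 _ ≫ (v k ≫ l) ≫ c'.h := (Category.id_comp _).symm
    have := this.congr_μr (𝟙 _) w₀
    rwa [μr_refl] at this
  · have hm : T (c.a ≫ v) := T.downward_closed hv c.a
    have h₁ := (hz (c.comp v)).eq_at_id (c := c.comp v) hm
    have h₃ := congrArg (fun t => t.1 ⟨c.Z, 𝟙 _, c.E, c.h, c.hZ, c.hE⟩)
      (hy c.Z c.Z V (𝟙 _) c.a (c.a ≫ v) v hm hv (Category.id_comp _))
    refine h₁.trans ?_
    refine ((fam_congr (y c.Z (c.a ≫ v) hm).1 c.h c.hZ c.hE (Category.id_comp (𝟙 c.Z)).symm).trans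
      h₃).trans ?_
    exact fam_congr (y V v hv).1 c.h c.hZ c.hE (Category.id_comp c.a)

theorem fam_eq_of_cover [G.IsQuasicoherent] {T : Sieve W} (hT : T ∈ etTop X.obj W) {t t' : Fam hf G W}
    (h : ∀ V (v : V ⟶ W), T v → famRes v t = famRes v t') : t = t' := by
  refine Subtype.ext (funext fun c => ?_)
  have := c.hZ
  have := c.hE
  obtain ⟨κ, _, V, v, hV, ht, hv⟩ := exists_affine_family ((etTop X.obj).pullback_stable c.a hT)
  refine μr_separated v hV hv fun k => ?_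
  have := hV k
  let d : PChart hf W := ⟨V k, v k ≫ c.a, c.E, v k ≫ c.h, hV k, c.hE⟩
  have e : t.1 d = t'.1 d := by
    have := congrArg (fun s => s.1 ⟨V k, 𝟙 _, c.E, v k ≫ c.h, hV k, c.hE⟩) (h _ _ (ht k))
    exact (fam_congr t.1 _ _ _ (Category.id_comp _).symm).trans
      (this.trans (fam_congr t'.1 _ _ _ (Category.id_comp _)))
  rw [← (t.2 d c (v k) rfl).eq, ← (t'.2 d c (v k) rfl).eq, e]

variable (hf G) in
theorem isSheaf_famMod [G.IsQuasicoherent] :
    Presheaf.IsSheaf (etTop X.obj) (famMod hf G).presheaf := by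
  rw [Presheaf.isSheaf_iff_isSheaf_forget _ _ (CategoryTheory.forget AddCommGrpCat.{u + 1}),
    isSheaf_iff_isSheaf_of_type]
  intro W T hT x hx
  obtain ⟨t, ht⟩ := exists_fam_glue hT (fun V v hv => x v hv)
    fun U V₁ V₂ a b v₁ v₂ h₁ h₂ e => hx a b h₁ h₂ e
  exact ⟨t, fun V v hv => ht V v hv, fun t' ht' =>
    fam_eq_of_cover hT fun V v hv => (ht' v hv).trans (ht V v hv).symm⟩

variable (hf G) in
/-- The inverse image of a quasi-coherent module, built from tensors. -/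
noncomputable def pullQC [G.IsQuasicoherent] : ModEt X.obj := ⟨famMod hf G, isSheaf_famMod hf G⟩

end Groth.Agent.AlgSpQC
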