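import Groth.Agent.AlgSpQC.Hom
import Groth.Agent.AlgSpQC.Cart
import Mathlib.Algebra.Category.ModuleCat.Presheaf.Submodule

/-!
# Submodules of sheaves of modules from local conditions on sections
-/

universe u

open CategoryTheory CategoryTheory.Limits AlgebraicGeometry Opposite

set_option backward.isDefEq.respectTransparency false
set_option backward.isDefEq.respectTransparency.types false
set_option autoImplicit false

namespace Groth.Agent.AlgSpQC

open _root_.AlgSp

variable {S : Scheme.{u}} {X : Sp S} {M : ModEt X}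

/-- A family of submodules stable under restriction, as a submodule of the underlying presheaf. -/
noncomputable def preSub (G : ∀ E : EtOver X, Submodule (gr E) (sectModEt M E))
    (hG : ∀ {E E' : EtOver X} (g : E' ⟶ E), ∀ m ∈ G E, rs M g m ∈ G E') : M.val.Submodule where
  obj E :=
    { carrier := (G E.unop : Set (sectModEt M E.unop))
      add_mem' := fun ha hb => (G E.unop).add_mem ha hb
      zero_mem' := (G E.unop).zero_mem
      smul_mem' := fun r m hm => by
        obtain ⟨a⟩ := r
        exact (G E.unop).smul_mem (show gr E.unop from a) hm }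
  map f := fun m hm => hG f.unop m hm

/-- A family of submodules given by a local condition is the family of sections of a submodule. -/
theorem exists_subSheaf (G : ∀ E : EtOver X, Submodule (gr E) (sectModEt M E))
    (hG : ∀ {E E' : EtOver X} (g : E' ⟶ E), ∀ m ∈ G E, rs M g m ∈ G E')
    (hloc : ∀ (E : EtOver X) (T : Sieve E), T ∈ etTop X E → ∀ m : sectModEt M E,
      (∀ (V : EtOver X) (f : V ⟶ E), T f → rs M f m ∈ G V) → m ∈ G E) :
    ∃ (K : ModEt X) (ι : K ⟶ M), Mono ι ∧ ∀ (E : EtOver X) (m : sectModEt M E),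
      (∃ y, hs ι E y = m) ↔ m ∈ G E := by
  let N := preSub G hG
  have hN : Presheaf.IsSheaf (etTop X) N.toPresheafOfModules.presheaf := by
    rw [Presheaf.isSheaf_iff_isSheaf_forget _ _ (CategoryTheory.forget AddCommGrpCat.{u + 1}),
      isSheaf_iff_isSheaf_of_type]
    intro E T hT x hx
    have hF : Presieve.IsSheaf (etTop X) (M.val.presheaf ⋙ CategoryTheory.forget AddCommGrpCat) :=
      (isSheaf_iff_isSheaf_of_type _ _).1
        (Presheaf.isSheaf_comp_of_isSheaf (etTop X) M.val.presheaf (CategoryTheory.forget AddCommGrpCat) M.isSheaf)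
    let x' : Presieve.FamilyOfElements (M.val.presheaf ⋙ CategoryTheory.forget AddCommGrpCat) T.arrows :=
      fun V f hf => (x f hf).1
    have hx' : x'.Compatible := fun Y₁ Y₂ Z g₁ g₂ f₁ f₂ h₁ h₂ e => congrArg Subtype.val (hx g₁ g₂ h₁ h₂ e)
    obtain ⟨t, ht, huniq⟩ := hF T hT x' hx'
    refine ⟨⟨t, hloc E T hT t fun V f hf => ?_⟩, fun V f hf => Subtype.ext (ht f hf), fun y hy => ?_⟩
    · have e : rs M f t = (x f hf).1 := ht f hf
      rw [e]
      exact (x f hf).2
    · exact Subtype.ext (huniq y.1 fun V f hf => congrArg Subtype.val (hy f hf))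
  let K : ModEt X := ⟨N.toPresheafOfModules, hN⟩
  let ι : K ⟶ M := ⟨N.ι⟩
  have : Mono ((SheafOfModules.forget (OEtRing X)).map ι) := inferInstanceAs (Mono N.ι)
  refine ⟨K, ι, (SheafOfModules.forget (OEtRing X)).mono_of_mono_map this, fun E m => ⟨?_, fun hm => ?_⟩⟩
  · rintro ⟨y, rfl⟩
    exact y.2
  · exact ⟨⟨m, hm⟩, rfl⟩

end Groth.Agent.AlgSpQC
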