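import Groth.Agent.AlgSpQC.UnionCoherent
import Mathlib.CategoryTheory.Subobject.MonoOver
import Mathlib.CategoryTheory.Filtered.Basic

/-!
# Directed unions of submodules are colimits
-/

universe w v u

open CategoryTheory CategoryTheory.Limits AlgebraicGeometry Opposite TopologicalSpace

set_option backward.isDefEq.respectTransparency false
set_option backward.isDefEq.respectTransparency.types false
set_option autoImplicit false

namespace Groth.Agent.AlgSpQC

open _root_.AlgSp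

variable {S : Scheme.{u}} {X : Space S} {M : ModEt X.obj}

theorem exists_factor {A G : ModEt X.obj} (φ : A ⟶ M) (ι : G ⟶ M) [Mono ι]
    (h : ∀ (E : EtOver X.obj) (y : sectModEt A E), ∃ z, hs ι E z = hs φ E y) : ∃ l : A ⟶ G, l ≫ ι = φ := by
  refine ⟨Abelian.monoLift ι φ (SheafOfModules.hom_ext (PresheafOfModules.hom_ext fun E =>
    ModuleCat.hom_ext (LinearMap.ext fun y => ?_))), Abelian.monoLift_comp _ _ _⟩
  obtain ⟨z, hz⟩ := h E.unop y
  change hs (φ ≫ cokernel.π ι) E.unop y = 0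
  rw [hs_comp, ← hz, ← hs_comp, cokernel.condition]
  rfl

section Desc

variable {J : Type w} [Category.{v} J] [IsFilteredOrEmpty J] {D : J ⥤ ModEt X.obj} {P : ModEt X.obj}
  (ι : ∀ j, D.obj j ⟶ M) (σ : ∀ j, D.obj j ⟶ P) (hι : ∀ {j k : J} (f : j ⟶ k), D.map f ≫ ι k = ι j)
  (hσ : ∀ {j k : J} (f : j ⟶ k), D.map f ≫ σ k = σ j) (hmono : ∀ j, Mono (ι j))
  (hsec : ∀ (W : EtOver X.obj), IsAffine W.obj.left.left → ∀ n : sectModEt M W,
      ∃ (j : J) (y : sectModEt (D.obj j) W), hs (ι j) W y = n)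

include hι hσ hmono in
theorem cocone_val_eq {E : EtOver X.obj} {j j' : J} (y : sectModEt (D.obj j) E)
    (y' : sectModEt (D.obj j') E) (h : hs (ι j) E y = hs (ι j') E y') : hs (σ j) E y = hs (σ j') E y' := by
  obtain ⟨k, a, b, -⟩ := IsFilteredOrEmpty.cocone_objs j j'
  have e : hs (D.map a) E y = hs (D.map b) E y' := by
    refine @hs_injective _ _ _ _ (ι k) (hmono k) E _ _ ?_
    rw [← hs_comp, ← hs_comp, hι, hι]
    exact h
  rw [← hσ a, ← hσ b, hs_comp, hs_comp, e]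

/-- The value of the descended map at a section, characterised on the members of the family. -/
def IsDesc {E : EtOver X.obj} (n : sectModEt M E) (p : sectModEt P E) : Prop :=
  ∀ (W : EtOver X.obj) (b : W ⟶ E) (j : J) (y : sectModEt (D.obj j) W),
    hs (ι j) W y = rs M b n → hs (σ j) W y = rs P b p

include hι hσ hmono hsec in
theorem exists_isDesc {E : EtOver X.obj} (n : sectModEt M E) : ∃ p, IsDesc ι σ n p := by
  obtain ⟨T, hT, hT'⟩ := exists_affine_sieve E
  obtain hc := (AlgSpD.mem_etTop_iff _).1 hT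
  choose V f hf w hw using hc
  choose W a b hW hab using fun e => hT' (V e) (f e) (hf e)
  choose j y hy using fun e => hsec (W e) (hW e) (rs M (b e) n)
  have hcov : ∀ x : E.obj.left.left, ∃ e, x ∈ Set.range (b e).hom.left.left := fun e =>
    ⟨e, (a e).hom.left.left (w e),
      (congrArg (fun g : V e ⟶ E => g.hom.left.left (w e)) (hab e)).trans (hw e)⟩
  obtain ⟨p, hp⟩ := exists_glue_sections (M := P) b hcov (fun e => hs (σ (j e)) (W e) (y e))
    fun i k Z gi gk hg => by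
      rw [← hs_rs, ← hs_rs]
      refine cocone_val_eq ι σ hι hσ hmono _ _ ?_
      rw [hs_rs, hs_rs, hy, hy, ← rs_comp, ← rs_comp, hg]
  refine ⟨p, fun U g k z hz => ?_⟩
  refine eq_of_sieve ((etTop X.obj).pullback_stable g (AlgSp.ofArrows_mem_etTop W b hcov)) fun Z h hh => ?_
  obtain ⟨e, l, hl⟩ := Sieve.mem_ofArrows_iff .. |>.1 hh
  rw [← rs_comp g h, hl, rs_comp, hp, ← hs_rs, ← hs_rs]
  refine cocone_val_eq ι σ hι hσ hmono _ _ ?_
  rw [hs_rs, hs_rs, hz, hy, ← rs_comp, ← rs_comp, hl]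

include hsec in
omit [IsFilteredOrEmpty J] in
theorem isDesc_unique {E : EtOver X.obj} {n : sectModEt M E} {p p' : sectModEt P E} (h : IsDesc ι σ n p)
    (h' : IsDesc ι σ n p') : p = p' := by
  obtain ⟨T, hT, hT'⟩ := exists_affine_sieve E
  refine eq_of_sieve hT fun V f hf => ?_
  obtain ⟨W, a, b, hW, rfl⟩ := hT' V f hf
  obtain ⟨j, y, hy⟩ := hsec W hW (rs M b n)
  rw [rs_comp, rs_comp, ← h W b j y hy, ← h' W b j y hy]

include hι hσ hmono hsec in
theorem isDesc_add {E : EtOver X.obj} {n n' : sectModEt M E} {p p' : sectModEt P E} (h : IsDesc ι σ n p)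
    (h' : IsDesc ι σ n' p') : IsDesc ι σ (n + n') (p + p') := by
  intro U g k z hz
  obtain ⟨T, hT, hT'⟩ := exists_affine_sieve U
  refine eq_of_sieve hT fun V f hf => ?_
  obtain ⟨W, a, b, hW, rfl⟩ := hT' V f hf
  obtain ⟨j₁, y₁, hy₁⟩ := hsec W hW (rs M (b ≫ g) n)
  obtain ⟨j₂, y₂, hy₂⟩ := hsec W hW (rs M (b ≫ g) n')
  obtain ⟨l, α, β, -⟩ := IsFilteredOrEmpty.cocone_objs j₁ j₂
  have e1 : hs (ι l) W (hs (D.map α) W y₁ + hs (D.map β) W y₂) = hs (ι k) W (rs (D.obj k) b z) := by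
    rw [map_add, ← hs_comp, ← hs_comp, hι, hι, hy₁, hy₂, hs_rs, hz, ← rs_comp, map_add]
  have e2 := cocone_val_eq ι σ hι hσ hmono _ _ e1
  rw [map_add, ← hs_comp, ← hs_comp, hσ, hσ, h W _ _ y₁ hy₁, h' W _ _ y₂ hy₂, ← map_add, hs_rs,
    rs_comp g b] at e2
  rw [rs_comp, rs_comp, ← e2]

include hι hσ hmono hsec in
theorem isDesc_smul {E : EtOver X.obj} {n : sectModEt M E} {p : sectModEt P E} (r : gr E) (h : IsDesc ι σ n p) :
    IsDesc ι σ (r • n) (r • p) := by
  intro U g k z hz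
  obtain ⟨T, hT, hT'⟩ := exists_affine_sieve U
  refine eq_of_sieve hT fun V f hf => ?_
  obtain ⟨W, a, b, hW, rfl⟩ := hT' V f hf
  obtain ⟨j, y, hy⟩ := hsec W hW (rs M (b ≫ g) n)
  have e1 : hs (ι j) W (gm (b ≫ g) r • y) = hs (ι k) W (rs (D.obj k) b z) := by
    rw [map_smul, hy, hs_rs, hz, ← rs_comp, rs_smul]
  have e2 := cocone_val_eq ι σ hι hσ hmono _ _ e1
  rw [map_smul, h W _ _ y hy, ← rs_smul, hs_rs, rs_comp g b] at e2
  rw [rs_comp, rs_comp, ← e2]

include hι hσ hmono hsec in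
theorem exists_desc : ∃ d : M ⟶ P, ∀ j, ι j ≫ d = σ j := by
  choose d hd using fun (E : EtOver X.obj) (n : sectModEt M E) => exists_isDesc ι σ hι hσ hmono hsec n
  have hnat : ∀ {E E' : EtOver X.obj} (g : E' ⟶ E) (n : sectModEt M E), d E' (rs M g n) = rs P g (d E n) :=
    fun {E E'} g n => by
      refine isDesc_unique ι σ hsec (hd E' _) fun U b k z hz => ?_
      rw [← rs_comp, hd E n U (b ≫ g) k z (by rw [hz, rs_comp])]
  let dl : ∀ (E : EtOver X.obj), sectModEt M E →+ sectModEt P E := fun E =>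
    AddMonoidHom.mk' (d E) fun n n' =>
      isDesc_unique ι σ hsec (hd E _) (isDesc_add ι σ hι hσ hmono hsec (hd E n) (hd E n'))
  refine ⟨⟨PresheafOfModules.homMk
      { app := fun E => AddCommGrpCat.ofHom (dl E.unop)
        naturality := fun E E' g => by
          ext n
          exact hnat g.unop n }
      fun E r n => by
        obtain ⟨a⟩ := r
        exact isDesc_unique ι σ hsec (hd E.unop _)
          (isDesc_smul ι σ hι hσ hmono hsec (show gr E.unop from a) (hd E.unop n))⟩, fun j => ?_⟩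
  refine SheafOfModules.hom_ext (PresheafOfModules.hom_ext fun E => ModuleCat.hom_ext (LinearMap.ext fun y => ?_))
  change d E.unop (hs (ι j) E.unop y) = hs (σ j) E.unop y
  have := hd E.unop (hs (ι j) E.unop y) E.unop (𝟙 _) j y (rs_id _ _).symm
  rw [rs_id] at this
  exact this.symm

include hsec in
omit [IsFilteredOrEmpty J] in
theorem desc_unique {d d' : M ⟶ P} (h : ∀ j, ι j ≫ d = ι j ≫ d') : d = d' := by
  refine SheafOfModules.hom_ext (PresheafOfModules.hom_ext fun E => ModuleCat.hom_ext (LinearMap.ext fun n => ?_))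
  change hs d E.unop n = hs d' E.unop n
  obtain ⟨T, hT, hT'⟩ := exists_affine_sieve E.unop
  refine eq_of_sieve hT fun V f hf => ?_
  obtain ⟨W, a, b, hW, rfl⟩ := hT' V f hf
  obtain ⟨j, y, hy⟩ := hsec W hW (rs M b n)
  rw [rs_comp, rs_comp, ← hs_rs, ← hs_rs d', ← hy, ← hs_comp, ← hs_comp, h]

end Desc

/-- A jointly surjective filtered cocone of monomorphisms is a colimit. -/
theorem isColimit_of_sections {J : Type w} [Category.{v} J] [IsFilteredOrEmpty J] {D : J ⥤ ModEt X.obj} (c : Cocone D)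
    (hmono : ∀ j, Mono (c.ι.app j)) (hsec : ∀ (W : EtOver X.obj), IsAffine W.obj.left.left → ∀ n : sectModEt c.pt W,
      ∃ (j : J) (y : sectModEt (D.obj j) W), hs (c.ι.app j) W y = n) : Nonempty (IsColimit c) := by
  choose d hd using fun s : Cocone D =>
    exists_desc (M := c.pt) (P := s.pt) (fun j => c.ι.app j) (fun j => s.ι.app j) c.w s.w hmono hsec
  exact ⟨⟨d, hd, fun s m hm => desc_unique (fun j => c.ι.app j) hsec fun j => (hm j).trans (hd s j).symm⟩⟩

end Groth.Agent.AlgSpQC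

namespace Groth.Agent.AlgSpQC

open _root_.AlgSp

variable {S : Scheme.{u}} {X : Space S} {M : ModEt X.obj}

theorem fg_range_hs {G : ModEt X.obj} [G.IsFinitePresentation] (ι : G ⟶ M) (E : EtOver X.obj)
    [IsAffine E.obj.left.left] : (LinearMap.range (hs ι E)).FG := by
  have := finite_sections (M := G) E
  rw [LinearMap.range_eq_map]
  exact Module.Finite.fg_top.map _

theorem exists_upper [QuasiSeparatedSpace ↥S] (hqs : IsQuasiSeparatedSp X.obj) (hN : IsLocNoethSp X.obj)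
    [M.IsQuasicoherent] {E₀ : EtOver X.obj} [IsAffine E₀.obj.left.left]
    (h₀ : ∀ x : Points X.obj, ∃ u, Points.ofPt E₀.obj.hom u = x) {G₁ G₂ : ModEt X.obj} [G₁.IsFinitePresentation]
    [G₂.IsFinitePresentation] (ι₁ : G₁ ⟶ M) (ι₂ : G₂ ⟶ M) :
    ∃ (G : ModEt X.obj) (ι : G ⟶ M) (a : G₁ ⟶ G) (b : G₂ ⟶ G), Mono ι ∧ G.IsFinitePresentation ∧
      a ≫ ι = ι₁ ∧ b ≫ ι = ι₂ := by
  obtain ⟨G, ι, hι, hG, hmem⟩ := exists_coherent_sub hqs hN h₀
    (LinearMap.range (hs ι₁ E₀) ⊔ LinearMap.range (hs ι₂ E₀)) ((fg_range_hs ι₁ E₀).sup (fg_range_hs ι₂ E₀))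
  obtain ⟨a, ha⟩ := exists_factor ι₁ ι fun E y => (hmem E _).2 (le_unionSub ι₁ _
    (fun z => Submodule.mem_sup_left (LinearMap.mem_range_self (hs ι₁ E₀) z)) E y)
  obtain ⟨b, hb⟩ := exists_factor ι₂ ι fun E y => (hmem E _).2 (le_unionSub ι₂ _
    (fun z => Submodule.mem_sup_right (LinearMap.mem_range_self (hs ι₂ E₀) z)) E y)
  exact ⟨G, ι, a, b, hι, hG, ha, hb⟩

theorem exists_coherent_mem [QuasiSeparatedSpace ↥S] (hqs : IsQuasiSeparatedSp X.obj) (hN : IsLocNoethSp X.obj)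
    [M.IsQuasicoherent] {E₀ : EtOver X.obj} [IsAffine E₀.obj.left.left]
    (h₀ : ∀ x : Points X.obj, ∃ u, Points.ofPt E₀.obj.hom u = x) {W : EtOver X.obj} [IsAffine W.obj.left.left]
    (n : sectModEt M W) :
    ∃ (G : ModEt X.obj) (ι : G ⟶ M), Mono ι ∧ G.IsFinitePresentation ∧ ∃ y, hs ι W y = n := by
  obtain ⟨N, hNfg, hn⟩ := exists_fg_mem_unionSub (E₀ := E₀) hqs n
  obtain ⟨G, ι, hι, hG, hmem⟩ := exists_coherent_sub hqs hN h₀ N hNfg
  exact ⟨G, ι, hι, hG, (hmem W n).2 hn⟩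

/-- The monomorphisms from coherent modules. -/
abbrev CohSub (M : ModEt X.obj) : ObjectProperty (MonoOver M) :=
  fun N => SheafOfModules.IsFinitePresentation N.obj.left

theorem isFiltered_cohSub [QuasiSeparatedSpace ↥S] (hqs : IsQuasiSeparatedSp X.obj) (hN : IsLocNoethSp X.obj)
    [M.IsQuasicoherent] {E₀ : EtOver X.obj} [IsAffine E₀.obj.left.left]
    (h₀ : ∀ x : Points X.obj, ∃ u, Points.ofPt E₀.obj.hom u = x) : IsFiltered (CohSub M).FullSubcategory := by
  have hne : Nonempty (CohSub M).FullSubcategory := by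
    obtain ⟨G, ι, hι, hG, -⟩ := exists_coherent_sub (M := M) hqs hN h₀ ⊥ Submodule.fg_bot
    exact ⟨⟨MonoOver.mk ι, hG⟩⟩
  have : IsFilteredOrEmpty (CohSub M).FullSubcategory := by
    refine ⟨fun i j => ?_, fun _ j f g => ⟨j, 𝟙 _, by
      rw [show f = g from ObjectProperty.hom_ext _ (Subsingleton.elim _ _)]⟩⟩
    have hi : i.obj.obj.left.IsFinitePresentation := i.property
    have hj : j.obj.obj.left.IsFinitePresentation := j.property
    obtain ⟨G, ι, a, b, hι, hG, ha, hb⟩ := exists_upper hqs hN h₀ i.obj.obj.hom j.obj.obj.hom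
    exact ⟨⟨MonoOver.mk ι, hG⟩, ObjectProperty.homMk (MonoOver.homMk a ha),
      ObjectProperty.homMk (MonoOver.homMk b hb), trivial⟩
  exact ⟨⟩

/-- The coherent submodules of a quasi-coherent module on a Noetherian space form a colimit cocone. -/
theorem isFiltered_and_isColimit [QuasiSeparatedSpace ↥S] (hqc : IsQuasiCompactSp X.obj)
    (hqs : IsQuasiSeparatedSp X.obj) (hN : IsLocNoethSp X.obj) [M.IsQuasicoherent] :
    IsFiltered (CohSub M).FullSubcategory ∧
      Nonempty (IsColimit ((Over.forgetCocone M).whisker ((CohSub M).ι ⋙ MonoOver.forget M))) := by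
  obtain ⟨U, p, hU, hp, hsur⟩ := Groth.Agent.AlgSpEN.exists_affine_atlas X hqc
  obtain ⟨E₀, hE₀, h₀⟩ : ∃ E₀ : EtOver X.obj, IsAffine E₀.obj.left.left ∧
      ∀ x : Points X.obj, ∃ u, Points.ofPt E₀.obj.hom u = x :=
    ⟨EtOver.mk p hp, hU, fun x => AlgSpB.surjective_ofPt hsur x⟩
  have := isFiltered_cohSub (M := M) hqs hN h₀
  refine ⟨this, isColimit_of_sections ((Over.forgetCocone M).whisker ((CohSub M).ι ⋙ MonoOver.forget M))
    (fun j => j.obj.property) fun W hW n => ?_⟩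
  obtain ⟨G, ι, hι, hG, y, hy⟩ := exists_coherent_mem (M := M) hqs hN h₀ (W := W) n
  exact ⟨⟨MonoOver.mk ι, hG⟩, y, hy⟩

end Groth.Agent.AlgSpQC
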