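import Groth.Agent.AlgSpQC.PullCounit
import Groth.Agent.AlgSpQC.Largest
import Groth.Agent.AlgSpQC.Subsheaf
import Groth.Agent.AlgSpQC.UnionColimit
import Mathlib.CategoryTheory.Adjunction.Comma

/-!
# The right adjoint of the direct image along a closed immersion
-/

universe u

open CategoryTheory CategoryTheory.Limits AlgebraicGeometry Opposite TensorProduct

set_option backward.isDefEq.respectTransparency false
set_option backward.isDefEq.respectTransparency.types false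
set_option autoImplicit false

namespace Groth.Agent.AlgSpQC

open _root_.AlgSp

variable {S : Scheme.{u}} {Z X : Space S} {i : Z.obj ⟶ X.obj} (hi : RepWith @IsClosedImmersion i)

/-- The sections killed by the ideal of a closed subspace form a submodule. -/
theorem exists_killed_sub (F : ModEt X.obj) :
    ∃ (K : ModEt X.obj) (ι : K ⟶ F), Mono ι ∧ ∀ (E : EtOver X.obj) (m : sectModEt F E), (∃ y, hs ι E y = m) ↔
      ∀ (W : EtOver X.obj) (g : W ⟶ E), IsAffine W.obj.left.left →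
        ∀ a ∈ RingHom.ker (gπ hi.1 W), a • rs F g m = 0 := by
  refine exists_subSheaf (M := F) (fun E =>
    { carrier := {m | ∀ (W : EtOver X.obj) (g : W ⟶ E), IsAffine W.obj.left.left →
        ∀ a ∈ RingHom.ker (gπ hi.1 W), a • rs F g m = 0}
      zero_mem' := fun W g _ a _ => by rw [map_zero, smul_zero]
      add_mem' := fun {x y} hx hy W g hW a ha => by rw [map_add, smul_add, hx W g hW a ha, hy W g hW a ha, add_zero]
      smul_mem' := fun r x hx W g hW a ha => by rw [rs_smul, smul_comm, hx W g hW a ha, smul_zero] })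
    (fun {E E'} g m hm W h hW a ha => by rw [← rs_comp]; exact hm W (h ≫ g) hW a ha)
    fun E T hT m hm W g hW a ha => ?_
  refine eq_of_sieve ((etTop X.obj).pullback_stable g hT) fun V v hv => ?_
  obtain ⟨T', hT', hT''⟩ := exists_affine_sieve V
  refine eq_of_sieve hT' fun V' v' hv' => ?_
  obtain ⟨W', p, q, hW', rfl⟩ := hT'' V' v' hv'
  rw [rs_comp q p, rs_comp q p, ← rs_comp v q, ← rs_comp v q, map_zero]
  have h0 := hm V (v ≫ g) hv W' q hW' (gm (q ≫ v) a) (by
    rw [RingHom.mem_ker, gπ_gm, RingHom.mem_ker.1 ha, map_zero])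
  rw [← rs_comp, ← Category.assoc] at h0
  rw [rs_smul, ← rs_comp, h0, map_zero]

variable {F K K₀ : ModEt X.obj} (κ : K ⟶ K₀) (ι₀ : K₀ ⟶ F)

/-- The members of a killed submodule are killed. -/
theorem killed_le_annSect [Mono κ] [Mono ι₀]
    (hK₀ : ∀ (E : EtOver X.obj) (m : sectModEt F E), (∃ y, hs ι₀ E y = m) ↔
      ∀ (W : EtOver X.obj) (g : W ⟶ E), IsAffine W.obj.left.left →
        ∀ a ∈ RingHom.ker (gπ hi.1 W), a • rs F g m = 0)
    (E : EtOver X.obj) (hE : IsAffine E.obj.left.left) (s : sectModEt K E) :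
    (idealOfRep hi.1).ideal E hE ≤ annSect s := by
  intro a ha
  rw [mem_annSect_iff]
  change a • s = 0
  have hm : Mono (κ ≫ ι₀) := mono_comp κ ι₀
  have h1 := (hK₀ E (hs ι₀ E (hs κ E s))).1 ⟨_, rfl⟩ E (𝟙 E) hE a (show a ∈ RingHom.ker (gπ hi.1 E) from ha)
  rw [rs_id] at h1
  have h2 : hs (κ ≫ ι₀) E (a • s) = 0 := (map_smul (hs (κ ≫ ι₀) E) a s).trans h1
  exact hs_injective (κ ≫ ι₀) E (h2.trans (map_zero (hs (κ ≫ ι₀) E)).symm)

/-- Maps from a direct image factor through the killed submodule. -/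
theorem exists_factor_killed [Mono ι₀]
    (hK₀ : ∀ (E : EtOver X.obj) (m : sectModEt F E), (∃ y, hs ι₀ E y = m) ↔
      ∀ (W : EtOver X.obj) (g : W ⟶ E), IsAffine W.obj.left.left →
        ∀ a ∈ RingHom.ker (gπ hi.1 W), a • rs F g m = 0)
    (G : ModEt Z.obj) (ψ : (pushModEt hi.1).obj G ⟶ F) : ∃ l, l ≫ ι₀ = ψ := by
  refine exists_factor ψ ι₀ fun E y => (hK₀ E _).2 fun W g hW a ha => ?_
  have h0 : a • rs ((pushModEt hi.1).obj G) g y = 0 := by
    apply (pushSect hi.1 G W).injective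
    rw [pushSect_smul, RingHom.mem_ker.1 ha, zero_smul, map_zero]
  rw [← hs_rs, ← map_smul, h0, map_zero]

/-- Lifts to the direct image of the inverse image of the killed submodule. -/
theorem exists_lift_killed {R : ModEt Z.obj} (u : K ⟶ (pushModEt hi.1).obj R) [IsIso u] {G : ModEt Z.obj}
    [G.IsQuasicoherent] (ψ : (pushModEt hi.1).obj G ⟶ F) (l : (pushModEt hi.1).obj G ⟶ K₀) (hl : l ≫ ι₀ = ψ)
    (l' : (pushModEt hi.1).obj G ⟶ K) (hl' : l' ≫ κ = l) :
    ∃ φ : G ⟶ R, (pushModEt hi.1).map φ ≫ inv u ≫ κ ≫ ι₀ = ψ := by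
  obtain ⟨φ, hφ⟩ := (bijective_push_map (G' := G) (G := R) hi).2 (l' ≫ u)
  refine ⟨φ, ?_⟩
  rw [hφ, Category.assoc, IsIso.hom_inv_id_assoc, ← Category.assoc, hl', hl]

theorem exists_of_isIso_unit (hq : ∀ G : ModEt Z.obj, G.IsQuasicoherent → ((pushModEt hi.1).obj G).IsQuasicoherent)
    [Mono κ] [Mono ι₀] {R : ModEt Z.obj} (u : K ⟶ (pushModEt hi.1).obj R) [IsIso u]
    (huniv : ∀ H : ModEt X.obj, H.IsQuasicoherent → Function.Bijective (fun φ : H ⟶ K => φ ≫ κ))
    (hK₀ : ∀ (E : EtOver X.obj) (m : sectModEt F E), (∃ y, hs ι₀ E y = m) ↔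
      ∀ (W : EtOver X.obj) (g : W ⟶ E), IsAffine W.obj.left.left →
        ∀ a ∈ RingHom.ker (gπ hi.1 W), a • rs F g m = 0) :
    ∃ ε : (pushModEt hi.1).obj R ⟶ F, ∀ G : ModEt Z.obj, G.IsQuasicoherent →
      Function.Bijective (fun φ : G ⟶ R => (pushModEt hi.1).map φ ≫ ε) := by
  refine ⟨inv u ≫ κ ≫ ι₀, fun G hG => ⟨fun φ φ' h => ?_, fun ψ => ?_⟩⟩
  · have : Mono (κ ≫ ι₀) := mono_comp κ ι₀
    have h' : (pushModEt hi.1).map φ ≫ inv u = (pushModEt hi.1).map φ' ≫ inv u :=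
      (cancel_mono (κ ≫ ι₀)).1 (by rw [Category.assoc, Category.assoc]; exact h)
    exact (bijective_push_map (G' := G) (G := R) hi).1 ((cancel_mono (inv u)).1 h')
  · obtain ⟨l, hl⟩ := exists_factor_killed hi ι₀ hK₀ G ψ
    obtain ⟨l', hl'⟩ := (huniv _ (hq G hG)).2 l
    exact exists_lift_killed hi κ ι₀ u ψ l hl l' hl'

theorem exists_cofree (hq : ∀ G : ModEt Z.obj, G.IsQuasicoherent → ((pushModEt hi.1).obj G).IsQuasicoherent)
    (F : ModEt X.obj) [F.IsQuasicoherent] :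
    ∃ (R : ModEt Z.obj) (_ : R.IsQuasicoherent) (ε : (pushModEt hi.1).obj R ⟶ F),
      ∀ G : ModEt Z.obj, G.IsQuasicoherent → Function.Bijective (fun φ : G ⟶ R => (pushModEt hi.1).map φ ≫ ε) := by
  obtain ⟨K₀, ι₀, hι₀, hK₀⟩ := exists_killed_sub hi F
  obtain ⟨K, κ, hκ, hKq, huniv⟩ := exists_largest ι₀
  have := isIso_pullUnit hi (idealOfRep hi.1) ⟨hi, rfl⟩ (killed_le_annSect hi κ ι₀ hK₀)
  exact ⟨pullQC hi.1 K, isQuasicoherent_pullQC hi.1 K,
    exists_of_isIso_unit hi κ ι₀ hq (pullUnit hi.1 K) huniv hK₀⟩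

theorem hasTerminal_of_bijective {C D : Type*} [Category C] [Category D] {L : C ⥤ D} {F : D} (R : C)
    (ε : L.obj R ⟶ F) (h : ∀ G : C, Function.Bijective (fun φ : G ⟶ R => L.map φ ≫ ε)) :
    HasTerminal (CostructuredArrow L F) :=
  (IsTerminal.ofUniqueHom (Y := CostructuredArrow.mk ε)
    (fun A => CostructuredArrow.homMk ((h A.left).2 A.hom).choose ((h A.left).2 A.hom).choose_spec)
    fun A m => CostructuredArrow.hom_ext _ _ ((h A.left).1
      ((CostructuredArrow.w m).trans ((h A.left).2 A.hom).choose_spec.symm))).hasTerminal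

set_option maxHeartbeats 1000000 in
/-- The direct image along a closed immersion on quasi-coherent modules has a right adjoint. -/
theorem isLeftAdjoint_push_qcoh (hq : ∀ G : ModEt Z.obj, G.IsQuasicoherent → ((pushModEt hi.1).obj G).IsQuasicoherent) :
    ((SheafOfModules.isQuasicoherent (OEtRing X.obj)).lift
        ((SheafOfModules.isQuasicoherent (OEtRing Z.obj)).ι ⋙ pushModEt hi.1)
        (fun G => hq G.obj G.property)).IsLeftAdjoint := by
  rw [isLeftAdjoint_iff_hasTerminal_costructuredArrow]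
  intro F
  have hF : F.obj.IsQuasicoherent := F.property
  obtain ⟨R, hR, ε, hε⟩ := exists_cofree hi hq F.obj
  refine hasTerminal_of_bijective ⟨R, hR⟩ (ObjectProperty.homMk ε) fun G => ?_
  have h := hε G.obj G.property
  refine ⟨fun φ φ' e => ObjectProperty.hom_ext _ (h.1 (congrArg (fun t => t.hom) e)), fun ψ => ?_⟩
  obtain ⟨φ, hφ⟩ := h.2 ψ.hom
  exact ⟨ObjectProperty.homMk φ, ObjectProperty.hom_ext _ hφ⟩

end Groth.Agent.AlgSpQC
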