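import Mathlib.RingTheory.Flat.Basic
import Mathlib.RingTheory.Spectrum.Prime.RingHom
import Mathlib.RingTheory.TensorProduct.Maps
import Mathlib.RingTheory.Ideal.Quotient.Operations
import Mathlib.LinearAlgebra.TensorProduct.Pi
import Mathlib.LinearAlgebra.TensorProduct.RightExactness

/-!
# Descent of elements along jointly faithfully flat families, for arbitrary modules
-/

universe u v w

open TensorProduct

set_option autoImplicit false

namespace Groth.Agent.AlgSpQC

theorem eq_zero_of_jointly {B : Type u} [CommRing B] {N : Type v} [AddCommGroup N] [Module B N]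
    {κ : Type w} (C : κ → Type u) [∀ k, CommRing (C k)] [∀ k, Algebra B (C k)]
    [∀ k, Module.Flat B (C k)]
    (hs : ∀ p : PrimeSpectrum B, ∃ k q, PrimeSpectrum.comap (algebraMap B (C k)) q = p)
    (x : N) (hx : ∀ k, (1 : C k) ⊗ₜ[B] x = 0) : x = 0 := by
  by_contra hne
  have hI : LinearMap.ker (LinearMap.toSpanSingleton B N x) ≠ ⊤ := by
    intro h
    refine hne ?_
    have h1 : LinearMap.toSpanSingleton B N x 1 = 0 := LinearMap.mem_ker.1 (h ▸ Submodule.mem_top)
    simpa using h1
  obtain ⟨m, hm, hIm⟩ := Ideal.exists_le_maximal _ hI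
  obtain ⟨k, q, hq⟩ := hs ⟨m, hm.isPrime⟩
  let I : Ideal B := LinearMap.ker (LinearMap.toSpanSingleton B N x)
  let e : (B ⧸ I) →ₗ[B] N := Submodule.liftQ I (LinearMap.toSpanSingleton B N x) le_rfl
  have he : Function.Injective e := LinearMap.ker_eq_bot.1 (Submodule.ker_liftQ_eq_bot _ _ _ le_rfl)
  have h0 : (1 : C k) ⊗ₜ[B] (Ideal.Quotient.mk I (1 : B)) = 0 := by
    refine Module.Flat.lTensor_preserves_injective_linearMap (M := C k) e he ?_
    rw [map_zero, LinearMap.lTensor_tmul]
    refine Eq.trans (congrArg _ ?_) (hx k)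
    change LinearMap.toSpanSingleton B N x 1 = x
    simp
  let f : B ⧸ I →ₐ[B] C k ⧸ q.asIdeal :=
    Ideal.Quotient.liftₐ I (Algebra.ofId B (C k ⧸ q.asIdeal)) fun b hb => by
      have : b ∈ m := hIm hb
      have hb' : algebraMap B (C k) b ∈ q.asIdeal := by
        have := congrArg PrimeSpectrum.asIdeal hq
        simp only [PrimeSpectrum.comap_asIdeal] at this
        rw [← Ideal.mem_comap, this]
        assumption
      change Ideal.Quotient.mk q.asIdeal (algebraMap B (C k) b) = 0
      exact Ideal.Quotient.eq_zero_iff_mem.2 hb'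
  have h1 : (Algebra.TensorProduct.lift (Ideal.Quotient.mkₐ B q.asIdeal) f (fun _ _ => .all _ _))
      ((1 : C k) ⊗ₜ[B] (Ideal.Quotient.mk I (1 : B))) = 1 := by
    rw [map_one]
    exact map_one _
  rw [h0, map_zero] at h1
  exact q.isPrime.ne_top ((Ideal.eq_top_iff_one _).2
    (Ideal.Quotient.eq_zero_iff_mem.1 ((map_one _).trans h1.symm)))

/-- Elements descend along finite jointly surjective flat families. -/
theorem exists_glue {A : Type u} [CommRing A] {N : Type v} [AddCommGroup N] [Module A N] {κ : Type w} [Finite κ]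
    (B : κ → Type u) [∀ k, CommRing (B k)] [∀ k, Algebra A (B k)] [∀ k, Module.Flat A (B k)]
    (hs : ∀ p : PrimeSpectrum A, ∃ k q, PrimeSpectrum.comap (algebraMap A (B k)) q = p)
    (y : ∀ k, B k ⊗[A] N)
    (hy : ∀ k l, (1 : B k) ⊗ₜ[A] y l = LinearMap.lTensor (B k) (TensorProduct.mk A (B l) N 1) (y k)) :
    ∃ x : N, ∀ k, (1 : B k) ⊗ₜ[A] x = y k := by
  classical
  have := Fintype.ofFinite κ
  let η : N →ₗ[A] ∀ l, B l ⊗[A] N := LinearMap.pi fun l => TensorProduct.mk A (B l) N 1
  have h0 : (LinearMap.range η).mkQ y = 0 := by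
    refine eq_zero_of_jointly B hs _ fun k => ?_
    have e : (1 : B k) ⊗ₜ[A] y = LinearMap.lTensor (B k) η (y k) := by
      apply (TensorProduct.piRight A A (B k) fun l => B l ⊗[A] N).injective
      funext l
      rw [TensorProduct.piRight_apply, TensorProduct.piRightHom_tmul]
      refine (hy k l).trans ?_
      rw [TensorProduct.piRight_apply]
      generalize y k = z
      induction z using TensorProduct.induction_on with
      | zero => simp
      | add a b ha hb => simp only [map_add, Pi.add_apply, ha, hb]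
      | tmul a b => simp [η]
    have e2 : LinearMap.lTensor (B k) (LinearMap.range η).mkQ ((1 : B k) ⊗ₜ[A] y) = 0 := by
      rw [e, ← LinearMap.lTensor_comp_apply, LinearMap.range_mkQ_comp, LinearMap.lTensor_zero,
        LinearMap.zero_apply]
    simpa using e2
  obtain ⟨x, hx⟩ := (Submodule.Quotient.mk_eq_zero _).1 h0
  exact ⟨x, fun k => congrFun hx k⟩

end Groth.Agent.AlgSpQC
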