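import Groth.Agent.AlgSpQC.WeakAssUnit
import Groth.Agent.AlgSp.CartierMore

/-!
# Pullback of effective Cartier divisors avoiding weakly associated points
-/

universe u

open CategoryTheory CategoryTheory.Limits AlgebraicGeometry Opposite

set_option backward.isDefEq.respectTransparency false
set_option backward.isDefEq.respectTransparency.types false
set_option autoImplicit false

namespace Groth.Agent.AlgSpQC

open _root_.AlgSp Groth.Agent.AlgSp.CartierDesc Groth.Agent.IdealSh Groth.Agent.IdealSh.Comap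

variable {S : Scheme.{u}}

theorem appLE_ι_injective {U : Scheme.{u}} (W : U.Opens) (h : (⊤ : W.toScheme.Opens) ≤ W.ι ⁻¹ᵁ W) :
    Function.Injective (W.ι.appLE W ⊤ h).hom := by
  have e : W.ι.appLE W ⊤ h = W.topIso.inv := by
    rw [Scheme.Opens.ι_appLE, Scheme.Opens.topIso_inv]
    rfl
  rw [e]
  exact (ConcreteCategory.bijective_of_isIso W.topIso.inv).1

/-- Functions non-vanishing at the weakly associated points of an affine chart are nonzerodivisors. -/
theorem mem_nonZeroDivisors_of_avoid {X : Space S} [(unitModEt X.obj).IsQuasicoherent] (E : EtOver X.obj)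
    [IsAffine E.obj.left.left] (g : gr E)
    (h : ∀ v : E.obj.left.left, Points.ofPt E.obj.hom v ∈ WeakAssEt (unitModEt X.obj) →
      v ∈ E.obj.left.left.basicOpen g) : g ∈ nonZeroDivisors (gr E) := by
  rw [mem_nonZeroDivisors_iff_right]
  intro y hy
  by_contra hy0
  have hm : (unitSect E y : sectModEt (unitModEt X.obj) E) ≠ 0 := fun h0 =>
    hy0 (congrArg ULift.down h0)
  obtain ⟨v, hv, hann⟩ := exists_mem_weakAssEt hm
  have hg : g ∈ annSect (unitSect E y) := by
    rw [annSect_eq_annihilator, WeakAss.mem_ann, ← map_smul, smul_eq_mul, mul_comm, hy, map_zero]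
  exact (IsLocalRing.mem_maximalIdeal _).1 (hann hg) ((Scheme.mem_basicOpen_top _ _ _).1 (h v hv))

theorem isEffCartierSub_pullback_avoid {X Y D P : Space S} {f : X ⟶ Y} {i : D ⟶ Y}
    (hD : IsEffCartierSub i.hom) [(unitModEt X.obj).IsQuasicoherent]
    (hav : ∀ x ∈ WeakAssEt (unitModEt X.obj), Points.map f.hom x ∉ Set.range (Points.map i.hom))
    {fst : P ⟶ D} {snd : P ⟶ X} (hP : IsPullback fst.hom snd.hom i.hom f.hom) : IsEffCartierSub snd.hom := by
  obtain ⟨U, V, a, b, h, ha, has, hb, -, w⟩ := Groth.Agent.AlgSp.InfCharts.exists_chart X.property Y.property f.hom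
  have hi' : RepWith @IsClosedImmersion snd.hom :=
    (repWith_isStableUnderBaseChange _).of_isPullback hP hD.1
  obtain ⟨I₀, fst₀, h₀⟩ := exists_ideal hD.1 b
  obtain ⟨J, fJ, hJ⟩ := exists_ideal hi' a
  have hJ' := hJ.paste_horiz hP
  rw [w] at hJ'
  refine ⟨hi', U, a, J, fJ, ha, has, hJ, ?_⟩
  rw [← comap_eq h h₀ hJ']
  refine EffCartier.comap_of_forall h.left (isEffCartierIdeal_of_chart hD.1 hD hb h₀) fun V₁ W e g _ hg => ?_
  let E : EtOver X.obj := EtOver.mk _ (AlgSpD.repWith_etale_restrict a ha W.1)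
  have : IsAffine E.obj.left.left := W.2
  have hle : (⊤ : W.1.toScheme.Opens) ≤ W.1.ι ⁻¹ᵁ W.1 := fun x _ => x.2
  let ψ := (W.1.ι.appLE W.1 ⊤ hle).hom
  have hnz : ψ ((h.left.appLE V₁.1 W.1 e).hom g) ∈ nonZeroDivisors (gr E) := by
    refine mem_nonZeroDivisors_of_avoid E _ fun v hv => ?_
    change v ∈ W.1.toScheme.basicOpen (W.1.ι.appLE W.1 ⊤ hle (h.left.appLE V₁.1 W.1 e g))
    rw [Scheme.basicOpen_appLE, Scheme.basicOpen_appLE]
    refine ⟨trivial, v.2, ?_⟩
    have hns : h.left (W.1.ι v) ∉ I₀.support := fun hs => by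
      refine hav _ hv ?_
      rw [show Points.ofPt E.obj.hom v = Points.ofPt a (W.1.ι v) from AlgSpD.ofPt_restrict a W.1 v, Points.map_ofPt, w,
        AlgSpB.ofPt_map_comp]
      rw [← SetLike.mem_coe, ← I₀.range_subschemeι] at hs
      obtain ⟨z, hz⟩ := hs
      refine ⟨Points.ofPt fst₀ z, ?_⟩
      rw [← hz, Points.map_ofPt, h₀.w, AlgSpB.ofPt_map_comp]
      rfl
    have hV : h.left (W.1.ι v) ∈ V₁.1 := e v.2
    change h.left (W.1.ι v) ∈ V.left.basicOpen g
    rw [← SetLike.mem_coe, IdealSh.Regular.basicOpen_eq_compl_support hg]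
    exact ⟨hV, hns⟩
  rw [mem_nonZeroDivisors_iff_right]
  intro y hy
  apply appLE_ι_injective W.1 hle
  rw [map_zero]
  exact (mem_nonZeroDivisors_iff_right (M₀ := gr E)).1 hnz (ψ y) (by
    refine (map_mul ψ y _).symm.trans ?_
    rw [hy]
    exact map_zero ψ)

end Groth.Agent.AlgSpQC
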