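import Groth.Agent.AlgSpQC.MVGeom
import Groth.Agent.AlgSpQC.UnionColimit
import Groth.Prelude.Def_W4SpPerfMV

/-!
# The Mayer-Vietoris sequence of an elementary distinguished square
-/

universe u

open CategoryTheory CategoryTheory.Limits AlgebraicGeometry Opposite

set_option backward.isDefEq.respectTransparency false
set_option backward.isDefEq.respectTransparency.types false
set_option autoImplicit false

namespace Groth.Agent.AlgSpQC

open _root_.AlgSp

variable {S : Scheme.{u}} {X : Space S} {U V : EtOver X.obj} (hsq : IsElemDistSq U.obj.hom V.obj.hom)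
  (F : ModEt X.obj) {W : EtOver X.obj}

/-- The projection of the product with the two parts. -/
noncomputable abbrev mvA (U V W : EtOver X.obj) : EtOver.prodObj U V ⨯ W ⟶ U ⨯ W :=
  prod.map (EtOver.prodFst U V) (𝟙 W)

/-- The projection of the product with the two parts. -/
noncomputable abbrev mvB (U V W : EtOver X.obj) : EtOver.prodObj U V ⨯ W ⟶ V ⨯ W :=
  prod.map (EtOver.prodSnd U V) (𝟙 W)

/-- The map to the product with both parts. -/
theorem exists_mvLift {Z : EtOver X.obj} (p : Z ⟶ U) (q : Z ⟶ V) (r : Z ⟶ W) :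
    ∃ l : Z ⟶ EtOver.prodObj U V ⨯ W, l ≫ mvA U V W = prod.lift p r ∧ l ≫ mvB U V W = prod.lift q r := by
  obtain ⟨m, hm₁, hm₂⟩ := BinaryFan.IsLimit.lift' (EtOver.prodIsLimit U V) p q
  refine ⟨prod.lift m r, ?_, ?_⟩ <;> apply Limits.prod.hom_ext <;> simp [mvA, mvB]
  · exact hm₁
  · exact hm₂

include hsq in
theorem mv_injective (s : sectModEt F W) (hA : rs F (prod.snd : U ⨯ W ⟶ W) s = 0)
    (hB : rs F (prod.snd : V ⨯ W ⟶ W) s = 0) : s = 0 := by
  choose Z l hl h using exists_piece_UV hsq W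
  refine eq_of_family l (fun w => ⟨w, hl w⟩) fun w => ?_
  rw [map_zero]
  rcases h w with ⟨⟨u⟩⟩ | ⟨⟨v⟩⟩
  · rw [show l w = prod.lift u (l w) ≫ prod.snd from (prod.lift_snd _ _).symm, rs_comp, hA, map_zero]
  · rw [show l w = prod.lift v (l w) ≫ prod.snd from (prod.lift_snd _ _).symm, rs_comp, hB, map_zero]

include hsq in
theorem mv_overlap_A {Z : EtOver X.obj} (a b : Z ⟶ U ⨯ W) (h : a ≫ prod.snd = b ≫ prod.snd) : a = b :=
  Limits.prod.hom_ext (hom_eq_U hsq _ _) h

include hsq in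
theorem mv_glue (x : sectModEt F (U ⨯ W)) (y : sectModEt F (V ⨯ W))
    (hxy : rs F (mvA U V W) x = rs F (mvB U V W) y) :
    ∃ s, rs F (prod.snd : U ⨯ W ⟶ W) s = x ∧ rs F (prod.snd : V ⨯ W ⟶ W) s = y := by
  let P : ULift.{u} Bool → EtOver X.obj := fun k => bif k.down then U ⨯ W else V ⨯ W
  let p : ∀ k, P k ⟶ W := fun k => match k with
    | ⟨true⟩ => (prod.snd : U ⨯ W ⟶ W)
    | ⟨false⟩ => (prod.snd : V ⨯ W ⟶ W)
  let v : ∀ k, sectModEt F (P k) := fun k => match k with
    | ⟨true⟩ => x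
    | ⟨false⟩ => y
  have hcov : ∀ w : W.obj.left.left, ∃ k, w ∈ Set.range (p k).hom.left.left := fun w => by
    obtain ⟨Z, l, ⟨z, hz⟩, h⟩ := exists_piece_UV hsq W w
    rcases h with ⟨⟨q⟩⟩ | ⟨⟨q⟩⟩
    · exact ⟨⟨true⟩, (prod.lift q l).hom.left.left z,
        (congrArg (fun t : Z ⟶ W => t.hom.left.left z) (prod.lift_snd q l)).trans hz⟩
    · exact ⟨⟨false⟩, (prod.lift q l).hom.left.left z,
        (congrArg (fun t : Z ⟶ W => t.hom.left.left z) (prod.lift_snd q l)).trans hz⟩
  have hAB : ∀ (Z : EtOver X.obj) (a : Z ⟶ U ⨯ W) (b : Z ⟶ V ⨯ W), a ≫ prod.snd = b ≫ prod.snd →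
      rs F a x = rs F b y := by
    intro Z a b e
    obtain ⟨l, hl₁, hl₂⟩ := exists_mvLift (a ≫ prod.fst) (b ≫ prod.fst) (a ≫ prod.snd)
    rw [show a = l ≫ mvA U V W by rw [hl₁]; apply Limits.prod.hom_ext <;> simp,
      show b = l ≫ mvB U V W by rw [hl₂]; apply Limits.prod.hom_ext <;> simp [e], rs_comp, rs_comp, hxy]
  obtain ⟨s, hs'⟩ := exists_glue_sections (M := F) p hcov v fun i j Z a b e => by
    match i, j, a, b, e with
    | ⟨true⟩, ⟨true⟩, a, b, e => exact congrArg (fun t => rs F t x) (mv_overlap_A hsq a b e)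
    | ⟨true⟩, ⟨false⟩, a, b, e => exact hAB Z a b e
    | ⟨false⟩, ⟨true⟩, a, b, e => exact (hAB Z b a e.symm).symm
    | ⟨false⟩, ⟨false⟩, a, b, e =>
      choose Z' l hl h using exists_piece_agree hsq (a ≫ prod.fst) (b ≫ prod.fst)
      refine eq_of_family l (fun z => ⟨z, hl z⟩) fun z => ?_
      change rs F (l z) (rs F a y) = rs F (l z) (rs F b y)
      rw [← rs_comp, ← rs_comp]
      have e' : a ≫ (prod.snd : V ⨯ W ⟶ W) = b ≫ prod.snd := e
      rcases h z with ⟨⟨q⟩⟩ | hq
      · have ha := hAB _ (prod.lift q ((l z ≫ a) ≫ prod.snd)) (l z ≫ a) (by simp)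
        have hb := hAB _ (prod.lift q ((l z ≫ a) ≫ prod.snd)) (l z ≫ b) (by simp [e'])
        exact ha.symm.trans hb
      · exact congrArg (fun t => rs F t y) (Limits.prod.hom_ext
          (by simpa only [Category.assoc] using hq) (by simp [e']))
  exact ⟨s, hs' ⟨true⟩, hs' ⟨false⟩⟩

include hsq in
/-- Sections on the product with both parts lift locally. -/
theorem mv_lift (s : sectModEt F (EtOver.prodObj U V ⨯ W)) (w : W.obj.left.left) :
    ∃ (W' : EtOver X.obj) (g : W' ⟶ W), w ∈ Set.range g.hom.left.left ∧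
      ∃ (x : sectModEt F (U ⨯ W')) (y : sectModEt F (V ⨯ W')),
        rs F (mvA U V W') x - rs F (mvB U V W') y = rs F (prod.map (𝟙 _) g) s := by
  obtain ⟨W', g, hg, h⟩ := exists_piece_UV hsq W w
  refine ⟨W', g, hg, ?_⟩
  generalize rs F (prod.map (𝟙 (EtOver.prodObj U V)) g) s = t
  rcases h with ⟨⟨q⟩⟩ | ⟨⟨q⟩⟩
  · obtain ⟨l, hl₁, hl₂⟩ := exists_mvLift (W := W') ((prod.snd : V ⨯ W' ⟶ W') ≫ q) prod.fst prod.snd
    refine ⟨0, -rs F l t, ?_⟩
    rw [map_zero, map_neg, sub_neg_eq_add, zero_add, ← rs_comp,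
      show mvB U V W' ≫ l = 𝟙 _ from ?_, rs_id]
    refine Limits.prod.hom_ext ?_ ?_
    · refine BinaryFan.IsLimit.hom_ext (EtOver.prodIsLimit U V) (hom_eq_U hsq _ _) ?_
      have e := congrArg (fun r => mvB U V W' ≫ r ≫ prod.fst) hl₂
      simpa [mvB, Category.assoc] using e
    · have e := congrArg (fun r => mvB U V W' ≫ r ≫ prod.snd) hl₁
      simpa [mvA, Category.assoc] using e
  · obtain ⟨L, hL₁, hL₂⟩ := exists_mvLift (W := W') (prod.fst : U ⨯ W' ⟶ U) (prod.snd ≫ q) prod.snd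
    let x := rs F L t
    let P : ULift.{u} Bool → EtOver X.obj := fun k => bif k.down then W' else EtOver.prodObj U V ⨯ W'
    let p : ∀ k, P k ⟶ V ⨯ W' := fun k => match k with
      | ⟨true⟩ => prod.lift q (𝟙 W')
      | ⟨false⟩ => mvB U V W'
    let v : ∀ k, sectModEt F (P k) := fun k => match k with
      | ⟨true⟩ => 0
      | ⟨false⟩ => rs F (mvA U V W') x - t
    have hγ : ∀ (Z : EtOver X.obj) (a : Z ⟶ W') (b : Z ⟶ EtOver.prodObj U V ⨯ W'),
        a ≫ prod.lift q (𝟙 W') = b ≫ mvB U V W' → rs F b (rs F (mvA U V W') x - t) = 0 := by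
      intro Z a b e
      rw [map_sub, ← rs_comp, ← rs_comp, show (b ≫ mvA U V W') ≫ L = b from ?_, sub_self]
      have e₁ := congrArg (· ≫ prod.fst) e
      have e₂ := congrArg (· ≫ prod.snd) e
      simp only [mvB, Category.assoc, prod.lift_fst, prod.lift_snd, prod.map_fst, prod.map_snd,
        Category.comp_id] at e₁ e₂
      refine Limits.prod.hom_ext ?_ ?_
      · refine BinaryFan.IsLimit.hom_ext (EtOver.prodIsLimit U V) (hom_eq_U hsq _ _) ?_
        have h := congrArg (fun r => (b ≫ mvA U V W') ≫ r ≫ prod.fst) hL₂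
        simp [mvA, mvB, Category.assoc] at h
        change (((b ≫ mvA U V W') ≫ L) ≫ prod.fst) ≫ EtOver.prodSnd U V = (b ≫ prod.fst) ≫ EtOver.prodSnd U V
        simp [mvA, Category.assoc]
        rw [h, ← e₁, ← Category.assoc, ← e₂]
      · have h := congrArg (fun r => (b ≫ mvA U V W') ≫ r ≫ prod.snd) hL₁
        simpa [mvA, Category.assoc] using h
    have hcov : ∀ z : (V ⨯ W').obj.left.left, ∃ k, z ∈ Set.range (p k).hom.left.left := fun z => by
      obtain ⟨Z, l, ⟨z', hz'⟩, h⟩ := exists_piece_agree hsq (prod.fst : V ⨯ W' ⟶ V) (prod.snd ≫ q) z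
      rcases h with ⟨⟨u'⟩⟩ | h
      · obtain ⟨m, -, hm⟩ := exists_mvLift (W := W') u' (l ≫ prod.fst) (l ≫ prod.snd)
        refine ⟨⟨false⟩, m.hom.left.left z', ?_⟩
        change (m ≫ mvB U V W').hom.left.left z' = z
        rw [hm, show prod.lift (l ≫ prod.fst) (l ≫ prod.snd) = l from Limits.prod.hom_ext (by simp) (by simp)]
        exact hz'
      · refine ⟨⟨true⟩, (l ≫ prod.snd).hom.left.left z', ?_⟩
        change ((l ≫ prod.snd) ≫ prod.lift q (𝟙 W')).hom.left.left z' = z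
        rw [show (l ≫ prod.snd) ≫ prod.lift q (𝟙 W') = l from Limits.prod.hom_ext (by simp [h]) (by simp)]
        exact hz'
    obtain ⟨y, hy⟩ := exists_glue_sections (M := F) p hcov v fun i j Z a b e => by
      match i, j, a, b, e with
      | ⟨true⟩, ⟨true⟩, a, b, e =>
        have := congrArg (· ≫ prod.snd) e
        simp [p] at this
        exact congrArg (fun r => rs F r _) this
      | ⟨true⟩, ⟨false⟩, a, b, e => exact (map_zero _).trans (hγ Z a b e).symm
      | ⟨false⟩, ⟨true⟩, a, b, e => exact (hγ Z b a e.symm).trans (map_zero _).symm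
      | ⟨false⟩, ⟨false⟩, a, b, e =>
        refine congrArg (fun r => rs F r _) (Limits.prod.hom_ext
          (BinaryFan.IsLimit.hom_ext (EtOver.prodIsLimit U V) (hom_eq_U hsq _ _) ?_) ?_)
        · have := congrArg (· ≫ prod.fst) e
          simpa [p, mvB, Category.assoc] using this
        · have := congrArg (· ≫ prod.snd) e
          simpa [p, mvB, Category.assoc] using this
    refine ⟨x, y, ?_⟩
    rw [show rs F (mvB U V W') y = rs F (mvA U V W') x - t from hy ⟨false⟩, sub_sub_cancel]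

end Groth.Agent.AlgSpQC
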