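import Groth.Agent.AlgSpQC.Push
import Groth.Agent.AlgSp.QCMor
import Groth.Agent.AlgSp.NormCoprod
import Mathlib.AlgebraicGeometry.Morphisms.QuasiSeparated

/-!
# Base changes of affine charts along quasi-compact quasi-separated morphisms
-/

universe u

open CategoryTheory CategoryTheory.Limits AlgebraicGeometry Opposite TopologicalSpace

set_option backward.isDefEq.respectTransparency false
set_option backward.isDefEq.respectTransparency.types false
set_option autoImplicit false

namespace Groth.Agent.AlgSpQC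

open _root_.AlgSp

variable {S : Scheme.{u}} {X Y : Sp S} {f : X ⟶ Y} (hf : Representable f)

theorem compactSpace_bcO (hqc : IsQuasiCompactMor f) (E : EtOver Y) [IsAffine E.obj.left.left] :
    CompactSpace (bcO hf E).obj.left.left := by
  have := Groth.Agent.AlgSp.compactSpace_points
    (hqc (IsAlgSpace.yon_obj E.obj.left) (Groth.Agent.AlgSp.isQuasiCompactSp_yon E.obj.left) E.obj.hom _ _
      (EtOver.isPullback_bcObj hf E))
  exact @Groth.Agent.AlgSp.compactSpace_of_yon _ _ this

theorem quasiSeparatedSpace_bcO (hqs : IsQuasiSeparatedMor f) (E : EtOver Y) [IsAffine E.obj.left.left] :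
    QuasiSeparatedSpace (bcO hf E).obj.left.left := by
  have : QuasiSeparated (EtOver.bcπ hf E).left :=
    (isQuasiSeparatedMor_yon_map_iff _).1
      (Groth.Agent.AlgSp.isQuasiSeparatedMor_baseChange' (EtOver.isPullback_bcObj hf E) hqs)
  exact quasiSeparatedSpace_of_quasiSeparated (EtOver.bcπ hf E).left

/-- An affine square which is a pullback gives a pushout of rings. -/
theorem isPushout_of_isPullback {P A B C : Scheme.{u}} [IsAffine P] [IsAffine A] [IsAffine B] [IsAffine C]
    {fst : P ⟶ A} {snd : P ⟶ B} {g : A ⟶ C} {h : B ⟶ C} (sq : IsPullback fst snd g h) :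
    IsPushout g.appTop h.appTop fst.appTop snd.appTop := by
  have sq' : IsPullback (Scheme.Spec.map fst.appTop.op) (Scheme.Spec.map snd.appTop.op)
      (Scheme.Spec.map g.appTop.op) (Scheme.Spec.map h.appTop.op) :=
    sq.of_iso (Scheme.isoSpec _) (Scheme.isoSpec _) (Scheme.isoSpec _) (Scheme.isoSpec _)
      (Scheme.isoSpec_hom_naturality _).symm (Scheme.isoSpec_hom_naturality _).symm
      (Scheme.isoSpec_hom_naturality _).symm (Scheme.isoSpec_hom_naturality _).symm
  exact (IsPullback.of_map_of_faithful Scheme.Spec sq').unop.flip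

omit hf in
/-- A quasi-compact object of the site is covered by finitely many affine ones. -/
theorem exists_finite_affine_cover (B : EtOver X) [CompactSpace B.obj.left.left] :
    ∃ (κ : Type u) (_ : Finite κ) (V : κ → EtOver X) (g : ∀ k, V k ⟶ B),
      (∀ k, IsAffine (V k).obj.left.left) ∧ ∀ x : B.obj.left.left, ∃ k, x ∈ Set.range (g k).hom.left.left := by
  have key : ∀ x : B.obj.left.left, ∃ (V : EtOver X) (g : V ⟶ B), IsAffine V.obj.left.left ∧
      x ∈ Set.range g.hom.left.left := by
    intro x
    obtain ⟨_, ⟨W, hW : IsAffineOpen W, rfl⟩, hmem, -⟩ :=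
      B.obj.left.left.isBasis_affineOpens.exists_subset_of_mem_open (Set.mem_univ x) isOpen_univ
    let O : Over S := Over.mk (Scheme.Opens.ι W ≫ B.obj.left.hom)
    let j : O ⟶ B.obj.left := Over.homMk (Scheme.Opens.ι W) rfl
    exact ⟨EtOver.mk ((yon S).map j ≫ B.obj.hom)
      ((RepWith _).comp_mem _ _ ((repWith_yon_map_iff _ j).2 (inferInstanceAs (Etale (Scheme.Opens.ι W))))
        B.property), EtOver.homMk j rfl, hW, ⟨⟨x, hmem⟩, rfl⟩⟩
  choose V g hV hmem using key
  obtain ⟨t, ht⟩ := isCompact_univ.elim_finite_subcover (fun x => Set.range (g x).hom.left.left)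
    (fun x => by
      have := EtOver.etale_left (g x)
      exact (g x).hom.left.left.isOpenMap.isOpen_range)
    (fun x _ => Set.mem_iUnion.2 ⟨x, hmem x⟩)
  refine ⟨{x // x ∈ t}, inferInstance, fun k => V k.1, fun k => g k.1, fun k => hV k.1, fun x => ?_⟩
  obtain ⟨k, hk, hxk⟩ := Set.mem_iUnion₂.1 (ht (Set.mem_univ x))
  exact ⟨⟨k, hk⟩, hxk⟩

omit hf in
theorem isPullback_pullbackObj {B V V' : EtOver X} (a : V ⟶ B) (b : V' ⟶ B) :
    IsPullback (EtOver.pullbackFst a b).hom.left.left (EtOver.pullbackSnd a b).hom.left.left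
      a.hom.left.left b.hom.left.left :=
  (IsPullback.of_hasPullback a.hom.left b.hom.left).map (Over.forget S)

omit hf in
theorem compactSpace_pullbackObj {B V V' : EtOver X} [QuasiSeparatedSpace B.obj.left.left]
    [IsAffine V.obj.left.left] [IsAffine V'.obj.left.left] (a : V ⟶ B) (b : V' ⟶ B) :
    CompactSpace (EtOver.pullbackObj a b).obj.left.left := by
  have : QuasiCompact b.hom.left.left := quasiCompact_of_compactSpace _
  have := QuasiCompact.compactSpace_of_compactSpace (pullback.fst a.hom.left.left b.hom.left.left)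
  exact ((isPullback_pullbackObj a b).isoPullback.symm).schemeIsoToHomeo.compactSpace

/-- The base change of an affine object over the base change of an affine chart is affine, with the pushout of
functions. -/
theorem exists_bc_overlap {E E' : EtOver Y} [IsAffine E.obj.left.left] [IsAffine E'.obj.left.left] (g : E' ⟶ E)
    {V : EtOver X} [IsAffine V.obj.left.left] (a : V ⟶ bcO hf E) :
    ∃ (P : EtOver X) (p : P ⟶ bcO hf E') (q : P ⟶ V), IsAffine P.obj.left.left ∧ p ≫ bcM hf g = q ≫ a ∧
      IsPushout (CommRingCat.ofHom (gm g)) (CommRingCat.ofHom ((gm a).comp (gπ hf E)))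
        (CommRingCat.ofHom ((gm p).comp (gπ hf E'))) (CommRingCat.ofHom (gm q)) ∧
      ∀ (Z : EtOver X) (c : Z ⟶ bcO hf E') (d : Z ⟶ V), c ≫ bcM hf g = d ≫ a → ∃ l, l ≫ p = c ∧ l ≫ q = d := by
  have sq := ((isPullback_pullbackObj (bcM hf g) a).flip.paste_vert
    (EtOver.isPullback_bcMap_left hf g)).flip
  have hP : IsAffine (EtOver.pullbackObj (bcM hf g) a).obj.left.left := IsAffine.of_isIso sq.isoPullback.hom
  refine ⟨EtOver.pullbackObj (bcM hf g) a, EtOver.pullbackFst _ _, EtOver.pullbackSnd _ _, hP,
    EtOver.pullback_condition _ _, ?_,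
    fun Z c d h => ⟨_, PullbackCone.IsLimit.lift' (EtOver.pullbackIsLimit (bcM hf g) a) c d h |>.2⟩⟩
  exact isPushout_of_isPullback sq

end Groth.Agent.AlgSpQC
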