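import Groth.Agent.AlgSpQC.WeakAss
import Groth.Agent.AlgSpQC.PushQcqsGeom
import Groth.Agent.AlgSp.ElemDist
import Groth.Agent.AlgSp.EDSep

/-!
# Charts of an elementary distinguished square in the small etale site
-/

universe u

open CategoryTheory CategoryTheory.Limits AlgebraicGeometry Opposite

set_option backward.isDefEq.respectTransparency false
set_option backward.isDefEq.respectTransparency.types false
set_option autoImplicit false

namespace Groth.Agent.AlgSpQC

open _root_.AlgSp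

variable {S : Scheme.{u}} {X : Space S} {U V : EtOver X.obj} (hsq : IsElemDistSq U.obj.hom V.obj.hom)

include hsq in
/-- Maps to the open part are unique. -/
theorem hom_eq_U {Z : EtOver X.obj} (a b : Z ⟶ U) : a = b := by
  have : Mono U.obj.hom := Groth.Agent.AlgSp.mono_of_repWith (P := @IsOpenImmersion)
    (fun g hg => have : IsOpenImmersion g := hg; inferInstance) U.obj.hom hsq.1
  exact EtOver.hom_ext _ _ ((yon S).map_injective ((cancel_mono U.obj.hom).1 ((EtOver.w a).trans (EtOver.w b).symm)))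

theorem exists_ofPt_of_mem {E : EtOver X.obj} {x : Points X.obj} (h : x ∈ Set.range (Points.map E.obj.hom)) :
    ∃ e, Points.ofPt E.obj.hom e = x := by
  obtain ⟨y, rfl⟩ := h
  exact ⟨Points.toScheme E.obj.left y,
    (Points.ofPt_eq_map_ofScheme _ _).trans (congrArg _ (Points.ofScheme_toScheme _ y))⟩

include hsq in
/-- Locally every object maps to one of the two parts. -/
theorem exists_piece_UV (Z : EtOver X.obj) (z : Z.obj.left.left) :
    ∃ (Z' : EtOver X.obj) (l : Z' ⟶ Z), z ∈ Set.range l.hom.left.left ∧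
      (Nonempty (Z' ⟶ U) ∨ Nonempty (Z' ⟶ V)) := by
  rcases Groth.Agent.AlgSp.EDSep.points_jointly_surjective hsq (Points.ofPt Z.obj.hom z) with h | h <;>
    obtain ⟨e, he⟩ := exists_ofPt_of_mem h <;>
    obtain ⟨W, a, b, w, -, hw, -⟩ := exists_common_affine he.symm
  · exact ⟨W, a, ⟨w, hw⟩, Or.inl ⟨b⟩⟩
  · exact ⟨W, a, ⟨w, hw⟩, Or.inr ⟨b⟩⟩

include hsq in
/-- Two maps to the etale part agree locally outside the open part. -/
theorem exists_piece_agree {Z : EtOver X.obj} (a b : Z ⟶ V) (z : Z.obj.left.left) :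
    ∃ (Z' : EtOver X.obj) (l : Z' ⟶ Z), z ∈ Set.range l.hom.left.left ∧ (Nonempty (Z' ⟶ U) ∨ l ≫ a = l ≫ b) := by
  by_cases hx : Points.ofPt Z.obj.hom z ∈ Set.range (Points.map U.obj.hom)
  · obtain ⟨e, he⟩ := exists_ofPt_of_mem hx
    obtain ⟨W, p, q, w, -, hw, -⟩ := exists_common_affine he.symm
    exact ⟨W, p, ⟨w, hw⟩, Or.inl ⟨q⟩⟩
  obtain ⟨-, -, T, P, i, p₁, p₂, ⟨hi, hr, -⟩, hP, hiso⟩ := hsq
  have : IsIso p₁ := hiso
  let κ : Over S := Over.mk (Z.obj.left.left.fromSpecResidueField z ≫ Z.obj.left.hom)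
  let ι : κ ⟶ Z.obj.left := Over.homMk (Z.obj.left.left.fromSpecResidueField z) rfl
  let x₀ : ↥κ.left := IsLocalRing.closedPoint _
  have hι : ι.left x₀ = z := Scheme.fromSpecResidueField_apply z x₀
  have : IsReduced κ.left := inferInstanceAs (IsReduced (Spec (Z.obj.left.left.residueField z)))
  have : Subsingleton ↥κ.left := inferInstanceAs (Subsingleton (PrimeSpectrum (Z.obj.left.left.residueField z)))
  obtain ⟨t, ht⟩ := Groth.Agent.AlgSp.ElemDist.exists_factor_closed hi ((yon S).map ι ≫ Z.obj.hom) x₀ (by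
    rw [AlgSpB.ofPt_map_comp, hι, hr]
    exact hx)
  have eq : ∀ s : (yon S).obj κ ⟶ (yon S).obj V.obj.left, s ≫ V.obj.hom = t ≫ i → s = t ≫ inv p₁ ≫ p₂ :=
    fun s hs => by
    have e := hP.lift_fst t s hs.symm
    rw [← IsIso.eq_comp_inv] at e
    exact (hP.lift_snd t s hs.symm).symm.trans ((congrArg (· ≫ p₂) e).trans (Category.assoc _ _ _))
  have ea : ((yon S).map ι ≫ (yon S).map a.hom.left) ≫ V.obj.hom = t ≫ i := by
    rw [Category.assoc, EtOver.w a, ht]
  have eb : ((yon S).map ι ≫ (yon S).map b.hom.left) ≫ V.obj.hom = t ≫ i := by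
    rw [Category.assoc, EtOver.w b, ht]
  have e : ι ≫ a.hom.left = ι ≫ b.hom.left := (yon S).map_injective (by
    rw [Functor.map_comp, Functor.map_comp, eq _ ea, eq _ eb])
  -- the equalizer of the two maps
  let d : V ⟶ EtOver.prodObj V V := (BinaryFan.IsLimit.lift' (EtOver.prodIsLimit V V) (𝟙 V) (𝟙 V)).1
  let m : Z ⟶ EtOver.prodObj V V := (BinaryFan.IsLimit.lift' (EtOver.prodIsLimit V V) a b).1
  have hd : d ≫ EtOver.prodFst V V = 𝟙 V ∧ d ≫ EtOver.prodSnd V V = 𝟙 V :=
    (BinaryFan.IsLimit.lift' (EtOver.prodIsLimit V V) (𝟙 V) (𝟙 V)).2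
  have hm : m ≫ EtOver.prodFst V V = a ∧ m ≫ EtOver.prodSnd V V = b :=
    (BinaryFan.IsLimit.lift' (EtOver.prodIsLimit V V) a b).2
  have em : ι ≫ m.hom.left = (ι ≫ a.hom.left) ≫ d.hom.left := by
    refine Functor.relativelyRepresentable.hom_ext' _ ?_ ?_
    · change (ι ≫ m.hom.left) ≫ (EtOver.prodSnd V V).hom.left = ((ι ≫ a.hom.left) ≫ d.hom.left) ≫ (EtOver.prodSnd V V).hom.left
      simp only [Category.assoc]
      refine (congrArg (fun k : Z ⟶ V => ι ≫ k.hom.left) hm.2).trans ?_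
      rw [← e]
      refine Eq.trans ?_ (congrArg (fun k : V ⟶ V => ι ≫ a.hom.left ≫ k.hom.left) hd.2).symm
      exact congrArg (ι ≫ ·) (Category.comp_id a.hom.left).symm
    · change (ι ≫ m.hom.left) ≫ (EtOver.prodFst V V).hom.left = ((ι ≫ a.hom.left) ≫ d.hom.left) ≫ (EtOver.prodFst V V).hom.left
      simp only [Category.assoc]
      refine (congrArg (fun k : Z ⟶ V => ι ≫ k.hom.left) hm.1).trans ?_
      refine Eq.trans ?_ (congrArg (fun k : V ⟶ V => ι ≫ a.hom.left ≫ k.hom.left) hd.1).symm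
      exact congrArg (ι ≫ ·) (Category.comp_id a.hom.left).symm
  have hz : m.hom.left.left z = d.hom.left.left (a.hom.left.left z) := by
    rw [← hι]
    exact congr(($em).left x₀)
  obtain ⟨c, hc, -⟩ := Scheme.Pullback.exists_preimage_pullback (f := m.hom.left.left) (g := d.hom.left.left)
    z (a.hom.left.left z) hz
  have sqP := isPullback_pullbackObj m d
  refine ⟨EtOver.pullbackObj m d, EtOver.pullbackFst m d,
    ⟨sqP.isoPullback.inv c, ((Scheme.Hom.comp_apply _ _ _).symm.trans congr($(sqP.isoPullback_inv_fst) c)).trans hc⟩,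
    Or.inr ?_⟩
  rw [← hm.1, ← hm.2, ← Category.assoc, ← Category.assoc, EtOver.pullback_condition, Category.assoc,
    Category.assoc, hd.1, hd.2]

end Groth.Agent.AlgSpQC
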