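import Groth.Agent.AlgSpQC.MVExact
import Groth.Agent.AlgSpB.FPCover.Alg

/-!
# The Mayer-Vietoris short exact sequence
-/

universe u

open CategoryTheory CategoryTheory.Limits AlgebraicGeometry Opposite

set_option backward.isDefEq.respectTransparency false
set_option backward.isDefEq.respectTransparency.types false
set_option autoImplicit false

namespace Groth.Agent.AlgSpQC

open _root_.AlgSp

variable {S : Scheme.{u}} {X : Space S} {U V : EtOver X.obj} (F : ModEt X.obj) {W : EtOver X.obj}

/-- The sections of the direct image of a restriction. -/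
noncomputable def pushRes (U W : EtOver X.obj) :
    sectModEt ((resModEt U ⋙ pushOnModEt U).obj F) W ≃+ sectModEt F (U ⨯ W) :=
  AddEquiv.refl _

theorem pushRes_unit (U : EtOver X.obj) (s : sectModEt F W) :
    pushRes F U W (hs ((resPushAdjEt U).unit.app F) W s) = rs F (prod.snd : U ⨯ W ⟶ W) s :=
  rfl

theorem pushRes_natTrans {U' U : EtOver X.obj} (g : U' ⟶ U)
    (x : sectModEt ((resModEt U ⋙ pushOnModEt U).obj F) W) :
    pushRes F U' W (hs ((pushResNatTrans g).app F) W x) = rs F (prod.map g (𝟙 W)) (pushRes F U W x) :=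
  rfl

theorem pushRes_rs {W' : EtOver X.obj} (U : EtOver X.obj) (g : W' ⟶ W)
    (x : sectModEt ((resModEt U ⋙ pushOnModEt U).obj F) W) :
    pushRes F U W' (rs ((resModEt U ⋙ pushOnModEt U).obj F) g x) = rs F (prod.map (𝟙 U) g) (pushRes F U W x) :=
  rfl

section Generic

variable {A B C : ModEt X.obj} {a : F ⟶ A} {b : F ⟶ B} {c : A ⟶ C} {d : B ⟶ C}

theorem hs_lift_fst (s : sectModEt F W) : hs biprod.fst W (hs (biprod.lift a b) W s) = hs a W s :=
  Groth.Agent.AlgSpB.FPCover.hs_of_comp_eq (biprod.lift_fst a b) W s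

theorem hs_lift_snd (s : sectModEt F W) : hs biprod.snd W (hs (biprod.lift a b) W s) = hs b W s :=
  Groth.Agent.AlgSpB.FPCover.hs_of_comp_eq (biprod.lift_snd a b) W s

theorem hs_desc (x : sectModEt (A ⊞ B) W) :
    hs (biprod.desc c (-d)) W x = hs c W (hs biprod.fst W x) - hs d W (hs biprod.snd W x) := by
  conv_lhs => rw [Groth.Agent.AlgSpB.FPCover.biprod_decomp W x]
  rw [map_add, Groth.Agent.AlgSpB.FPCover.hs_of_comp_eq (biprod.inl_desc c (-d)),
    Groth.Agent.AlgSpB.FPCover.hs_of_comp_eq (biprod.inr_desc c (-d)), sub_eq_add_neg]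
  rfl

set_option maxHeartbeats 1000000 in
theorem mono_lift_of_sections
    (hmono : ∀ (W : EtOver X.obj) (s : sectModEt F W), hs a W s = 0 → hs b W s = 0 → s = 0) :
    Mono (biprod.lift a b) := by
  refine ⟨fun {Z} u v e => SheafOfModules.hom_ext (PresheafOfModules.hom_ext fun E => ModuleCat.hom_ext
    (LinearMap.ext fun z => ?_))⟩
  change hs u E.unop z = hs v E.unop z
  have e' : hs (biprod.lift a b) E.unop (hs u E.unop z - hs v E.unop z) = 0 := by
    rw [map_sub, ← hs_comp, ← hs_comp, e, sub_self]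
  refine sub_eq_zero.1 (hmono E.unop _ ?_ ?_)
  · exact (hs_lift_fst F (a := a) (b := b) _).symm.trans ((congrArg _ e').trans (map_zero _))
  · exact (hs_lift_snd F (a := a) (b := b) _).symm.trans ((congrArg _ e').trans (map_zero _))

set_option maxHeartbeats 1000000 in
theorem epi_desc_of_sections
    (hepi : ∀ (W : EtOver X.obj) (z : sectModEt C W) (w : W.obj.left.left), ∃ (W' : EtOver X.obj) (g : W' ⟶ W),
      w ∈ Set.range g.hom.left.left ∧ ∃ (x : sectModEt A W') (y : sectModEt B W'),
        hs c W' x - hs d W' y = rs C g z) :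
    Epi (biprod.desc c (-d)) := by
  refine ⟨fun {Z} u v e => SheafOfModules.hom_ext (PresheafOfModules.hom_ext fun E => ModuleCat.hom_ext
    (LinearMap.ext fun z => ?_))⟩
  change hs u E.unop z = hs v E.unop z
  choose W' g hg x y hxy using hepi E.unop z
  refine eq_of_family g (fun w => ⟨w, hg w⟩) fun w => ?_
  have key : rs C (g w) z =
      hs (biprod.desc c (-d)) (W' w) (hs biprod.inl (W' w) (x w) + hs biprod.inr (W' w) (y w)) := by
    rw [map_add, Groth.Agent.AlgSpB.FPCover.hs_of_comp_eq (biprod.inl_desc c (-d)),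
      Groth.Agent.AlgSpB.FPCover.hs_of_comp_eq (biprod.inr_desc c (-d)), ← hxy w, sub_eq_add_neg]
    rfl
  rw [← hs_rs, ← hs_rs, key, ← hs_comp, ← hs_comp, e]

set_option maxHeartbeats 1000000 in
/-- A criterion for short exactness through sections. -/
theorem shortExact_of_sections
    (hmono : ∀ (W : EtOver X.obj) (s : sectModEt F W), hs a W s = 0 → hs b W s = 0 → s = 0)
    (hzero : ∀ (W : EtOver X.obj) (s : sectModEt F W), hs c W (hs a W s) = hs d W (hs b W s))
    (hmid : ∀ (W : EtOver X.obj) (x : sectModEt A W) (y : sectModEt B W), hs c W x = hs d W y →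
      ∃ s, hs a W s = x ∧ hs b W s = y)
    (hepi : ∀ (W : EtOver X.obj) (z : sectModEt C W) (w : W.obj.left.left), ∃ (W' : EtOver X.obj) (g : W' ⟶ W),
      w ∈ Set.range g.hom.left.left ∧ ∃ (x : sectModEt A W') (y : sectModEt B W'),
        hs c W' x - hs d W' y = rs C g z) :
    ∃ h : biprod.lift a b ≫ biprod.desc c (-d) = 0, (ShortComplex.mk _ _ h).ShortExact := by
  have h : biprod.lift a b ≫ biprod.desc c (-d) = 0 := by
    refine SheafOfModules.hom_ext (PresheafOfModules.hom_ext fun E => ModuleCat.hom_ext (LinearMap.ext fun s => ?_))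
    change hs (biprod.lift a b ≫ biprod.desc c (-d)) E.unop s = 0
    rw [hs_comp, hs_desc, hs_lift_fst, hs_lift_snd, sub_eq_zero]
    exact hzero E.unop s
  have hm := mono_lift_of_sections F hmono
  have he := epi_desc_of_sections (c := c) (d := d) hepi
  refine ⟨h, { exact := ?_, mono_f := hm, epi_g := he }⟩
  refine ShortComplex.exact_of_f_is_kernel _ (KernelFork.IsLimit.ofι' _ _ fun {T} k hk =>
    Classical.indefiniteDescription _ (exists_factor k (biprod.lift a b) fun E t => ?_))
  have e : hs c E (hs biprod.fst E (hs k E t)) = hs d E (hs biprod.snd E (hs k E t)) := by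
    rw [← sub_eq_zero, ← hs_desc, ← hs_comp]
    exact congrArg (fun r : T ⟶ C => hs r E t) hk
  obtain ⟨s, hs₁, hs₂⟩ := hmid E _ _ e
  refine ⟨s, ?_⟩
  rw [Groth.Agent.AlgSpB.FPCover.biprod_decomp E (hs (biprod.lift a b) E s), hs_lift_fst, hs_lift_snd, hs₁, hs₂]
  exact (Groth.Agent.AlgSpB.FPCover.biprod_decomp E _).symm

end Generic

variable (hsq : IsElemDistSq U.obj.hom V.obj.hom)

include hsq in
/-- The Mayer-Vietoris sequence is short exact. -/
theorem mayerVietoris_shortExact :
    ∃ h : biprod.lift ((resPushAdjEt U).unit.app F) ((resPushAdjEt V).unit.app F) ≫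
        biprod.desc ((pushResNatTrans (EtOver.prodFst U V)).app F)
          (-((pushResNatTrans (EtOver.prodSnd U V)).app F)) = 0,
      (ShortComplex.mk _ _ h).ShortExact := by
  refine shortExact_of_sections F (fun W s hA hB => ?_) (fun W s => ?_) (fun W x y e => ?_) fun W z w => ?_
  · refine mv_injective hsq F s ?_ ?_
    · exact (pushRes_unit F U s).symm.trans ((congrArg _ hA).trans (map_zero _))
    · exact (pushRes_unit F V s).symm.trans ((congrArg _ hB).trans (map_zero _))
  · apply (pushRes F (EtOver.prodObj U V) W).injective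
    refine (pushRes_natTrans F _ _).trans (Eq.trans ?_ (pushRes_natTrans F _ _).symm)
    refine (congrArg _ (pushRes_unit F U s)).trans (Eq.trans ?_ (congrArg _ (pushRes_unit F V s)).symm)
    rw [← rs_comp, ← rs_comp, prod.map_snd, prod.map_snd]
  · have e' : rs F (mvA U V W) (pushRes F U W x) = rs F (mvB U V W) (pushRes F V W y) :=
      (pushRes_natTrans F _ x).symm.trans ((congrArg _ e).trans (pushRes_natTrans F _ y))
    obtain ⟨s, h₁, h₂⟩ := mv_glue hsq F _ _ e'
    exact ⟨s, (pushRes F U W).injective ((pushRes_unit F U s).trans h₁),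
      (pushRes F V W).injective ((pushRes_unit F V s).trans h₂)⟩
  · obtain ⟨W', g, hg, x, y, hxy⟩ := mv_lift hsq F (pushRes F (EtOver.prodObj U V) W z) w
    refine ⟨W', g, hg, (pushRes F U W').symm x, (pushRes F V W').symm y, ?_⟩
    apply (pushRes F (EtOver.prodObj U V) W').injective
    rw [map_sub, pushRes_natTrans, pushRes_natTrans, AddEquiv.apply_symm_apply, AddEquiv.apply_symm_apply,
      pushRes_rs]
    exact hxy

end Groth.Agent.AlgSpQC
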