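import Groth.Agent.AlgSpQC.MVShort
import Groth.Agent.AlgSpQC.EnoughInj
import Mathlib.CategoryTheory.Adjunction.Mates
import Mathlib.CategoryTheory.Adjunction.Additive
import Mathlib.CategoryTheory.Preadditive.Injective.Basic

/-!
# The Mayer-Vietoris sequence for extensions by zero
-/

universe v w u

open CategoryTheory CategoryTheory.Limits AlgebraicGeometry Opposite

set_option autoImplicit false

namespace Groth.Agent.AlgSpQC

section Dual

variable {C : Type w} [Category.{v} C] [Abelian C] [EnoughInjectives C] {LA LB LC RA RB RC : C ⥤ C}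
  [RA.Additive] [RB.Additive] [RC.Additive]
  (aA : LA ⊣ RA) (aB : LB ⊣ RB) (aC : LC ⊣ RC) (ηA : 𝟭 C ⟶ RA) (ηB : 𝟭 C ⟶ RB) (c : RA ⟶ RC) (d : RB ⟶ RC)
  (εA : LA ⟶ 𝟭 C) (εB : LB ⟶ 𝟭 C) (nA : LC ⟶ LA) (nB : LC ⟶ LB)

omit [RA.Additive] [RB.Additive] in
/-- The dual of a short exact sequence of functors, through adjunctions. -/
theorem shortExact_dual
    (hεA : ∀ (F G : C) (φ : F ⟶ G), aA.homEquiv F G (εA.app F ≫ φ) = φ ≫ ηA.app G)
    (hεB : ∀ (F G : C) (φ : F ⟶ G), aB.homEquiv F G (εB.app F ≫ φ) = φ ≫ ηB.app G)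
    (hnA : ∀ (F G : C) (ψ : LA.obj F ⟶ G), aC.homEquiv F G (nA.app F ≫ ψ) = aA.homEquiv F G ψ ≫ c.app G)
    (hnB : ∀ (F G : C) (ψ : LB.obj F ⟶ G), aC.homEquiv F G (nB.app F ≫ ψ) = aB.homEquiv F G ψ ≫ d.app G)
    (hR : ∀ G : C, ∃ h : biprod.lift (ηA.app G) (ηB.app G) ≫ biprod.desc (c.app G) (-d.app G) = 0,
      (ShortComplex.mk _ _ h).ShortExact) (F : C) :
    ∃ h : biprod.lift (nA.app F) (-nB.app F) ≫ biprod.desc (εA.app F) (εB.app F) = 0,
      (ShortComplex.mk _ _ h).ShortExact := by
  have : LC.IsLeftAdjoint := aC.isLeftAdjoint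
  have hadd : ∀ (G : C) (p q : LC.obj F ⟶ G), aC.homEquiv F G (p - q) = aC.homEquiv F G p - aC.homEquiv F G q :=
    fun G p q => by simp only [Adjunction.homEquiv_unit, Functor.map_sub, Preadditive.comp_sub]
  have hzero : ∀ G : C, aC.homEquiv F G 0 = 0 := fun G => by
    simp only [Adjunction.homEquiv_unit, Functor.map_zero, comp_zero]
  have h0 : ∀ G : C, ηA.app G ≫ c.app G = ηB.app G ≫ d.app G := fun G => by
    obtain ⟨h, -⟩ := hR G
    simpa [biprod.lift_desc, ← sub_eq_add_neg, sub_eq_zero] using h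
  have h : biprod.lift (nA.app F) (-nB.app F) ≫ biprod.desc (εA.app F) (εB.app F) = 0 := by
    refine (aC.homEquiv F F).injective ?_
    rw [biprod.lift_desc, Preadditive.neg_comp, ← sub_eq_add_neg]
    refine (hadd _ _ _).trans (Eq.trans ?_ (hzero F).symm)
    rw [← Category.comp_id (εA.app F), ← Category.comp_id (εB.app F)]
    refine (congrArg₂ _ (hnA _ _ _) (hnB _ _ _)).trans ?_
    rw [hεA, hεB, Category.assoc, Category.assoc, h0, sub_self]
  have he : Epi (biprod.desc (εA.app F) (εB.app F)) := by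
    refine ⟨fun {T} φ φ' e => ?_⟩
    obtain ⟨_, hS⟩ := hR T
    have := hS.mono_f
    refine (cancel_mono (biprod.lift (ηA.app T) (ηB.app T))).1 (biprod.hom_ext _ _ ?_ ?_)
    · rw [Category.assoc, Category.assoc, biprod.lift_fst]
      refine (hεA F T φ).symm.trans (Eq.trans ?_ (hεA F T φ'))
      have e' := congrArg (biprod.inl ≫ ·) e
      simp only [biprod.inl_desc_assoc] at e'
      exact congrArg _ e'
    · rw [Category.assoc, Category.assoc, biprod.lift_snd]
      refine (hεB F T φ).symm.trans (Eq.trans ?_ (hεB F T φ'))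
      have e' := congrArg (biprod.inr ≫ ·) e
      simp only [biprod.inr_desc_assoc] at e'
      exact congrArg _ e'
  have hm : Mono (biprod.lift (nA.app F) (-nB.app F)) := by
    let G := Injective.under (LC.obj F)
    let e := Injective.ι (LC.obj F)
    obtain ⟨_, hS⟩ := hR G
    have hmS : Mono (biprod.lift (ηA.app G) (ηB.app G)) := hS.mono_f
    have heS := hS.epi_g
    let s := ShortComplex.Splitting.ofExactOfRetraction _ hS.exact
      (Injective.factorThru (𝟙 G) (biprod.lift (ηA.app G) (ηB.app G))) (Injective.comp_factorThru _ _) heS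
    obtain ⟨t, ht⟩ : ∃ t : F ⟶ RA.obj G ⊞ RB.obj G,
        t ≫ biprod.desc (c.app G) (-d.app G) = aC.homEquiv F G e :=
      ⟨aC.homEquiv F G e ≫ s.s, (Category.assoc _ _ _).trans ((congrArg _ s.s_g).trans (Category.comp_id _))⟩
    let ψ := biprod.desc ((aA.homEquiv F G).symm (t ≫ biprod.fst)) ((aB.homEquiv F G).symm (t ≫ biprod.snd))
    have hψ : biprod.lift (nA.app F) (-nB.app F) ≫ ψ = e := by
      refine (aC.homEquiv F G).injective ?_
      rw [biprod.lift_desc, Preadditive.neg_comp, ← sub_eq_add_neg]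
      refine (hadd _ _ _).trans ((congrArg₂ _ (hnA _ _ _) (hnB _ _ _)).trans ?_)
      rw [Equiv.apply_symm_apply, Equiv.apply_symm_apply, ← ht, Category.assoc, Category.assoc, ← Preadditive.comp_sub]
      congr 1
      apply biprod.hom_ext' <;> simp
    exact mono_of_mono_fac hψ
  refine ⟨h, { exact := ?_, mono_f := hm, epi_g := he }⟩
  refine ShortComplex.exact_of_g_is_cokernel _ (CokernelCofork.IsColimit.ofπ' _ _ fun {T} ψ hψ =>
    Classical.indefiniteDescription _ ?_)
  obtain ⟨_, hS⟩ := hR T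
  have hmT : Mono (biprod.lift (ηA.app T) (ηB.app T)) := hS.mono_f
  let t := biprod.lift (aA.homEquiv F T (biprod.inl ≫ ψ)) (aB.homEquiv F T (biprod.inr ≫ ψ))
  have ht : t ≫ biprod.desc (c.app T) (-d.app T) = 0 := by
    rw [biprod.lift_desc, Preadditive.comp_neg, ← sub_eq_add_neg]
    refine ((congrArg₂ _ (hnA _ _ _).symm (hnB _ _ _).symm).trans (hadd _ _ _).symm).trans ?_
    refine Eq.trans (congrArg _ ?_) (hzero T)
    rw [← hψ]
    have : ψ = biprod.desc (biprod.inl ≫ ψ) (biprod.inr ≫ ψ) := by apply biprod.hom_ext' <;> simp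
    conv_rhs => rw [this]
    simp [biprod.lift_desc, sub_eq_add_neg]
  obtain ⟨φ, hφ⟩ := KernelFork.IsLimit.lift' hS.fIsKernel t ht
  refine ⟨φ, biprod.hom_ext' _ _ ?_ ?_⟩
  · refine (aA.homEquiv F T).injective ?_
    rw [biprod.inl_desc_assoc, hεA]
    have e := congrArg (· ≫ biprod.fst) hφ
    simp only [t, KernelFork.ι_ofι, Category.assoc, biprod.lift_fst] at e
    exact e
  · refine (aB.homEquiv F T).injective ?_
    rw [biprod.inr_desc_assoc, hεB]
    have e := congrArg (· ≫ biprod.snd) hφ
    simp only [t, KernelFork.ι_ofι, Category.assoc, biprod.lift_snd] at e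
    exact e

end Dual

section Et

open _root_.AlgSp

set_option backward.isDefEq.respectTransparency false
set_option backward.isDefEq.respectTransparency.types false

variable {S : Scheme.{u}} {X : Space S}

theorem homEquiv_counit_comp (U : EtOver X.obj) [(resModEt U).IsRightAdjoint] (F G : ModEt X.obj) (φ : F ⟶ G) :
    (shriekResAdj U).homEquiv F G ((Adjunction.ofIsRightAdjoint (resModEt U)).counit.app F ≫ φ) =
      φ ≫ (resPushAdjEt U).unit.app G := by
  change ((resPushAdjEt U).comp (Adjunction.ofIsRightAdjoint (resModEt U))).homEquiv F G _ = _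
  rw [Adjunction.comp_homEquiv]
  change (resPushAdjEt U).homEquiv F _ ((Adjunction.ofIsRightAdjoint (resModEt U)).homEquiv _ G _) = _
  let a := Adjunction.ofIsRightAdjoint (resModEt U)
  have e : a.homEquiv ((resModEt U).obj F) F (a.counit.app F) = 𝟙 _ :=
    (Adjunction.homEquiv_unit _ _ _ _).trans (Adjunction.right_triangle_components a F)
  refine (congrArg _ ((Adjunction.homEquiv_naturality_right a (a.counit.app F) φ).trans
    ((congrArg (· ≫ (resModEt U).map φ) e).trans (Category.id_comp _)))).trans ?_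
  rw [Adjunction.homEquiv_unit]
  exact ((resPushAdjEt U).unit.naturality φ).symm

theorem homEquiv_natTrans_comp {U' U : EtOver X.obj} (g : U' ⟶ U) [(resModEt U).IsRightAdjoint]
    [(resModEt U').IsRightAdjoint] (F G : ModEt X.obj) (ψ : (shriekRes U).obj F ⟶ G) :
    (shriekResAdj U').homEquiv F G ((shriekResNatTrans g).app F ≫ ψ) =
      (shriekResAdj U).homEquiv F G ψ ≫ (pushResNatTrans g).app G := by
  rw [Adjunction.homEquiv_unit, Adjunction.homEquiv_unit, Functor.map_comp, ← Category.assoc]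
  have h := unit_conjugateEquiv_symm (shriekResAdj U) (shriekResAdj U') (pushResNatTrans g) F
  change _ = (shriekResAdj U').unit.app F ≫ (resModEt U' ⋙ pushOnModEt U').map ((shriekResNatTrans g).app F) at h
  rw [← h, Category.assoc, Category.assoc, (pushResNatTrans g).naturality]

variable {U V : EtOver X.obj} (hsq : IsElemDistSq U.obj.hom V.obj.hom)
  [(resModEt U).IsRightAdjoint] [(resModEt V).IsRightAdjoint] [(resModEt (EtOver.prodObj U V)).IsRightAdjoint]

include hsq in
theorem mayerVietoris_shortExact_shriek (F : ModEt X.obj) :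
    ∃ h : biprod.lift ((shriekResNatTrans (EtOver.prodFst U V)).app F)
          (-((shriekResNatTrans (EtOver.prodSnd U V)).app F)) ≫
        biprod.desc ((Adjunction.ofIsRightAdjoint (resModEt U)).counit.app F)
          ((Adjunction.ofIsRightAdjoint (resModEt V)).counit.app F) = 0,
      (ShortComplex.mk _ _ h).ShortExact := by
  have := enoughInjectives_modEt X.obj
  exact shortExact_dual (shriekResAdj U) (shriekResAdj V) (shriekResAdj (EtOver.prodObj U V))
    (resPushAdjEt U).unit (resPushAdjEt V).unit (pushResNatTrans (EtOver.prodFst U V))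
    (pushResNatTrans (EtOver.prodSnd U V)) (Adjunction.ofIsRightAdjoint (resModEt U)).counit
    (Adjunction.ofIsRightAdjoint (resModEt V)).counit (shriekResNatTrans (EtOver.prodFst U V))
    (shriekResNatTrans (EtOver.prodSnd U V)) (homEquiv_counit_comp U) (homEquiv_counit_comp V)
    (homEquiv_natTrans_comp (EtOver.prodFst U V)) (homEquiv_natTrans_comp (EtOver.prodSnd U V))
    (fun G => mayerVietoris_shortExact G hsq) F

end Et

end Groth.Agent.AlgSpQC
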