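import Groth.Agent.AlgSpQC.Pres

/-!
# Elementwise presentations from presentations of restrictions
-/

universe u

open CategoryTheory CategoryTheory.Limits AlgebraicGeometry Opposite

set_option backward.isDefEq.respectTransparency false
set_option autoImplicit false
set_option maxHeartbeats 400000

namespace Groth.Agent.AlgSpQC

open _root_.AlgSp

variable {S : Scheme.{u}} {X : Sp S} {M : ModEt X} {E : EtOver X} {I : Type (u + 1)}

theorem mem_over_sieve {Y : Over E} {T : Sieve Y} (hT : T ∈ (etTop X).over E Y) :
    Sieve.overEquiv Y T ∈ etTop X Y.left :=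
  hT

/-- The value over the base of a section of a restriction. -/
noncomputable abbrev topSec (σ : (M.over E).sections) : sectModEt M E := σ.val (op (Over.mk (𝟙 E)))

theorem over_zero (Y : Over E) : ((0 : (M.over E).val.obj (op Y)) : sectModEt M Y.left) = 0 :=
  rfl

theorem sec_eq_rs (σ : (M.over E).sections) (Y : Over E) :
    (σ.val (op Y) : sectModEt M Y.left) = rs M Y.hom (topSec σ) :=
  (PresheafOfModules.sections_property σ (Over.homMk Y.hom : Y ⟶ Over.mk (𝟙 E)).op).symm

/-- The functions on an object over `E`, as sections of the restricted structure sheaf. -/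
noncomputable abbrev up' (Y : Over E) : gr Y.left →+* ((OEtRing X).over E).obj.obj (op Y) := upΓ Y.left

/-- Combinations of the basis of a free module over `E`. -/
noncomputable def lce (I : Type (u + 1)) (Y : Over E) :
    (I →₀ gr Y.left) →+ (SheafOfModules.free (R := (OEtRing X).over E) I).val.obj (op Y) :=
  (Finsupp.linearCombination (((OEtRing X).over E).obj.obj (op Y))
      fun i => sec (SheafOfModules.freeSection (R := (OEtRing X).over E) i) Y).toAddMonoidHom.comp
    (Finsupp.mapRange.addMonoidHom (up' Y).toAddMonoidHom)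

theorem lce_single (Y : Over E) (i : I) (a : gr Y.left) :
    lce I Y (Finsupp.single i a) = up' Y a • sec (SheafOfModules.freeSection i) Y := by
  simp [lce]

theorem coord_lce [DecidableEq I] (Y : Over E) (c : I →₀ gr Y.left) (i : I) :
    ((coord (R := (OEtRing X).over E) i).val.app (op Y)).hom (lce I Y c) = up' Y (c i) := by
  induction c using Finsupp.induction_linear with
  | zero => simp only [map_zero, Finsupp.coe_zero, Pi.zero_apply]
  | add x y hx hy => simp only [map_add, hx, hy, Finsupp.coe_add, Pi.add_apply]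
  | single j a =>
    rw [lce_single, map_smul, coord_freeSection, Finsupp.single_apply]
    split_ifs
    · exact mul_one (up' Y a : ((OEtRing X).over E).obj.obj (op Y))
    · exact (mul_zero (up' Y a : ((OEtRing X).over E).obj.obj (op Y))).trans (map_zero (up' Y)).symm

theorem lce_injective (Y : Over E) : Function.Injective (lce (X := X) I Y) := fun c d h => by
  classical
  refine Finsupp.ext fun i => ?_
  have := congrArg (((coord (R := (OEtRing X).over E) i).val.app (op Y)).hom) h
  rw [coord_lce, coord_lce] at this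
  exact congrArg ULift.down this

theorem res_lce {Y Z : Over E} (h : Z ⟶ Y) (c : I →₀ gr Y.left) :
    res (SheafOfModules.free (R := (OEtRing X).over E) I) h (lce I Y c) = lce I Z (cmap (gm h.left) c) := by
  refine (res_linearCombination (fun i => SheafOfModules.freeSection (R := (OEtRing X).over E) i) h
    (Finsupp.mapRange.addMonoidHom (up' Y).toAddMonoidHom c)).trans ?_
  refine congrArg _ (Finsupp.ext fun i => ?_)
  rfl

theorem map_lce (φ : SheafOfModules.free (R := (OEtRing X).over E) I ⟶ M.over E) (Y : Over E)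
    (c : I →₀ gr Y.left) :
    ((φ.val.app (op Y)).hom (lce I Y c) : sectModEt M Y.left) =
      lc (sr Y.hom fun i => topSec ((M.over E).freeHomEquiv φ i)) c := by
  induction c using Finsupp.induction_linear with
  | zero => simp only [map_zero]
  | add x y hx hy => simp only [map_add, ← hx, ← hy]
  | single j a =>
    rw [lce_single, map_smul, Finsupp.linearCombination_single]
    refine congrArg (fun m : sectModEt M Y.left => upΓ Y.left a • m) ?_
    exact sec_eq_rs ((M.over E).freeHomEquiv φ j) Y

theorem lce_smul (Y : Over E) (b : gr Y.left) (c : I →₀ gr Y.left) :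
    lce (X := X) I Y (b • c) = up' Y b • lce I Y c := by
  have e : Finsupp.mapRange.addMonoidHom (up' Y).toAddMonoidHom (b • c) =
      up' Y b • Finsupp.mapRange.addMonoidHom (up' Y).toAddMonoidHom c := Finsupp.ext fun i => rfl
  simp only [lce, AddMonoidHom.comp_apply, LinearMap.toAddMonoidHom_coe, e, map_smul]

theorem span_eq_image_lce (Y : Over E) (K : Set (I →₀ gr Y.left)) :
    ∀ x ∈ Submodule.span (((OEtRing X).over E).obj.obj (op Y)) (lce I Y '' K),
      ∃ c ∈ Submodule.span (gr Y.left) K, lce I Y c = x := by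
  intro x hx
  induction hx using Submodule.span_induction with
  | mem x hx =>
    obtain ⟨k, hk, rfl⟩ := hx
    exact ⟨k, Submodule.subset_span hk, rfl⟩
  | zero => exact ⟨0, zero_mem _, map_zero _⟩
  | add x y _ _ hx hy =>
    obtain ⟨c, hc, rfl⟩ := hx
    obtain ⟨d, hd, rfl⟩ := hy
    exact ⟨c + d, add_mem hc hd, map_add _ _ _⟩
  | smul a x _ hx =>
    obtain ⟨c, hc, rfl⟩ := hx
    obtain ⟨b⟩ := a
    exact ⟨(show gr Y.left from b) • c, Submodule.smul_mem _ _ hc, lce_smul Y b c⟩

/-- Membership in a span pulls back along the combination map. -/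
theorem mem_span_of_lce_mem {Y : Over E} {κ : Type (u + 1)} (v : κ → (I →₀ gr Y.left))
    {x : (SheafOfModules.free (R := (OEtRing X).over E) I).val.obj (op Y)} (c : I →₀ gr Y.left)
    (hx : x = lce I Y c)
    (h : x ∈ Submodule.span (((OEtRing X).over E).obj.obj (op Y)) (Set.range fun r => lce I Y (v r))) :
    c ∈ Submodule.span (gr Y.left) (Set.range v) := by
  subst hx
  rw [show (Set.range fun r => lce I Y (v r)) = lce I Y '' Set.range v from Set.range_comp _ _] at h
  obtain ⟨d, hd, hd'⟩ := span_eq_image_lce Y (Set.range v) _ h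
  rw [← lce_injective Y hd']
  exact hd

variable (E)

theorem exists_cover_pullback (Y : Over E) {T : Sieve Y} (hT : T ∈ (etTop X).over E Y) :
    ∃ T' ∈ etTop X Y.left, ∀ (V : EtOver X) (h : V ⟶ Y.left), T' h →
      T (Over.homMk h : Over.mk (h ≫ Y.hom) ⟶ Y) :=
  ⟨_, mem_over_sieve hT, fun _ _ hh => (Sieve.overEquiv_iff T _).1 hh⟩

variable {E}

/-- Coefficients of a section which is locally a combination of the basis. -/
theorem coord_res_eq {Y Z : Over E} (h : Z ⟶ Y)
    (z : (SheafOfModules.free (R := (OEtRing X).over E) I).val.obj (op Y)) (c : I →₀ gr Z.left)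
    (hc : lce I Z c = res (SheafOfModules.free (R := (OEtRing X).over E) I) h z) (i : I) :
    c i = gm h.left (ULift.down (((coord (R := (OEtRing X).over E) i).val.app (op Y)).hom z)) := by
  classical
  have e : ((coord (R := (OEtRing X).over E) i).val.app (op Z)).hom (lce I Z c) =
      res (SheafOfModules.unit ((OEtRing X).over E)) h (((coord (R := (OEtRing X).over E) i).val.app (op Y)).hom z) :=
    (congrArg _ hc).trans (map_res (coord i) h z)
  rw [coord_lce] at e
  exact congrArg ULift.down e

theorem exists_lce_of_mem_span {Z : Over E}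
    {m : (SheafOfModules.free (R := (OEtRing X).over E) I).val.obj (op Z)}
    (hm : m ∈ Submodule.span (((OEtRing X).over E).obj.obj (op Z))
      (Set.range fun i => sec (SheafOfModules.freeSection (R := (OEtRing X).over E) i) Z)) :
    ∃ c, lce I Z c = m := by
  obtain ⟨c, hc⟩ := (Finsupp.mem_span_range_iff_exists_finsupp).1 hm
  refine ⟨Finsupp.mapRange ULift.down rfl c, ?_⟩
  refine Eq.trans ?_ hc
  simp only [lce, AddMonoidHom.comp_apply, LinearMap.toAddMonoidHom_coe]
  rw [show Finsupp.mapRange.addMonoidHom (up' Z).toAddMonoidHom (Finsupp.mapRange ULift.down rfl c) = c from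
    Finsupp.ext fun i => rfl, Finsupp.linearCombination_apply]

/-- A jointly surjective family covers in the site over an object. -/
theorem ofArrows_mem_over {Y : Over E} {κ : Type u} {V : κ → EtOver X} (f : ∀ k, V k ⟶ Y.left)
    (hf : ∀ x : Y.left.obj.left.left, ∃ k, x ∈ Set.range (f k).hom.left.left) :
    Sieve.ofArrows (fun k => Over.mk (f k ≫ Y.hom))
      (fun k => (Over.homMk (f k) : Over.mk (f k ≫ Y.hom) ⟶ Y)) ∈ (etTop X).over E Y := by
  change Sieve.overEquiv Y _ ∈ etTop X Y.left
  refine GrothendieckTopology.superset_covering _ ?_ (AlgSp.ofArrows_mem_etTop V f hf)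
  rw [Sieve.ofArrows, Sieve.generate_le_iff]
  rintro _ _ ⟨k⟩
  refine (Sieve.overEquiv_iff _ _).2 ⟨_, Over.homMk (𝟙 _) (Category.id_comp _), _, ⟨k⟩, ?_⟩
  exact Over.OverMorphism.ext (Category.id_comp _)


/-- Sections of a free module over an affine object are combinations of the basis. -/
theorem exists_lce_eq (Y : Over E) [IsAffine Y.left.obj.left.left]
    (z : (SheafOfModules.free (R := (OEtRing X).over E) I).val.obj (op Y)) :
    ∃ c, lce I Y c = z := by
  classical
  obtain ⟨T, hT, hTs⟩ := span_mem_of_epi (M := SheafOfModules.free (R := (OEtRing X).over E) I)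
    (fun i => SheafOfModules.freeSection i)
    (by
      have : (SheafOfModules.free (R := (OEtRing X).over E) I).freeHomEquiv.symm
          (fun i => SheafOfModules.freeSection i) = 𝟙 _ := Equiv.symm_apply_apply _ _
      rw [this]; infer_instance) Y z
  obtain ⟨T', hT', hT's⟩ := exists_cover_pullback E _ hT
  obtain ⟨κ, _, V, f, hV, hTf, hf⟩ := exists_affine_family (E := Y.left) hT'
  have hc : ∀ k, ∃ c : I →₀ gr (V k), lce I (Over.mk (f k ≫ Y.hom)) c =
      res (SheafOfModules.free (R := (OEtRing X).over E) I) (Over.homMk (f k) : Over.mk (f k ≫ Y.hom) ⟶ Y) z :=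
    fun k => exists_lce_of_mem_span (hTs _ _ (hT's _ _ (hTf k)))
  choose c hc using hc
  have := Fintype.ofFinite κ
  let Fs : Finset I := Finset.univ.biUnion fun k => (c k).support
  let C : I →₀ gr Y.left := Finsupp.onFinset Fs
    (fun i => if i ∈ Fs then
      ULift.down (((coord (R := (OEtRing X).over E) i).val.app (op Y)).hom z) else 0)
    (fun i hi => by by_contra hn; exact hi (if_neg hn))
  have hk : ∀ k, cmap (gm (f k)) C = c k := fun k => Finsupp.ext fun i => by
    have e := coord_res_eq (Over.homMk (f k) : Over.mk (f k ≫ Y.hom) ⟶ Y) z (c k) (hc k) i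
    change gm (f k) (C i) = c k i
    rw [Finsupp.onFinset_apply]
    split_ifs with hi
    · exact e.symm
    · rw [map_zero]
      refine (Finsupp.notMem_support_iff.1 fun h => hi ?_).symm
      exact Finset.mem_biUnion.2 ⟨k, Finset.mem_univ k, h⟩
  refine ⟨C, ?_⟩
  refine Presheaf.IsSheaf.isSeparated (SheafOfModules.free (R := (OEtRing X).over E) I).isSheaf _ _
    (ofArrows_mem_over f hf) _ _ fun W h hh => ?_
  obtain ⟨k, a, rfl⟩ := Sieve.mem_ofArrows_iff .. |>.1 hh
  have hk' := (res_lce (X := X) (Over.homMk (f k) : Over.mk (f k ≫ Y.hom) ⟶ Y) C).trans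
    ((congrArg (lce I _) (hk k)).trans (hc k))
  have := congrArg ((SheafOfModules.free (R := (OEtRing X).over E) I).val.presheaf.map a.op) hk'
  change (SheafOfModules.free (R := (OEtRing X).over E) I).val.presheaf.map (_ ≫ a.op) _ =
    (SheafOfModules.free (R := (OEtRing X).over E) I).val.presheaf.map (_ ≫ a.op) _
  rw [Functor.map_comp]
  exact this

/-- Relations spanning a kernel locally. -/
theorem exists_sieve_mem_span {κ : Type (u + 1)} (π : SheafOfModules.free (R := (OEtRing X).over E) I ⟶ M.over E)
    (w : κ → (kernel π).sections) (hw : Epi ((kernel π).freeHomEquiv.symm w)) (top : Over E)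
    (C : κ → (I →₀ gr top.left))
    (hC : ∀ r, lce I top (C r) = ((kernel.ι π).val.app (op top)).hom (sec (w r) top))
    (Y : Over E) (g : Y ⟶ top) (c : I →₀ gr Y.left) (hc : (π.val.app (op Y)).hom (lce I Y c) = 0) :
    ∃ T ∈ etTop X Y.left, ∀ (V : EtOver X) (h : V ⟶ Y.left), T h →
      cmap (gm h) c ∈ Submodule.span (gr V) (Set.range fun r => cmap (gm (h ≫ g.left)) (C r)) := by
  obtain ⟨y, hy⟩ := exists_kernel_lift π (lce I Y c) hc
  obtain ⟨T, hT, hTs⟩ := span_mem_of_epi (M := kernel π) w hw Y y
  obtain ⟨T', hT', hT's⟩ := exists_cover_pullback E Y hT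
  refine ⟨T', hT', fun V h hh => ?_⟩
  let Z : Over E := Over.mk (h ≫ Y.hom)
  let hZ : Z ⟶ Y := Over.homMk h
  let hZt : Z ⟶ top := hZ ≫ g
  have e1 : ((kernel.ι π).val.app (op Z)).hom (res (kernel π) hZ y) = lce I Z (cmap (gm h) c) :=
    (map_res (kernel.ι π) hZ y).trans ((congrArg (res _ hZ) hy).trans (res_lce hZ c))
  have e2 : ∀ r, ((kernel.ι π).val.app (op Z)).hom (sec (w r) Z) =
      lce I Z (cmap (gm (h ≫ g.left)) (C r)) := fun r =>
    (congrArg ((kernel.ι π).val.app (op Z)).hom (res_sec (w r) hZt).symm).trans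
      ((map_res (kernel.ι π) hZt _).trans
        ((congrArg (res _ hZt) (hC r).symm).trans (res_lce hZt (C r))))
  have hm1 := hTs Z hZ (hT's V h hh)
  have hm := map_mem_span (kernel.ι π) (fun r => sec (w r) Z)
    (fun r => lce I Z (cmap (gm (h ≫ g.left)) (C r))) e2 hm1
  exact mem_span_of_lce_mem (Y := Z) (fun r => cmap (gm (h ≫ g.left)) (C r)) (cmap (gm h) c) e1 hm

theorem mem_span_gr_of_mem_span (Z : Over E) (A : Set ((M.over E).val.obj (op Z)))
    (B : Set (sectModEt M Z.left)) (hAB : A = B) {x : (M.over E).val.obj (op Z)}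
    (hx : x ∈ Submodule.span (((OEtRing X).over E).obj.obj (op Z)) A) :
    (x : sectModEt M Z.left) ∈ Submodule.span (gr Z.left) B := by
  subst hAB
  induction hx using Submodule.span_induction with
  | mem x hx => exact Submodule.subset_span hx
  | zero => exact Submodule.zero_mem _
  | add x y _ _ hx hy => exact Submodule.add_mem _ hx hy
  | smul a x _ hx => exact Submodule.smul_mem _ (ULift.down a) hx

/-- Generators spanning locally. -/
theorem exists_sieve_generators {κ : Type (u + 1)} (σ : κ → (M.over E).sections)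
    (hσ : Epi ((M.over E).freeHomEquiv.symm σ)) (Y : Over E) (m : sectModEt M Y.left) :
    ∃ T ∈ etTop X Y.left, ∀ (V : EtOver X) (h : V ⟶ Y.left), T h →
      rs M h m ∈ Submodule.span (gr V) (Set.range (sr (h ≫ Y.hom) fun i => topSec (σ i))) := by
  obtain ⟨T, hT, hTs⟩ := span_mem_of_epi (M := M.over E) σ hσ Y m
  obtain ⟨T', hT', hT's⟩ := exists_cover_pullback E Y hT
  refine ⟨T', hT', fun V h hh => ?_⟩
  let Z : Over E := Over.mk (h ≫ Y.hom)
  have hm := hTs Z (Over.homMk h) (hT's V h hh)
  have e : (fun i => sec (σ i) Z) = (sr (h ≫ Y.hom) fun i => topSec (σ i)) :=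
    funext fun i => sec_eq_rs (σ i) Z
  exact mem_span_gr_of_mem_span Z _ _ (congrArg Set.range e) hm

/-- The values of a map out of a free module. -/
theorem map_lce_sr (π : SheafOfModules.free (R := (OEtRing X).over E) I ⟶ M.over E)
    (σ : I → (M.over E).sections) (hσ : (M.over E).freeHomEquiv π = σ) {top : Over E} (Y : Over E)
    (g : Y ⟶ top) (c : I →₀ gr Y.left) :
    ((π.val.app (op Y)).hom (lce I Y c) : sectModEt M Y.left) =
      lc (sr g.left (sr top.hom fun i => topSec (σ i))) c := by
  subst hσ
  refine (map_lce π Y c).trans ?_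
  refine congrArg (fun t => lc t c) (funext fun i => ?_)
  exact (congrArg (fun h => rs M h (topSec ((M.over E).freeHomEquiv π i))) (Over.w g).symm).trans
    (rs_comp top.hom g.left _)

theorem lc_eq_zero_of_map (π : SheafOfModules.free (R := (OEtRing X).over E) I ⟶ M.over E)
    (σ : I → (M.over E).sections) (hσ : (M.over E).freeHomEquiv π = σ) (top : Over E)
    (c : I →₀ gr top.left) (k : (kernel π).val.obj (op top))
    (hc : lce I top c = ((kernel.ι π).val.app (op top)).hom k) :
    lc (sr top.hom fun i => topSec (σ i)) c = 0 := by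
  have h := (map_lce_sr π σ hσ top (𝟙 top) c).symm.trans
    ((congrArg (π.val.app (op top)).hom hc).trans (map_kernel_ι π k))
  have e : (sr (𝟙 top : top ⟶ top).left (sr top.hom fun i => topSec (σ i))) =
      sr top.hom fun i => topSec (σ i) := funext fun i => rs_id _ _
  exact (congrArg (fun t => lc t c) e).symm.trans (h.trans (over_zero top))

theorem map_lce_eq_zero (π : SheafOfModules.free (R := (OEtRing X).over E) I ⟶ M.over E)
    (σ : I → (M.over E).sections) (hσ : (M.over E).freeHomEquiv π = σ) {top : Over E} (Y : Over E)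
    (g : Y ⟶ top) (c : I →₀ gr Y.left)
    (hc : lc (sr g.left (sr top.hom fun i => topSec (σ i))) c = 0) :
    (π.val.app (op Y)).hom (lce I Y c) = 0 :=
  (map_lce_sr π σ hσ Y g c).trans hc

/-- Generators and relations give an elementwise presentation on affine objects. -/
theorem pres_of_data {κ : Type (u + 1)} (π : SheafOfModules.free (R := (OEtRing X).over E) I ⟶ M.over E)
    (σ : I → (M.over E).sections) (hπ : (M.over E).freeHomEquiv π = σ)
    (hσ : Epi ((M.over E).freeHomEquiv.symm σ))
    (w : κ → (kernel π).sections) (hw : Epi ((kernel π).freeHomEquiv.symm w)) (top : Over E)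
    [IsAffine top.left.obj.left.left] (C : κ → (I →₀ gr top.left))
    (hC : ∀ r, lce I top (C r) = ((kernel.ι π).val.app (op top)).hom (sec (w r) top)) :
    Pres (sr top.hom fun i => topSec (σ i)) ∧
      LinearMap.ker (lc (sr top.hom fun i => topSec (σ i))) = Submodule.span (gr top.left) (Set.range C) := by
  have hC0 : ∀ r, lc (sr top.hom fun i => topSec (σ i)) (C r) = 0 := fun r =>
    lc_eq_zero_of_map π σ hπ top (C r) _ (hC r)
  have key : ∀ (E' : EtOver X) (g : E' ⟶ top.left) (c : I →₀ gr E'),
      lc (sr g (sr top.hom fun i => topSec (σ i))) c = 0 →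
      ∃ T ∈ etTop X E', ∀ (V : EtOver X) (h : V ⟶ E'), T h →
        cmap (gm h) c ∈ Submodule.span (gr V) (cmap (gm (h ≫ g)) '' Set.range C) := fun E' g c hc => by
    have h0 := map_lce_eq_zero π σ hπ (top := top) (Over.mk (g ≫ top.hom)) (Over.homMk g) c hc
    obtain ⟨T, hT, h⟩ := exists_sieve_mem_span π w hw top C hC (Over.mk (g ≫ top.hom))
      (Over.homMk g) c h0
    refine ⟨T, hT, fun V f hf => ?_⟩
    rw [← Set.range_comp]
    exact h V f hf
  refine ⟨⟨fun E' g m => ?_, fun E' g c hc => ?_⟩, le_antisymm (fun c hc => ?_) ?_⟩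
  · obtain ⟨T, hT, h⟩ := exists_sieve_generators σ hσ (Over.mk (g ≫ top.hom)) m
    refine ⟨T, hT, fun V f hf => ?_⟩
    have e : sr (f ≫ g ≫ top.hom) (fun i => topSec (σ i)) =
        sr (f ≫ g) (sr top.hom fun i => topSec (σ i)) := funext fun i => by
      change rs M (f ≫ g ≫ top.hom) (topSec (σ i)) = rs M (f ≫ g) (rs M top.hom (topSec (σ i)))
      rw [← Category.assoc, rs_comp]
    rw [← e]
    exact h V f hf
  · obtain ⟨T, hT, h⟩ := key E' g c hc
    refine ⟨T, hT, fun V f hf => Submodule.span_mono (Set.image_mono ?_) (h V f hf)⟩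
    rintro _ ⟨r, rfl⟩
    exact LinearMap.mem_ker.2 (hC0 r)
  · have e : (sr (𝟙 top.left) (sr top.hom fun i => topSec (σ i))) = sr top.hom fun i => topSec (σ i) :=
      funext fun i => rs_id _ _
    obtain ⟨T, hT, h⟩ := key top.left (𝟙 _) c (by rw [e]; exact hc)
    have := mem_span_of_local (𝟙 top.left) (Set.range C) hT h
    rwa [show cmap (gm (𝟙 top.left)) '' Set.range C = Set.range C from by
      refine (Set.image_congr' fun x => ?_).trans (Set.image_id' _)
      exact Finsupp.ext fun i => rfl] at this
  · rw [Submodule.span_le]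
    rintro _ ⟨r, rfl⟩
    exact LinearMap.mem_ker.2 (hC0 r)

/-- A presentation of a restriction gives elementwise presentations on affine objects over it. -/
theorem exists_pres_of_presentation (P : (M.over E).Presentation) {U : EtOver X} (g₀ : U ⟶ E)
    [IsAffine U.obj.left.left] :
    ∃ s : P.generators.I → sectModEt M U, Pres s ∧ ∃ C : P.relations.I → (P.generators.I →₀ gr U),
      LinearMap.ker (lc s) = Submodule.span (gr U) (Set.range C) := by
  have : IsAffine (Over.mk g₀).left.obj.left.left := ‹_›
  have hz : ∀ r : P.relations.I, ∃ c : P.generators.I →₀ gr (Over.mk g₀).left,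
      lce P.generators.I (Over.mk g₀) c = ((kernel.ι P.generators.π).val.app (op (Over.mk g₀))).hom
        (sec (P.relations.s r) (Over.mk g₀)) := fun r => exists_lce_eq (Over.mk g₀) _
  choose C hC using hz
  have h3 := pres_of_data P.generators.π P.generators.s (Equiv.apply_symm_apply _ _)
    P.generators.epi P.relations.s P.relations.epi (Over.mk g₀) C hC
  exact ⟨_, h3.1, C, h3.2⟩

end Groth.Agent.AlgSpQC
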