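import Mathlib.RingTheory.TensorProduct.Maps
import Mathlib.LinearAlgebra.TensorProduct.Tower
import Mathlib.LinearAlgebra.TensorProduct.RightExactness
import Mathlib.LinearAlgebra.Finsupp.LinearCombination
import Mathlib.RingTheory.TensorProduct.Basic
import Mathlib.Algebra.Category.Ring.Constructions

/-!
# Base change of quotients of free modules
-/

universe u v

open CategoryTheory CategoryTheory.Limits TensorProduct

set_option autoImplicit false

namespace Groth.Agent.AlgSpQC

variable {A : Type u} [CommRing A] {I : Type v} (C : Type u) [CommRing C] [Algebra A C]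

/-- Push a finite family of scalars forward along a ring map. -/
noncomputable def cmap {B B' : Type u} [CommRing B] [CommRing B'] (φ : B →+* B') (c : I →₀ B) : I →₀ B' :=
  Finsupp.mapRange φ (map_zero φ) c

theorem cmap_single {B B' : Type u} [CommRing B] [CommRing B'] (φ : B →+* B') (i : I) (b : B) :
    cmap φ (Finsupp.single i b) = Finsupp.single i (φ b) :=
  Finsupp.mapRange_single

theorem cmap_add {B B' : Type u} [CommRing B] [CommRing B'] (φ : B →+* B') (c d : I →₀ B) :
    cmap φ (c + d) = cmap φ c + cmap φ d :=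
  Finsupp.mapRange_add (map_add φ) _ _

theorem cmap_zero {B B' : Type u} [CommRing B] [CommRing B'] (φ : B →+* B') :
    cmap φ (0 : I →₀ B) = 0 :=
  Finsupp.mapRange_zero

theorem cmap_smul {B B' : Type u} [CommRing B] [CommRing B'] (φ : B →+* B') (b : B) (c : I →₀ B) :
    cmap φ (b • c) = φ b • cmap φ c := by
  ext i
  simp [cmap]

theorem cmap_sub {B B' : Type u} [CommRing B] [CommRing B'] (φ : B →+* B') (c d : I →₀ B) :
    cmap φ (c - d) = cmap φ c - cmap φ d := by
  ext i
  simp [cmap]

theorem cmap_cmap {B B' B'' : Type u} [CommRing B] [CommRing B'] [CommRing B''] (φ : B →+* B') (ψ : B' →+* B'')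
    (θ : B →+* B'') (h : ∀ b, θ b = ψ (φ b)) (c : I →₀ B) : cmap ψ (cmap φ c) = cmap θ c := by
  ext i
  simp [cmap, h]

/-- Membership in the span of the image of relations is stable under pushing forward. -/
theorem cmap_mem_span {B B' B'' : Type u} [CommRing B] [CommRing B'] [CommRing B''] (φ : B →+* B')
    (ψ : B' →+* B'') (θ : B →+* B'') (h : ∀ b, θ b = ψ (φ b)) {K : Set (I →₀ B)} {c : I →₀ B'}
    (hc : c ∈ Submodule.span B' (cmap φ '' K)) : cmap ψ c ∈ Submodule.span B'' (cmap θ '' K) := by
  induction hc using Submodule.span_induction with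
  | mem x hx =>
    obtain ⟨k, hk, rfl⟩ := hx
    rw [cmap_cmap φ ψ θ h]
    exact Submodule.subset_span ⟨k, hk, rfl⟩
  | zero => rw [cmap_zero]; exact zero_mem _
  | add x y _ _ hx hy => rw [cmap_add]; exact add_mem hx hy
  | smul a x _ hx => rw [cmap_smul]; exact Submodule.smul_mem _ _ hx

variable (K : Submodule A (I →₀ A))

/-- The map from scalar families to the base change of a quotient of a free module. -/
noncomputable def tmq : (I →₀ C) →ₗ[C] C ⊗[A] ((I →₀ A) ⧸ K) :=
  Finsupp.linearCombination C fun i => (1 : C) ⊗ₜ[A] K.mkQ (Finsupp.single i 1)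

theorem tmq_cmap (x : I →₀ A) : tmq C K (cmap (algebraMap A C) x) = (1 : C) ⊗ₜ[A] K.mkQ x := by
  induction x using Finsupp.induction_linear with
  | zero => simp [cmap_zero]
  | add x y hx hy => simp [cmap_add, tmul_add, map_add, hx, hy]
  | single i a =>
    rw [cmap_single, tmq, Finsupp.linearCombination_single]
    have : Finsupp.single i a = a • Finsupp.single i (1 : A) := by simp
    conv_rhs => rw [this, map_smul, tmul_smul]
    rw [algebraMap_smul]

theorem rTensor_tmq {C' : Type u} [CommRing C'] [Algebra A C'] (φ : C →ₐ[A] C') (c : I →₀ C) :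
    LinearMap.rTensor ((I →₀ A) ⧸ K) φ.toLinearMap (tmq C K c) = tmq C' K (cmap φ.toRingHom c) := by
  induction c using Finsupp.induction_linear with
  | zero => simp [cmap_zero]
  | add x y hx hy => simp [cmap_add, map_add, hx, hy]
  | single i a =>
    rw [cmap_single, tmq, tmq, Finsupp.linearCombination_single, Finsupp.linearCombination_single,
      smul_tmul', smul_tmul', LinearMap.rTensor_tmul]
    simp

theorem tmq_eq_zero_iff (c : I →₀ C) :
    tmq C K c = 0 ↔ c ∈ Submodule.span C (cmap (algebraMap A C) '' (K : Set (I →₀ A))) := by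
  constructor
  · intro h
    let P := Submodule.span C (cmap (algebraMap A C) '' (K : Set (I →₀ A)))
    let f : (I →₀ A) →ₗ[A] (I →₀ C) ⧸ P :=
      (P.mkQ.restrictScalars A).comp
        { toFun := cmap (algebraMap A C)
          map_add' := cmap_add _
          map_smul' := fun a x => by rw [cmap_smul, RingHom.id_apply, algebraMap_smul] }
    let g : (I →₀ A) ⧸ K →ₗ[A] (I →₀ C) ⧸ P := K.liftQ f fun x hx =>
      (Submodule.Quotient.mk_eq_zero P).2 (Submodule.subset_span ⟨x, hx, rfl⟩)
    have key : (LinearMap.liftBaseChange C g).comp (tmq C K) = P.mkQ := by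
      refine Finsupp.lhom_ext fun i a => ?_
      rw [LinearMap.comp_apply, tmq, Finsupp.linearCombination_single, map_smul, LinearMap.liftBaseChange_tmul,
        one_smul, Submodule.mkQ_apply]
      change a • P.mkQ (cmap (algebraMap A C) (Finsupp.single i 1)) = P.mkQ (Finsupp.single i a)
      rw [cmap_single, map_one, ← map_smul, Finsupp.smul_single_one]
    have := LinearMap.congr_fun key c
    rw [LinearMap.comp_apply, h, map_zero] at this
    exact (Submodule.Quotient.mk_eq_zero P).1 this.symm
  · intro hc
    induction hc using Submodule.span_induction with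
    | mem x hx =>
      obtain ⟨k, hk, rfl⟩ := hx
      rw [tmq_cmap, Submodule.mkQ_apply, (Submodule.Quotient.mk_eq_zero K).2 hk, tmul_zero]
    | zero => simp
    | add x y _ _ hx hy => simp [hx, hy]
    | smul a x _ hx => simp [hx]

omit [CommRing C] [Algebra A C] in
/-- Two families whose pushforwards to the pushout differ by relations give compatible elements. -/
theorem tmq_compat {B B' W : Type u} [CommRing B] [CommRing B'] [CommRing W] [Algebra A B] [Algebra A B']
    (p : B →+* W) (q : B' →+* W)
    (h : IsPushout (CommRingCat.ofHom (algebraMap A B)) (CommRingCat.ofHom (algebraMap A B'))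
      (CommRingCat.ofHom p) (CommRingCat.ofHom q))
    (c : I →₀ B) (c' : I →₀ B')
    (hc : cmap q c' - cmap p c ∈ Submodule.span W (cmap (p.comp (algebraMap A B)) '' (K : Set (I →₀ A)))) :
    (1 : B) ⊗ₜ[A] tmq B' K c' =
      LinearMap.lTensor B (TensorProduct.mk A B' ((I →₀ A) ⧸ K) 1) (tmq B K c) := by
  let _ : Algebra A W := (p.comp (algebraMap A B)).toAlgebra
  let pa : B →ₐ[A] W := { p with commutes' := fun a => rfl }
  let qa : B' →ₐ[A] W :=
    { q with commutes' := fun a => (congr($(h.w) a) : p (algebraMap A B a) = q (algebraMap A B' a)).symm }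
  let eI := (CommRingCat.isPushout_tensorProduct A B B').isoIsPushout _ _ h
  have hl : ∀ b, eI.hom.hom (b ⊗ₜ[A] (1 : B')) = p b := fun b =>
    congr($((CommRingCat.isPushout_tensorProduct A B B').inl_isoIsPushout_hom _ _ h) b)
  have hr : ∀ b, eI.hom.hom ((1 : B) ⊗ₜ[A] b) = q b := fun b =>
    congr($((CommRingCat.isPushout_tensorProduct A B B').inr_isoIsPushout_hom _ _ h) b)
  let e : B ⊗[A] B' ≃ₐ[A] W :=
    AlgEquiv.ofRingEquiv (f := eI.commRingCatIsoToRingEquiv) (fun a => hl (algebraMap A B a))
  let N := (I →₀ A) ⧸ K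
  let Θ : B ⊗[A] (B' ⊗[A] N) ≃ₗ[A] W ⊗[A] N :=
    (TensorProduct.assoc A B B' N).symm ≪≫ₗ TensorProduct.congr e.toLinearEquiv (LinearEquiv.refl A N)
  have h1 : ∀ y, Θ ((1 : B) ⊗ₜ[A] y) = LinearMap.rTensor N qa.toLinearMap y := fun y => by
    induction y using TensorProduct.induction_on with
    | zero => simp
    | add a b ha hb => simp only [tmul_add, map_add, ha, hb]
    | tmul b n => exact congrArg (fun w => w ⊗ₜ[A] n) (hr b)
  have h2 : ∀ y, Θ (LinearMap.lTensor B (TensorProduct.mk A B' N 1) y) =
      LinearMap.rTensor N pa.toLinearMap y := fun y => by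
    induction y using TensorProduct.induction_on with
    | zero => simp
    | add a b ha hb => simp only [map_add, ha, hb]
    | tmul b n => exact congrArg (fun w => w ⊗ₜ[A] n) (hl b)
  apply Θ.injective
  rw [h1, h2, rTensor_tmq, rTensor_tmq, ← sub_eq_zero, ← map_sub, tmq_eq_zero_iff]
  exact hc

end Groth.Agent.AlgSpQC
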