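import Groth.Agent.AlgSpQC.Base
import Groth.Agent.AlgSpQC.Descent
import Groth.Agent.AlgSpQC.Quot

/-!
# Presented modules on affine objects

A module presented by sections over an object is, on affine objects, generated by these sections with relations
coming from the base.
-/

universe u

open CategoryTheory CategoryTheory.Limits AlgebraicGeometry Opposite TensorProduct

set_option backward.isDefEq.respectTransparency false
set_option autoImplicit false

namespace Groth.Agent.AlgSpQC

open _root_.AlgSp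

variable {S : Scheme.{u}} {X : Sp S} {M : ModEt X} {I : Type (u + 1)}

/-- Restriction of a family of sections. -/
noncomputable abbrev sr {E E' : EtOver X} (g : E' ⟶ E) (s : I → sectModEt M E) : I → sectModEt M E' :=
  fun i => rs M g (s i)

/-- Linear combinations of sections. -/
noncomputable abbrev lc {E : EtOver X} (s : I → sectModEt M E) : (I →₀ gr E) →ₗ[gr E] sectModEt M E :=
  Finsupp.linearCombination (gr E) s

/-- The relations of the base pushed forward. -/
noncomputable abbrev relSpan {E E' : EtOver X} (g : E' ⟶ E) (s : I → sectModEt M E) :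
    Submodule (gr E') (I →₀ gr E') :=
  Submodule.span (gr E') (cmap (gm g) '' (LinearMap.ker (lc s) : Set (I →₀ gr E)))

theorem sr_sr {E E' E'' : EtOver X} (g : E' ⟶ E) (h : E'' ⟶ E') (s : I → sectModEt M E) :
    sr h (sr g s) = sr (h ≫ g) s :=
  funext fun _ => (rs_comp g h _).symm

theorem rs_lc {E E' : EtOver X} (g : E' ⟶ E) (s : I → sectModEt M E) (c : I →₀ gr E) :
    rs M g (lc s c) = lc (sr g s) (cmap (gm g) c) := by
  induction c using Finsupp.induction_linear with
  | zero => simp [cmap_zero]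
  | add x y hx hy => simp [cmap_add, map_add, hx, hy]
  | single i a =>
    rw [cmap_single, Finsupp.linearCombination_single, Finsupp.linearCombination_single, rs_smul]

theorem lc_eq_zero_of_mem_relSpan {E E' : EtOver X} (g : E' ⟶ E) (s : I → sectModEt M E) {c : I →₀ gr E'}
    (hc : c ∈ relSpan g s) : lc (sr g s) c = 0 := by
  refine LinearMap.mem_ker.1 (Submodule.span_le.2 ?_ hc)
  rintro _ ⟨k, hk, rfl⟩
  rw [SetLike.mem_coe, LinearMap.mem_ker, ← rs_lc, LinearMap.mem_ker.1 hk, map_zero]

/-- Sections `s` present `M` over `E`: they generate locally and their local relations come from relations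
over `E`. -/
structure Pres {E : EtOver X} (s : I → sectModEt M E) : Prop where
  gen : ∀ (E' : EtOver X) (g : E' ⟶ E) (m : sectModEt M E'), ∃ T ∈ etTop X E', ∀ (V : EtOver X) (h : V ⟶ E'),
    T h → rs M h m ∈ Submodule.span (gr V) (Set.range (sr (h ≫ g) s))
  rel : ∀ (E' : EtOver X) (g : E' ⟶ E) (c : I →₀ gr E'), lc (sr g s) c = 0 →
    ∃ T ∈ etTop X E', ∀ (V : EtOver X) (h : V ⟶ E'), T h → cmap (gm h) c ∈ relSpan (h ≫ g) s

theorem Pres.restrict {E E₁ : EtOver X} {s : I → sectModEt M E} (hs : Pres s) (g₁ : E₁ ⟶ E) :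
    Pres (sr g₁ s) := by
  refine ⟨fun E' g m => ?_, fun E' g c hc => ?_⟩
  · obtain ⟨T, hT, h⟩ := hs.gen E' (g ≫ g₁) m
    exact ⟨T, hT, fun V f hf => by rw [sr_sr, Category.assoc]; exact h V f hf⟩
  · rw [sr_sr] at hc
    obtain ⟨T, hT, h⟩ := hs.rel E' (g ≫ g₁) c hc
    refine ⟨T, hT, fun V f hf => ?_⟩
    refine Submodule.span_le.2 ?_ (h V f hf)
    rintro _ ⟨k, hk, rfl⟩
    refine Submodule.subset_span ⟨cmap (gm g₁) k, ?_, cmap_cmap _ _ _ (fun b => ?_) k⟩
    · rw [SetLike.mem_coe, LinearMap.mem_ker, ← rs_lc, LinearMap.mem_ker.1 hk, map_zero]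
    · rw [← gm_comp, Category.assoc]

variable {E : EtOver X} {s : I → sectModEt M E}

/-- A family of scalars which is locally in the span of pushed forward vectors is in their span, on affine objects. -/
theorem mem_span_of_local {E' : EtOver X} [IsAffine E'.obj.left.left] (g : E' ⟶ E) (K₀ : Set (I →₀ gr E))
    {c : I →₀ gr E'} {T : Sieve E'} (hT : T ∈ etTop X E')
    (h : ∀ (V : EtOver X) (f : V ⟶ E'), T f →
      cmap (gm f) c ∈ Submodule.span (gr V) (cmap (gm (f ≫ g)) '' K₀)) :
    c ∈ Submodule.span (gr E') (cmap (gm g) '' K₀) := by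
  obtain ⟨κ, _, V, f, hV, hTf, hf⟩ := exists_affine_family hT
  let K := Submodule.span (gr E') (cmap (gm g) '' K₀)
  have h0 : K.mkQ c = 0 := by
    let _ : ∀ k, Algebra (gr E') (gr (V k)) := fun k => (gm (f k)).toAlgebra
    have : ∀ k, Module.Flat (gr E') (gr (V k)) := fun k => have := hV k; flat_gm (f k)
    refine eq_zero_of_jointly (fun k => gr (V k)) (exists_prime_comap f hV hf) _ fun k => ?_
    have hm := (tmq_eq_zero_iff (gr (V k)) K (cmap (gm (f k)) c)).2 (by
      refine Submodule.span_le.2 ?_ (h _ _ (hTf k))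
      rintro _ ⟨x, hx, rfl⟩
      refine Submodule.subset_span ⟨cmap (gm g) x, Submodule.subset_span ⟨x, hx, rfl⟩, ?_⟩
      exact cmap_cmap _ _ _ (fun b => gm_comp g (f k) b) x)
    exact (tmq_cmap (gr (V k)) K c).symm.trans hm
  exact (Submodule.Quotient.mk_eq_zero K).1 h0

/-- On affine objects the relations are generated by relations of the base. -/
theorem Pres.mem_relSpan (hs : Pres s) {E' : EtOver X} [IsAffine E'.obj.left.left] (g : E' ⟶ E)
    {c : I →₀ gr E'} (hc : lc (sr g s) c = 0) : c ∈ relSpan g s := by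
  obtain ⟨T, hT, h⟩ := hs.rel E' g c hc
  exact mem_span_of_local g _ hT h

/-- Lifts of a section over two affine objects agree on their fibre product. -/
theorem Pres.compat (hs : Pres s) [IsAffine E.obj.left.left] {V V' : EtOver X} [IsAffine V.obj.left.left]
    [IsAffine V'.obj.left.left] (f : V ⟶ E) (f' : V' ⟶ E) (m : sectModEt M E) (c : I →₀ gr V) (c' : I →₀ gr V')
    (hc : lc (sr f s) c = rs M f m) (hc' : lc (sr f' s) c' = rs M f' m) :
    letI := (gm f).toAlgebra
    letI := (gm f').toAlgebra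
    (1 : gr V) ⊗ₜ[gr E] tmq (gr V') (LinearMap.ker (lc s)) c' =
      LinearMap.lTensor (gr V) (TensorProduct.mk (gr E) (gr V') ((I →₀ gr E) ⧸ LinearMap.ker (lc s)) 1)
        (tmq (gr V) (LinearMap.ker (lc s)) c) := by
  have hov := exists_overlap f f'
  revert hov
  refine fun ⟨W, p, q, hW, hpq, hpush, _⟩ => ?_
  let _ := (gm f).toAlgebra
  let _ := (gm f').toAlgebra
  refine tmq_compat (LinearMap.ker (lc s)) (gm p) (gm q) hpush c c' ?_
  have e : (gm p).comp (algebraMap (gr E) (gr V)) = gm (p ≫ f) := RingHom.ext fun a => (gm_comp f p a).symm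
  rw [e]
  refine hs.mem_relSpan (p ≫ f) ?_
  rw [map_sub, sub_eq_zero]
  refine Eq.trans (b := rs M (p ≫ f) m) ?_ ?_
  · rw [hpq, ← sr_sr, ← rs_lc, hc', ← rs_comp]
  · rw [← sr_sr, ← rs_lc, hc, ← rs_comp]

/-- On affine objects the sections generate. -/
theorem Pres.exists_lc_eq [hE : IsAffine E.obj.left.left] (hs : Pres s) (m : sectModEt M E) :
    ∃ c, lc s c = m := by
  obtain ⟨T, hT, h⟩ := hs.gen E (𝟙 E) m
  obtain ⟨κ, _, V, f, hV, hTf, hf⟩ := exists_affine_family hT
  have hc : ∀ k, ∃ c : I →₀ gr (V k), lc (sr (f k) s) c = rs M (f k) m := fun k => by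
    have := h _ _ (hTf k)
    rw [Category.comp_id, Finsupp.mem_span_range_iff_exists_finsupp] at this
    obtain ⟨c, hc⟩ := this
    exact ⟨c, (Finsupp.linearCombination_apply _ _).trans hc⟩
  choose c hc using hc
  let K := LinearMap.ker (lc s)
  let _ : ∀ k, Algebra (gr E) (gr (V k)) := fun k => (gm (f k)).toAlgebra
  have : ∀ k, Module.Flat (gr E) (gr (V k)) := fun k => have := hV k; flat_gm (f k)
  obtain ⟨x, hx⟩ := exists_glue (fun k => gr (V k)) (exists_prime_comap f hV hf)
    (fun k => tmq (gr (V k)) K (c k)) (fun k l =>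
      have := hV k
      have := hV l
      hs.compat (f k) (f l) m (c k) (c l) (hc k) (hc l))
  obtain ⟨c₀, rfl⟩ := K.mkQ_surjective x
  refine ⟨c₀, eq_of_family f hf fun k => ?_⟩
  have h' : tmq (gr (V k)) K (cmap (gm (f k)) c₀ - c k) = 0 := by
    rw [map_sub, sub_eq_zero]
    exact (tmq_cmap (gr (V k)) K c₀).trans (hx k)
  have h'' := lc_eq_zero_of_mem_relSpan (f k) s ((tmq_eq_zero_iff _ _ _).1 h')
  rw [map_sub, sub_eq_zero] at h''
  rw [rs_lc, h'', hc]

theorem Pres.exists_lc_eq' (hs : Pres s) {E' : EtOver X} [IsAffine E'.obj.left.left] (g : E' ⟶ E)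
    (m : sectModEt M E') : ∃ c, lc (sr g s) c = m :=
  (hs.restrict g).exists_lc_eq m

end Groth.Agent.AlgSpQC
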