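import Groth.Agent.AlgSpQC.PullTransport

/-!
# Charts of the source lying over affine charts of the base
-/

universe u

open CategoryTheory CategoryTheory.Limits AlgebraicGeometry Opposite TensorProduct

set_option backward.isDefEq.respectTransparency false
set_option backward.isDefEq.respectTransparency.types false
set_option autoImplicit false

namespace Groth.Agent.AlgSpQC

open _root_.AlgSp

variable {S : Scheme.{u}} {X Y : Space S} {f : X.obj ⟶ Y.obj} (hf : Representable f)

/-- Every object of the source is covered by affine objects mapping to base changes of affine charts. -/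
theorem exists_chart (Z : EtOver X.obj) (z : Z.obj.left.left) :
    ∃ (Z' : EtOver X.obj) (l : Z' ⟶ Z) (E : EtOver Y.obj) (_ : Z' ⟶ bcO hf E),
      IsAffine Z'.obj.left.left ∧ IsAffine E.obj.left.left ∧ z ∈ Set.range l.hom.left.left := by
  obtain ⟨U, p, hp, hs⟩ := Y.property.atlas
  let E₀ : EtOver Y.obj := EtOver.mk p hp
  let g : (yon S).obj Z.obj.left ⟶ Y.obj := Z.obj.hom ≫ f
  have sq := hp.1.isPullback g
  have hq₁ : Surjective (hp.1.snd g).left := hs.2 g _ _ sq
  have hq₂ : Etale (hp.1.snd g).left := hp.2 g _ _ sq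
  obtain ⟨w, hw⟩ := (hp.1.snd g).left.surjective z
  let Z₀ : EtOver X.obj := EtOver.mk ((yon S).map (hp.1.snd g) ≫ Z.obj.hom)
    ((RepWith _).comp_mem _ _ ((repWith_yon_map_iff _ _).2 hq₂) Z.property)
  let l₀ : Z₀ ⟶ Z := EtOver.homMk (hp.1.snd g) rfl
  let m : Z₀.obj.left ⟶ E₀.obj.left := hp.1.fst' g
  have hm : Z₀.obj.hom ≫ f = (yon S).map m ≫ E₀.obj.hom := by
    change ((yon S).map (hp.1.snd g) ≫ Z.obj.hom) ≫ f = (yon S).map (hp.1.fst' g) ≫ p
    rw [Functor.relativelyRepresentable.map_fst', hp.1.w, Category.assoc]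
  let L : Z₀ ⟶ bcO hf E₀ := EtOver.homMk (hf.lift Z₀.obj.hom m hm) (hf.lift_fst _ _ _)
  obtain ⟨Z', l, W', ι, k, hZ', hW', -, w', hw'⟩ := exists_through L w
  refine ⟨Z', l ≫ l₀, W', k, hZ', hW', w', ?_⟩
  rw [← hw, ← hw']
  rfl

/-- The affine objects lying over affine charts cover. -/
theorem coversTop_charts :
    (etTop X.obj).CoversTop fun i : {V : EtOver X.obj // IsAffine V.obj.left.left ∧
      ∃ (E : EtOver Y.obj) (_ : IsAffine E.obj.left.left), Nonempty (V ⟶ bcO hf E)} => i.1 := by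
  intro Z
  choose Z' l E k hZ' hE hz using exists_chart hf Z
  refine GrothendieckTopology.superset_covering _ ?_
    (AlgSp.ofArrows_mem_etTop Z' l fun z => ⟨z, hz z⟩)
  rw [Sieve.generate_le_iff]
  rintro V h ⟨z⟩
  exact (Sieve.mem_ofObjects_iff ..).2 ⟨⟨Z' z, hZ' z, E z, hE z, ⟨k z⟩⟩, ⟨𝟙 _⟩⟩

end Groth.Agent.AlgSpQC
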