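import Groth.Agent.AlgSpQC.ClosedImm

/-!
# The counit of the inverse image along a closed immersion
-/

universe u

open CategoryTheory CategoryTheory.Limits AlgebraicGeometry Opposite TensorProduct

set_option backward.isDefEq.respectTransparency false
set_option backward.isDefEq.respectTransparency.types false
set_option autoImplicit false

namespace Groth.Agent.AlgSpQC

open _root_.AlgSp

variable {S : Scheme.{u}}

section Bij

variable {X : Space S} {M N : ModEt X.obj}

/-- Bijectivity on sections over affine objects descends from base. -/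
theorem bijective_hs_of_bc [M.IsQuasicoherent] [N.IsQuasicoherent] (φ : M ⟶ N) {E W : EtOver X.obj}
    [IsAffine E.obj.left.left] [IsAffine W.obj.left.left] (g : W ⟶ E) (h : Function.Bijective (hs φ E)) :
    Function.Bijective (hs φ W) := by
  let _ := (gm g).toAlgebra
  have hM := (isBC_iff (A := gr E) (rs M g) (rs_smul g)).1 (bc_of_isQuasicoherent g)
  have hN := (isBC_iff (A := gr E) (rs N g) (rs_smul g)).1 (bc_of_isQuasicoherent g)
  let e : sectModEt M E ≃ₗ[gr E] sectModEt N E := LinearEquiv.ofBijective (hs φ E) h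
  have key : ∀ x, hs φ W (bc (rs M g) (rs_smul g) x) =
      bc (rs N g) (rs_smul g) (TensorProduct.AlgebraTensorModule.congr (LinearEquiv.refl (gr W) (gr W)) e x) :=
    fun x => by
    induction x using TensorProduct.induction_on with
    | zero => simp only [map_zero]
    | add x y hx hy => simp only [map_add, hx, hy]
    | tmul r k => rw [bc_tmul, map_smul, hs_rs, TensorProduct.AlgebraTensorModule.congr_tmul, bc_tmul]; rfl
  refine (Function.Bijective.of_comp_iff (hs φ W) hM).1 ?_
  rw [show hs φ W ∘ bc (rs M g) (rs_smul g) = _ from funext key]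
  exact hN.comp (TensorProduct.AlgebraTensorModule.congr (LinearEquiv.refl (gr W) (gr W)) e).bijective

/-- A map bijective on the affine objects of a covering class is bijective on sections. -/
theorem bijective_hs_of_local (φ : M ⟶ N) (P : EtOver X.obj → Prop)
    (hP : ∀ (W : EtOver X.obj) (w : W.obj.left.left), ∃ (W' : EtOver X.obj) (l : W' ⟶ W),
      P W' ∧ w ∈ Set.range l.hom.left.left)
    (h : ∀ W, P W → Function.Bijective (hs φ W)) (W : EtOver X.obj) : Function.Bijective (hs φ W) := by
  have hinj : ∀ W : EtOver X.obj, Function.Injective (hs φ W) := fun W x y e => by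
    choose W' l hW' hl using hP W
    refine eq_of_family l (fun w => ⟨w, hl w⟩) fun w => (h _ (hW' w)).1 ?_
    rw [hs_rs, hs_rs, e]
  refine ⟨hinj W, fun n => ?_⟩
  choose W' l hW' hl using hP W
  choose y hy using fun w => (h _ (hW' w)).2 (rs N (l w) n)
  obtain ⟨x, hx⟩ := exists_glue_sections (M := M) l (fun w => ⟨w, hl w⟩) y fun i j Z a b e => hinj Z (by
    rw [hs_rs, hs_rs, hy, hy, ← rs_comp, ← rs_comp, e])
  exact ⟨x, eq_of_family l (fun w => ⟨w, hl w⟩) fun w => by rw [← hs_rs, hx, hy]⟩

end Bij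

variable {Z X : Space S} {i : Z.obj ⟶ X.obj} (hi : RepWith @IsClosedImmersion i)

theorem exists_counit_iso (G : ModEt Z.obj) [G.IsQuasicoherent] :
    haveI := isQuasicoherent_push_affine (hf := hi.1) (isAffineMor_of_isFiniteMor (isFiniteMor_of_closedImm hi)) G
    ∃ e : pullQC hi.1 ((pushModEt hi.1).obj G) ≅ G,
      pullUnit hi.1 ((pushModEt hi.1).obj G) ≫ (pushModEt hi.1).map e.hom = 𝟙 _ := by
  have hq := isQuasicoherent_push_affine (hf := hi.1) (isAffineMor_of_isFiniteMor (isFiniteMor_of_closedImm hi)) G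
  have := isQuasicoherent_pullQC hi.1 ((pushModEt hi.1).obj G)
  obtain ⟨c, hc⟩ := exists_pullDesc (G := (pushModEt hi.1).obj G) (𝟙 ((pushModEt hi.1).obj G))
  have : IsIso c := isIso_of_bijective_affine c fun W _ => by
    refine bijective_hs_of_local c (fun W => IsAffine W.obj.left.left ∧ ∃ (E : EtOver X.obj)
      (_ : IsAffine E.obj.left.left), Nonempty (W ⟶ bcO hi.1 E)) (fun W w => ?_) (fun W hW => ?_) W
    · obtain ⟨W', l, E, k, hW', hE, hw⟩ := exists_chart hi.1 W w
      exact ⟨W', l, ⟨hW', E, hE, ⟨k⟩⟩, hw⟩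
    obtain ⟨hWa, E, hE, ⟨k⟩⟩ := hW
    have := isAffine_bcO_and_map (hf := hi.1) (isAffineMor_of_isFiniteMor (isFiniteMor_of_closedImm hi)) E
    refine bijective_hs_of_bc c k ?_
    let P := (pushModEt hi.1).obj G
    let h : bcO hi.1 E ⟶ bcO hi.1 E := 𝟙 _
    let υ : sectModEt P E → sectModEt (pullQC hi.1 P) (bcO hi.1 E) :=
      fun n => pushSect hi.1 (pullQC hi.1 P) E (hs (pullUnit hi.1 P) E n)
    have hυ : ∀ n, hs c (bcO hi.1 E) (υ n) = pushSect hi.1 G E n := fun n =>
      congrArg (fun t : P ⟶ P => pushSect hi.1 G E (hs t E n)) hc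
    have hev : ∀ n, pullEv P h (υ n) = tm h 1 n := fun n => by
      rw [← pullEv_unit (G := P) h n, rs_id]
    have hsurj : ∀ x, ∃ n, υ n = x := fun x => by
      suffices ∀ t : PT P h, ∃ n, tm h 1 n = t by
        obtain ⟨n, hn⟩ := this (pullEv P h x)
        exact ⟨n, (bijective_pullEv h).1 ((hev n).trans hn)⟩
      intro t
      induction t using PT.induction with
      | zero => exact ⟨0, TensorProduct.tmul_zero _ (show RZ h from 1)⟩
      | tm r n =>
        obtain ⟨a, rfl⟩ := surjective_gπ hi E r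
        exact ⟨a • n, (tm_smul a 1 n).symm.trans (by rw [mul_one]; rfl)⟩
      | add x y hx hy =>
        obtain ⟨a, rfl⟩ := hx
        obtain ⟨b, rfl⟩ := hy
        exact ⟨a + b, tm_add_right 1 a b⟩
    refine ⟨fun x y e => ?_, fun g => ⟨υ ((pushSect hi.1 G E).symm g), by rw [hυ, AddEquiv.apply_symm_apply]⟩⟩
    obtain ⟨n, rfl⟩ := hsurj x
    obtain ⟨m, rfl⟩ := hsurj y
    rw [hυ, hυ] at e
    rw [(pushSect hi.1 G E).injective e]
  exact ⟨asIso c, hc⟩

variable {G' G : ModEt Z.obj} [G'.IsQuasicoherent]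

include hi in
theorem bijective_push_map :
    Function.Bijective ((pushModEt hi.1).map : (G' ⟶ G) → _) := by
  have hq := isQuasicoherent_push_affine (hf := hi.1) (isAffineMor_of_isFiniteMor (isFiniteMor_of_closedImm hi)) G'
  obtain ⟨e, he⟩ := exists_counit_iso hi G'
  refine ⟨fun φ φ' h => (cancel_epi e.hom).1 (pullDesc_unique ?_), fun ψ => ?_⟩
  · rw [Functor.map_comp, Functor.map_comp, h]
  · obtain ⟨φ', hφ'⟩ := exists_pullDesc (G := (pushModEt hi.1).obj G') ψ
    refine ⟨e.inv ≫ φ', ?_⟩
    have hinv : (pushModEt hi.1).map e.inv = pullUnit hi.1 ((pushModEt hi.1).obj G') := by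
      calc (pushModEt hi.1).map e.inv
          = (pullUnit hi.1 ((pushModEt hi.1).obj G') ≫ (pushModEt hi.1).map e.hom) ≫ (pushModEt hi.1).map e.inv := by
            rw [he, Category.id_comp]
        _ = pullUnit hi.1 ((pushModEt hi.1).obj G') := by
            rw [Category.assoc, ← Functor.map_comp, e.hom_inv_id, CategoryTheory.Functor.map_id, Category.comp_id]
    rw [Functor.map_comp, hinv, hφ']

end Groth.Agent.AlgSpQC
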