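import Groth.Agent.AlgSpQC.PullTensor
import Groth.Agent.AlgSpQC.Descent

/-!
# The tensors satisfy descent on affine covers
-/

universe u

open CategoryTheory CategoryTheory.Limits AlgebraicGeometry Opposite TensorProduct

set_option backward.isDefEq.respectTransparency false
set_option backward.isDefEq.respectTransparency.types false
set_option autoImplicit false

namespace Groth.Agent.AlgSpQC

open _root_.AlgSp

variable {S : Scheme.{u}} {X Y : Sp S} {f : X ⟶ Y} {hf : Representable f} {G : ModEt Y}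
  {Z Z' : EtOver X} {E : EtOver Y} {h : Z ⟶ bcO hf E}

theorem compat_id {h' : Z' ⟶ bcO hf E} (l : Z' ⟶ Z) (w : h' = l ≫ h) : h' ≫ bcM hf (𝟙 E) = l ≫ h := by
  subst w
  change (l ≫ h) ≫ (EtOver.bc hf).map (𝟙 E) = _
  rw [CategoryTheory.Functor.map_id, Category.comp_id]

variable (G) in
/-- Restriction of tensors along a map of objects over the base change. -/
noncomputable abbrev μr {h' : Z' ⟶ bcO hf E} (l : Z' ⟶ Z) (w : h' = l ≫ h) : PT G h →+ PT G h' :=
  μ G h h' l (𝟙 E) (compat_id l w)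

theorem μr_smul {h' : Z' ⟶ bcO hf E} (l : Z' ⟶ Z) (w : h' = l ≫ h) (a : gr Z) (x : PT G h) :
    μr G l w (a • x) = gm l a • μr G l w x :=
  μ_smul _ _ _ a x

theorem μr_comp {Z'' : EtOver X} {h' : Z' ⟶ bcO hf E} {h'' : Z'' ⟶ bcO hf E} (l : Z' ⟶ Z) (w : h' = l ≫ h)
    (l' : Z'' ⟶ Z') (w' : h'' = l' ≫ h') {w'' : h'' = (l' ≫ l) ≫ h} (x : PT G h) :
    μr G l' w' (μr G l w x) = μr G (l' ≫ l) w'' x := by
  induction x using PT.induction with
  | zero => rw [map_zero, map_zero, map_zero]
  | tm r n => rw [μr, μr, μr, μ_tm, μ_tm, μ_tm, gm_comp, rs_id, rs_id]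
  | add x y hx hy => rw [map_add, map_add, map_add, hx, hy]

/-- Tensors restrict by extension of functions. -/
theorem bijective_bc_μr {h' : Z' ⟶ bcO hf E} (l : Z' ⟶ Z) (w : h' = l ≫ h) :
    letI := (gm l).toAlgebra
    Function.Bijective (bc (μr G l w) (μr_smul l w)) := by
  let _ := (gm l).toAlgebra
  obtain ⟨Ψ, hΨ⟩ := exists_lift (G := G) (h := h') (L := gr Z' ⊗[gr Z] PT G h)
    (fun r n => r ⊗ₜ[gr Z] tm h 1 n) (fun r r' n => TensorProduct.add_tmul _ _ _)
    (fun r n n' => by rw [tm_add_right, TensorProduct.tmul_add]) fun a r n => by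
      rw [← tm_smul, mul_one, show tm h (gm h (gπ hf E a)) n = gm h (gπ hf E a) • tm h 1 n by rw [smul_tm, mul_one],
        ← TensorProduct.smul_tmul]
      congr 1
      change gm h' (gπ hf E a) * r = gm l (gm h (gπ hf E a)) * r
      rw [w, gm_comp]
  refine Function.bijective_iff_has_inverse.2 ⟨Ψ, fun z => ?_, fun x => ?_⟩
  · induction z using TensorProduct.induction_on with
    | zero => simp
    | add x y hx hy => rw [map_add, map_add, hx, hy]
    | tmul c x =>
      induction x using PT.induction with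
      | zero => simp
      | tm r n =>
        rw [bc_tmul, μr, μ_tm, smul_tm, hΨ, rs_id]
        rw [show tm h r n = r • tm h 1 n by rw [smul_tm, mul_one], ← TensorProduct.smul_tmul]
        congr 1
        exact mul_comm c (gm l r)
      | add x y hx hy => rw [TensorProduct.tmul_add, map_add, map_add, hx, hy]
  · induction x using PT.induction with
    | zero => simp
    | tm r n => rw [hΨ, bc_tmul, μr, μ_tm, smul_tm, map_one, mul_one, rs_id]
    | add x y hx hy => rw [map_add, map_add, hx, hy]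

/-- Tensors over an object of a cover, extended to an overlap. -/
theorem exists_overlap_bc {V W : EtOver X} (m : V ⟶ Z) (q : W ⟶ V) {h' : W ⟶ bcO hf E} (wq : h' = q ≫ m ≫ h) :
    letI := (gm m).toAlgebra
    letI := (gm q).toAlgebra
    ∃ (φ : gr V ⊗[gr Z] PT G h →+ PT G h') (_ : ∀ b z, φ (b • z) = algebraMap (gr V) (gr W) b • φ z),
      IsBC (algebraMap (gr V) (gr W)) φ ∧
        ∀ z, φ z = μr G q wq (bc (μr G m (rfl : m ≫ h = m ≫ h)) (μr_smul _ _) z) := by
  let _ := (gm m).toAlgebra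
  let _ := (gm q).toAlgebra
  let e : gr V ⊗[gr Z] PT G h ≃ₗ[gr V] PT G (m ≫ h) :=
    LinearEquiv.ofBijective _ (bijective_bc_μr (G := G) m (rfl : m ≫ h = m ≫ h))
  let φ : gr V ⊗[gr Z] PT G h →+ PT G h' := (μr G q wq).comp e.toLinearMap.toAddMonoidHom
  have hφs : ∀ b z, φ (b • z) = algebraMap (gr V) (gr W) b • φ z := fun b z =>
    (congrArg (μr G q wq) (map_smul e b z)).trans (μr_smul q wq b (e z))
  refine ⟨φ, hφs, (isBC_iff (A := gr V) φ hφs).2 ?_, fun z => rfl⟩
  have : ∀ z : gr W ⊗[gr V] (gr V ⊗[gr Z] PT G h), bc φ hφs z =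
      bc (μr G q wq) (μr_smul q wq)
        (TensorProduct.AlgebraTensorModule.congr (LinearEquiv.refl (gr W) (gr W)) e z) := fun z => by
    induction z using TensorProduct.induction_on with
    | zero => simp
    | add a b ha hb => simp only [map_add, ha, hb]
    | tmul c z => rfl
  rw [show (bc φ hφs : gr W ⊗[gr V] (gr V ⊗[gr Z] PT G h) → PT G h') = _ from funext this]
  exact (bijective_bc_μr (G := G) q wq).comp
    (TensorProduct.AlgebraTensorModule.congr (LinearEquiv.refl (gr W) (gr W)) e).bijective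

/-- Tensors are separated on affine covers. -/
theorem μr_separated [IsAffine Z.obj.left.left] {κ : Type u} {V : κ → EtOver X} (l : ∀ k, V k ⟶ Z)
    (hV : ∀ k, IsAffine (V k).obj.left.left) (hl : ∀ x : Z.obj.left.left, ∃ k, x ∈ Set.range (l k).hom.left.left)
    {x y : PT G h} (he : ∀ k, μr G (l k) (rfl : l k ≫ h = l k ≫ h) x = μr G (l k) rfl y) : x = y := by
  rw [← sub_eq_zero]
  let _ := fun k => (gm (l k)).toAlgebra
  have : ∀ k, Module.Flat (gr Z) (gr (V k)) := fun k => have := hV k; flat_gm (l k)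
  refine eq_zero_of_jointly (fun k => gr (V k)) (exists_prime_comap l hV hl) _ fun k => ?_
  refine (bijective_bc_μr (G := G) (l k) (rfl : l k ≫ h = l k ≫ h)).1 ?_
  rw [map_zero, bc_tmul, one_smul, map_sub, he, sub_self]

set_option maxHeartbeats 1000000 in
/-- Tensors glue on affine covers. -/
theorem μr_glue [IsAffine Z.obj.left.left] {κ : Type u} [Finite κ] {V : κ → EtOver X} (l : ∀ k, V k ⟶ Z)
    (hV : ∀ k, IsAffine (V k).obj.left.left) (hl : ∀ x : Z.obj.left.left, ∃ k, x ∈ Set.range (l k).hom.left.left)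
    (y : ∀ k, PT G (l k ≫ h))
    (hy : ∀ i j (W : EtOver X) (a : W ⟶ V i) (b : W ⟶ V j) (hab : a ≫ l i = b ≫ l j), IsAffine W.obj.left.left →
      μr G a (Category.assoc a (l i) h) (y i) =
        μr G b ((congrArg (fun t : W ⟶ Z => t ≫ h) hab).trans (Category.assoc b (l j) h)) (y j)) :
    ∃ x : PT G h, ∀ k, μr G (l k) (rfl : l k ≫ h = l k ≫ h) x = y k := by
  let _ := fun k => (gm (l k)).toAlgebra
  have : ∀ k, Module.Flat (gr Z) (gr (V k)) := fun k => have := hV k; flat_gm (l k)
  choose y' hy' using fun k => (bijective_bc_μr (G := G) (l k) (rfl : l k ≫ h = l k ≫ h)).2 (y k)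
  suffices hglue : ∀ i j, (1 : gr (V i)) ⊗ₜ[gr Z] y' j =
      LinearMap.lTensor (gr (V i)) (TensorProduct.mk (gr Z) (gr (V j)) (PT G h) 1) (y' i) by
    obtain ⟨x, hx⟩ := exists_glue (fun k => gr (V k)) (exists_prime_comap l hV hl) y' hglue
    exact ⟨x, fun k => by rw [← hy', ← hx, bc_tmul, one_smul]⟩
  intro i j
  have := hV i
  have := hV j
  obtain ⟨W, p, q, hW, w, hpush, -⟩ := exists_overlap (l i) (l j)
  let _ := (gm p).toAlgebra
  let _ := (gm q).toAlgebra
  let _ := (gm (p ≫ l i)).toAlgebra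
  have : IsScalarTower (gr Z) (gr (V i)) (gr W) := .of_algebraMap_eq (gm_comp (l i) p)
  have : IsScalarTower (gr Z) (gr (V j)) (gr W) := .of_algebraMap_eq fun r => by
    change gm (p ≫ l i) r = gm q (gm (l j) r)
    rw [w, gm_comp]
  have : Algebra.IsPushout (gr Z) (gr (V i)) (gr (V j)) (gr W) := CommRingCat.isPushout_iff_isPushout.1 hpush
  let h' := (p ≫ l i) ≫ h
  let wq : h' = q ≫ l j ≫ h := (congrArg (fun t : W ⟶ Z => t ≫ h) w).trans (Category.assoc q (l j) h)
  obtain ⟨φ, hφs, hφb, hφ⟩ := exists_overlap_bc (G := G) (l j) q (h := h) (h' := h') wq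
  refine (bcPush_bijective (A := gr Z) (B := gr (V i)) φ hφs hφb).1 ?_
  have key : ∀ z, bcPush (A := gr Z) (B := gr (V i)) φ hφs
      (LinearMap.lTensor (gr (V i)) (TensorProduct.mk (gr Z) (gr (V j)) (PT G h) 1) z) =
      μr G p (Category.assoc p (l i) h) (bc (μr G (l i) (rfl : l i ≫ h = l i ≫ h)) (μr_smul _ _) z) := fun z => by
    induction z using TensorProduct.induction_on with
    | zero => simp
    | add a b ha hb => simp only [map_add, ha, hb]
    | tmul c n =>
      rw [LinearMap.lTensor_tmul, bcPush_tmul, bc_tmul, μr_smul]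
      rw [TensorProduct.mk_apply, hφ]
      rw [bc_tmul, one_smul, μr_comp (w'' := (wq.trans (Category.assoc q (l j) h).symm)),
        μr_comp (w'' := (rfl : h' = (p ≫ l i) ≫ h))]
      exact congrArg (gm p c • ·) (μ_congr w.symm rfl _ _ n)
  rw [key, hy', bcPush_tmul, map_one, one_smul, hy i j W p q w hW]
  rw [← hy' j, ← hφ]

end Groth.Agent.AlgSpQC
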