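import Groth.Agent.AlgSpQC.PullChart
import Mathlib.Algebra.Module.Submodule.Basic
import Mathlib.Algebra.Module.Pi

/-!
# Compatible families of tensors over the charts of an object
-/

universe u

open CategoryTheory CategoryTheory.Limits AlgebraicGeometry Opposite TensorProduct

set_option backward.isDefEq.respectTransparency false
set_option backward.isDefEq.respectTransparency.types false
set_option autoImplicit false

namespace Groth.Agent.AlgSpQC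

open _root_.AlgSp

section Compat

variable {S : Scheme.{u}} {X Y : Space S} {f : X.obj ⟶ Y.obj} {hf : Representable f} {G : ModEt Y.obj}
  {Z Z' : EtOver X.obj} {E E' : EtOver Y.obj} {h : Z ⟶ bcO hf E} {h' : Z ⟶ bcO hf E'}
  {x x₂ : PT G h} {y y₂ : PT G h'}

theorem Compat.zero : Compat h h' (0 : PT G h) (0 : PT G h') :=
  fun _ _ _ _ _ _ _ _ _ _ => (map_zero _).trans (map_zero _).symm

theorem Compat.add (c : Compat h h' x y) (c₂ : Compat h h' x₂ y₂) : Compat h h' (x + x₂) (y + y₂) :=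
  fun Z' l W g g' k w w' hZ hW => by
    rw [map_add, map_add, c Z' l W g g' k w w' hZ hW, c₂ Z' l W g g' k w w' hZ hW]

theorem Compat.smul (a : gr Z) (c : Compat h h' x y) : Compat h h' (a • x) (a • y) :=
  fun Z' l W g g' k w w' hZ hW => by rw [μ_smul, μ_smul, c Z' l W g g' k w w' hZ hW]

theorem Compat.eq [G.IsQuasicoherent] [IsAffine Z.obj.left.left] [IsAffine E.obj.left.left] {x' : PT G h}
    (c : Compat h h x x') : x = x' :=
  (compat_self h x).unique c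

theorem Compat.congr_μr {h₂ : Z ⟶ bcO hf E'} {k : Z' ⟶ bcO hf E'} {t : PT G k} (l : Z ⟶ Z') (w : h₂ = l ≫ k)
    (c : Compat h (l ≫ k) x (μr G l rfl t)) : Compat h h₂ x (μr G l w t) := by
  subst w
  exact c

theorem μr_refl (w : h = 𝟙 Z ≫ h) : μr G (𝟙 Z) w x = x :=
  μ_id _ x

/-- Compatibility is local. -/
theorem compat_of_cover [G.IsQuasicoherent] {κ : Type*} {V : κ → EtOver X.obj} (v : ∀ k, V k ⟶ Z)
    (hv : ∀ z : Z.obj.left.left, ∃ k, z ∈ Set.range (v k).hom.left.left)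
    (c : ∀ k, Compat (v k ≫ h) (v k ≫ h') (μr G (v k) rfl x) (μr G (v k) rfl y)) : Compat h h' x y := by
  refine compat_of_local fun z => ?_
  obtain ⟨k, p, hp⟩ := hv z
  obtain ⟨Z₁, l₁, W₁, g, g', k₁, hZ₁, hW₁, w, w', q, hq⟩ := exists_common_ref (v k ≫ h) (v k ≫ h') p
  have w₂ : k₁ ≫ bcM hf g = (l₁ ≫ v k) ≫ h := w.trans (Category.assoc _ _ _).symm
  have w₂' : k₁ ≫ bcM hf g' = (l₁ ≫ v k) ≫ h' := w'.trans (Category.assoc _ _ _).symm
  refine ⟨Z₁, l₁ ≫ v k, W₁, g, g', k₁, w₂, w₂', ⟨q, by rw [← hp, ← hq]; rfl⟩, ?_⟩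
  have e := c k Z₁ l₁ W₁ g g' k₁ w w' hZ₁ hW₁
  rw [μr, μr, μ_comp (w'' := by rw [Category.comp_id]; exact w₂),
    μ_comp (w'' := by rw [Category.comp_id]; exact w₂'), μ_congr rfl (Category.comp_id g) _ w₂,
    μ_congr rfl (Category.comp_id g') _ w₂'] at e
  exact e

end Compat

variable {S : Scheme.{u}} {X Y : Space S} {f : X.obj ⟶ Y.obj} {hf : Representable f}

/-- An affine object over an object of the source, with a map to the base change of an affine chart. -/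
structure PChart (hf : Representable f) (W : EtOver X.obj) : Type (u + 1) where
  Z : EtOver X.obj
  a : Z ⟶ W
  E : EtOver Y.obj
  h : Z ⟶ bcO hf E
  hZ : IsAffine Z.obj.left.left
  hE : IsAffine E.obj.left.left

/-- A chart over an object is a chart over its images. -/
def PChart.comp {W W' : EtOver X.obj} (c : PChart hf W') (g : W' ⟶ W) : PChart hf W :=
  ⟨c.Z, c.a ≫ g, c.E, c.h, c.hZ, c.hE⟩

variable {G : ModEt Y.obj} {W W' W'' : EtOver X.obj}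

noncomputable instance instModulePFam (W : EtOver X.obj) : Module (gr W) (∀ c : PChart hf W, PT G c.h) :=
  Module.compHom _ (RingHom.pi fun c : PChart hf W => gm c.a)

theorem pfam_smul_apply (r : gr W) (x : ∀ c : PChart hf W, PT G c.h) (c : PChart hf W) :
    (r • x) c = gm c.a r • x c := rfl

variable (hf G) in
/-- Families of tensors agreeing on overlaps. -/
noncomputable def Fam (W : EtOver X.obj) : Submodule (gr W) (∀ c : PChart hf W, PT G c.h) where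
  carrier := {x | ∀ (c c' : PChart hf W) (l : c.Z ⟶ c'.Z), l ≫ c'.a = c.a →
    Compat c.h (l ≫ c'.h) (x c) (μr G l rfl (x c'))}
  zero_mem' c c' l _ := by
    simpa only [Pi.zero_apply, map_zero] using Compat.zero
  add_mem' {x y} hx hy c c' l e := by
    simpa only [Pi.add_apply, map_add] using (hx c c' l e).add (hy c c' l e)
  smul_mem' r x hx c c' l e := by
    rw [pfam_smul_apply, pfam_smul_apply, μr_smul]
    have e' : gm l (gm c'.a r) = gm c.a r := by rw [← gm_comp, e]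
    rw [e']
    exact (hx c c' l e).smul _

theorem fam_congr (x : ∀ c : PChart hf W, PT G c.h) {Z : EtOver X.obj} {a a' : Z ⟶ W} {E : EtOver Y.obj}
    (h : Z ⟶ bcO hf E) (hZ : IsAffine Z.obj.left.left) (hE : IsAffine E.obj.left.left) (e : a = a') :
    x ⟨Z, a, E, h, hZ, hE⟩ = x ⟨Z, a', E, h, hZ, hE⟩ := by
  subst e
  rfl

/-- Restriction of families. -/
noncomputable def famRes (g : W' ⟶ W) : Fam hf G W →+ Fam hf G W' where
  toFun x := ⟨fun c => x.1 (c.comp g), fun c c' l e => x.2 (c.comp g) (c'.comp g) l (by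
    change l ≫ c'.a ≫ g = c.a ≫ g
    rw [← Category.assoc, e])⟩
  map_zero' := rfl
  map_add' _ _ := rfl

theorem famRes_id (x : Fam hf G W) : famRes (𝟙 W) x = x :=
  Subtype.ext (funext fun c => fam_congr x.1 c.h c.hZ c.hE (Category.comp_id c.a))

theorem famRes_comp (g : W' ⟶ W) (g' : W'' ⟶ W') (x : Fam hf G W) :
    famRes (g' ≫ g) x = famRes g' (famRes g x) :=
  Subtype.ext (funext fun c => fam_congr x.1 c.h c.hZ c.hE (Category.assoc c.a g' g).symm)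

theorem famRes_smul (g : W' ⟶ W) (r : gr W) (x : Fam hf G W) :
    famRes g (r • x) = gm g r • famRes g x :=
  Subtype.ext (funext fun c => congrArg (· • x.1 (c.comp g)) (gm_comp g c.a r))

/-- Members of a covering family restricted to charts agree on overlaps. -/
theorem fam_eq_of_overlap [G.IsQuasicoherent] {T : Sieve W} (y : ∀ V (v : V ⟶ W), T v → Fam hf G V)
    (hy : ∀ (U V₁ V₂ : EtOver X.obj) (a : U ⟶ V₁) (b : U ⟶ V₂) (v₁ : V₁ ⟶ W) (v₂ : V₂ ⟶ W) (h₁ : T v₁) (h₂ : T v₂),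
      a ≫ v₁ = b ≫ v₂ → famRes a (y V₁ v₁ h₁) = famRes b (y V₂ v₂ h₂))
    {U V₁ V₂ : EtOver X.obj} [hU : IsAffine U.obj.left.left] [hV₁ : IsAffine V₁.obj.left.left]
    [hV₂ : IsAffine V₂.obj.left.left] {E : EtOver Y.obj} [hE : IsAffine E.obj.left.left]
    (a : U ⟶ V₁) (b : U ⟶ V₂) {v₁ : V₁ ⟶ W} {v₂ : V₂ ⟶ W} (h₁ : T v₁) (h₂ : T v₂) (e : a ≫ v₁ = b ≫ v₂)
    (k₁ : V₁ ⟶ bcO hf E) (k₂ : V₂ ⟶ bcO hf E) (k : U ⟶ bcO hf E) (w₁ : k = a ≫ k₁) (w₂ : k = b ≫ k₂) :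
    μr G a w₁ ((y V₁ v₁ h₁).1 ⟨V₁, 𝟙 _, E, k₁, hV₁, hE⟩) = μr G b w₂ ((y V₂ v₂ h₂).1 ⟨V₂, 𝟙 _, E, k₂, hV₂, hE⟩) := by
  subst w₁
  have e₁ := (y V₁ v₁ h₁).2 ⟨U, a, E, a ≫ k₁, hU, hE⟩ ⟨V₁, 𝟙 _, E, k₁, hV₁, hE⟩ a (Category.comp_id _)
  have e₂ : Compat (a ≫ k₁) (a ≫ k₁) ((y V₂ v₂ h₂).1 ⟨U, b, E, a ≫ k₁, hU, hE⟩)
      (μr G b w₂ ((y V₂ v₂ h₂).1 ⟨V₂, 𝟙 _, E, k₂, hV₂, hE⟩)) :=
    ((y V₂ v₂ h₂).2 ⟨U, b, E, a ≫ k₁, hU, hE⟩ ⟨V₂, 𝟙 _, E, k₂, hV₂, hE⟩ b (Category.comp_id _)).congr_μr b w₂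
  have e₃ : (y V₁ v₁ h₁).1 ⟨U, a, E, a ≫ k₁, hU, hE⟩ = (y V₂ v₂ h₂).1 ⟨U, b, E, a ≫ k₁, hU, hE⟩ := by
    have := congrArg (fun z => z.1 ⟨U, 𝟙 U, E, a ≫ k₁, hU, hE⟩) (hy U V₁ V₂ a b v₁ v₂ h₁ h₂ e)
    refine (fam_congr (y V₁ v₁ h₁).1 (a ≫ k₁) hU hE (Category.id_comp a).symm).trans (this.trans ?_)
    exact fam_congr (y V₂ v₂ h₂).1 (a ≫ k₁) hU hE (Category.id_comp b)
  rw [← e₁.eq, ← e₂.eq, e₃]

end Groth.Agent.AlgSpQC
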