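import Groth.Agent.AlgSpQC.PullUniv
import Groth.Agent.AlgSpQC.Coherent

/-!
# Finiteness of inverse images
-/

universe u

open CategoryTheory CategoryTheory.Limits AlgebraicGeometry Opposite TensorProduct

set_option backward.isDefEq.respectTransparency false
set_option backward.isDefEq.respectTransparency.types false
set_option autoImplicit false

namespace Groth.Agent.AlgSpQC

open _root_.AlgSp

variable {S : Scheme.{u}} {X Y : Space S} {f : X.obj ⟶ Y.obj} {hf : Representable f} {G : ModEt Y.obj}
  [G.IsQuasicoherent] {W : EtOver X.obj} {E : EtOver Y.obj}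

theorem finite_pullQC_chart [IsAffine W.obj.left.left] [IsAffine E.obj.left.left] [G.IsFiniteType]
    (h : W ⟶ bcO hf E) : Module.Finite (gr W) (sectModEt (pullQC hf G) W) := by
  classical
  obtain ⟨B, hB⟩ := (finite_sections (M := G) E).fg_top
  have hPT : Module.Finite (gr W) (PT G h) := by
    refine ⟨⟨B.image (tm h 1), eq_top_iff.2 fun x hx => ?_⟩⟩
    clear hx
    induction x using PT.induction with
    | zero => exact zero_mem _
    | tm r n =>
      have hn : n ∈ Submodule.span (gr E) (B : Set (sectModEt G E)) := hB ▸ Submodule.mem_top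
      rw [show tm h r n = r • tm h 1 n by rw [smul_tm, mul_one]]
      refine Submodule.smul_mem _ _ ?_
      induction hn using Submodule.span_induction with
      | mem n hn => exact Submodule.subset_span (Finset.mem_image_of_mem _ hn)
      | zero =>
        rw [show tm h 1 (0 : sectModEt G E) = 0 from TensorProduct.tmul_zero _ (show RZ h from 1)]
        exact zero_mem _
      | add a b _ _ ha hb => rw [tm_add_right]; exact add_mem ha hb
      | smul a b _ hb =>
        rw [show tm h 1 (a • b) = gm h (gπ hf E a) • tm h 1 b by rw [smul_tm, tm_smul]]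
        exact Submodule.smul_mem _ _ hb
    | add a b ha hb => exact add_mem ha hb
  exact Module.Finite.equiv (LinearEquiv.ofBijective { __ := pullEv G h, map_smul' := pullEv_smul h }
    (bijective_pullEv h)).symm

theorem finite_pullQC [G.IsFiniteType] (W : EtOver X.obj) [IsAffine W.obj.left.left] :
    Module.Finite (gr W) (sectModEt (pullQC hf G) W) := by
  have := isQuasicoherent_pullQC hf G
  choose Z l E k hZ hE hz using exists_chart hf W
  obtain ⟨t, ht⟩ := isCompact_univ.elim_finite_subcover (fun x => Set.range (l x).hom.left.left)
    (fun x => by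
      have := EtOver.etale_left (l x)
      exact (l x).hom.left.left.isOpenMap.isOpen_range)
    (fun x _ => Set.mem_iUnion.2 ⟨x, hz x⟩)
  refine finite_of_cover (κ := {x // x ∈ t}) (fun x => l x.1) (fun x => hZ x.1) (fun x => ?_) fun x => ?_
  · obtain ⟨z, hz, hx⟩ := Set.mem_iUnion₂.1 (ht (Set.mem_univ x))
    exact ⟨⟨z, hz⟩, hx⟩
  · have := hZ x.1
    have := hE x.1
    exact finite_pullQC_chart (k x.1)

variable (hf G) in
theorem isFinitePresentation_pullQC [G.IsFiniteType] (hX : IsLocNoethSp X.obj) :
    (pullQC hf G).IsFinitePresentation := by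
  have := isQuasicoherent_pullQC hf G
  exact isFinitePresentation_of_finite hX fun W hW => finite_pullQC W

end Groth.Agent.AlgSpQC
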