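import Groth.Agent.AlgSpQC.PushQcqsGeom
import Groth.Agent.AlgSpQC.StalkNbhd
import Mathlib.LinearAlgebra.TensorProduct.Tower

/-!
# Functions on a chart tensored with sections over an object of the base
-/

universe u

open CategoryTheory CategoryTheory.Limits AlgebraicGeometry Opposite TensorProduct

set_option backward.isDefEq.respectTransparency false
set_option backward.isDefEq.respectTransparency.types false
set_option autoImplicit false

namespace Groth.Agent.AlgSpQC

open _root_.AlgSp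

variable {S : Scheme.{u}} {X Y : Sp S} {f : X ⟶ Y} {hf : Representable f} {G : ModEt Y}
  {Z Z' Z'' : EtOver X} {E E' E'' : EtOver Y}

/-- The functions of the base as an algebra structure on the functions of an object over its base change. -/
noncomputable abbrev pullAlg (h : Z ⟶ bcO hf E) : Algebra (gr E) (gr Z) := ((gm h).comp (gπ hf E)).toAlgebra

/-- The functions on `Z`, as an algebra over those of the base through a map to its base change. -/
def RZ (_h : Z ⟶ bcO hf E) : Type u := gr Z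

noncomputable instance instCommRingRZ (h : Z ⟶ bcO hf E) : CommRing (RZ h) := inferInstanceAs (CommRing (gr Z))

noncomputable instance instAlgebraRZ (h : Z ⟶ bcO hf E) : Algebra (gr E) (RZ h) :=
  RingHom.toAlgebra (R := gr E) (S := RZ h) ((gm h).comp (gπ hf E))

variable (G) in
/-- Functions on `Z` tensored with the sections of `G` over `E`, along a map of `Z` to the base change of `E`. -/
def PT (h : Z ⟶ bcO hf E) : Type (u + 1) := RZ h ⊗[gr E] sectModEt G E

noncomputable instance instAddPT (h : Z ⟶ bcO hf E) : AddCommGroup (PT G h) :=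
  inferInstanceAs (AddCommGroup (RZ h ⊗[gr E] sectModEt G E))

noncomputable instance instModuleRZ (h : Z ⟶ bcO hf E) : Module (RZ h) (PT G h) :=
  inferInstanceAs (Module (RZ h) (RZ h ⊗[gr E] sectModEt G E))

noncomputable instance instModulePT (h : Z ⟶ bcO hf E) : Module (gr Z) (PT G h) := instModuleRZ h

variable {h : Z ⟶ bcO hf E}

variable (h) in
/-- An elementary tensor. -/
noncomputable def tm (r : gr Z) (n : sectModEt G E) : PT G h := (r : RZ h) ⊗ₜ[gr E] n

theorem smul_tm (a r : gr Z) (n : sectModEt G E) : a • tm h r n = tm h (a * r) n := rfl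

theorem tm_smul (a : gr E) (r : gr Z) (n : sectModEt G E) :
    tm h (gm h (gπ hf E a) * r) n = tm h r (a • n) :=
  TensorProduct.smul_tmul a (show RZ h from r) n

theorem tm_add (r r' : gr Z) (n : sectModEt G E) : tm h (r + r') n = tm h r n + tm h r' n :=
  TensorProduct.add_tmul (show RZ h from r) (show RZ h from r') n

theorem tm_add_right (r : gr Z) (n n' : sectModEt G E) : tm h r (n + n') = tm h r n + tm h r n' :=
  TensorProduct.tmul_add (show RZ h from r) n n'

@[elab_as_elim]
theorem PT.induction {motive : PT G h → Prop} (zero : motive 0) (tm : ∀ r n, motive (tm h r n))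
    (add : ∀ x y, motive x → motive y → motive (x + y)) (x : PT G h) : motive x :=
  TensorProduct.induction_on (motive := motive) x zero tm add

theorem exists_lift {L : Type (u + 1)} [AddCommGroup L] (φ : gr Z → sectModEt G E → L)
    (h₁ : ∀ r r' n, φ (r + r') n = φ r n + φ r' n) (h₂ : ∀ r n n', φ r (n + n') = φ r n + φ r n')
    (h₃ : ∀ a r n, φ (gm h (gπ hf E a) * r) n = φ r (a • n)) :
    ∃ Φ : PT G h →+ L, ∀ r n, Φ (tm h r n) = φ r n := by
  exact ⟨TensorProduct.liftAddHom (AddMonoidHom.mk' (fun r : RZ h => AddMonoidHom.mk' (φ r) (h₂ r))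
    (fun r r' => AddMonoidHom.ext (h₁ r r'))) (fun a r n => h₃ a r n), fun r n => rfl⟩

theorem exists_μ {h' : Z' ⟶ bcO hf E'} (l : Z' ⟶ Z) (g : E' ⟶ E) (w : h' ≫ bcM hf g = l ≫ h) :
    ∃ μ : PT G h →+ PT G h', ∀ r n, μ (tm h r n) = tm h' (gm l r) (rs G g n) :=
  exists_lift (fun r n => tm h' (gm l r) (rs G g n)) (fun r r' n => by rw [map_add, tm_add])
    (fun r n n' => by rw [map_add, tm_add_right]) fun a r n => by
      rw [map_mul, ← gm_comp, ← w, gm_comp, ← gπ_gm, tm_smul, rs_smul]

variable (G) in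
/-- The transition map of tensors. -/
noncomputable def μ (h : Z ⟶ bcO hf E) (h' : Z' ⟶ bcO hf E') (l : Z' ⟶ Z) (g : E' ⟶ E)
    (w : h' ≫ bcM hf g = l ≫ h) : PT G h →+ PT G h' :=
  (exists_μ l g w).choose

theorem μ_tm {h' : Z' ⟶ bcO hf E'} (l : Z' ⟶ Z) (g : E' ⟶ E) (w : h' ≫ bcM hf g = l ≫ h) (r : gr Z)
    (n : sectModEt G E) : μ G h h' l g w (tm h r n) = tm h' (gm l r) (rs G g n) :=
  (exists_μ l g w).choose_spec r n

theorem μ_smul {h' : Z' ⟶ bcO hf E'} (l : Z' ⟶ Z) (g : E' ⟶ E) (w : h' ≫ bcM hf g = l ≫ h) (a : gr Z)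
    (x : PT G h) : μ G h h' l g w (a • x) = gm l a • μ G h h' l g w x := by
  induction x using PT.induction with
  | zero => rw [smul_zero, map_zero, smul_zero]
  | tm r n => rw [smul_tm, μ_tm, μ_tm, smul_tm, map_mul]
  | add x y hx hy => rw [smul_add, map_add, map_add, hx, hy, smul_add]

theorem μ_comp {h' : Z' ⟶ bcO hf E'} {h'' : Z'' ⟶ bcO hf E''} (l : Z' ⟶ Z) (g : E' ⟶ E)
    (w : h' ≫ bcM hf g = l ≫ h) (l' : Z'' ⟶ Z') (g' : E'' ⟶ E') (w' : h'' ≫ bcM hf g' = l' ≫ h')
    (w'' : h'' ≫ bcM hf (g' ≫ g) = (l' ≫ l) ≫ h) (x : PT G h) :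
    μ G h' h'' l' g' w' (μ G h h' l g w x) = μ G h h'' (l' ≫ l) (g' ≫ g) w'' x := by
  induction x using PT.induction with
  | zero => rw [map_zero, map_zero, map_zero]
  | tm r n => rw [μ_tm, μ_tm, μ_tm, gm_comp, rs_comp]
  | add x y hx hy => rw [map_add, map_add, map_add, hx, hy]

theorem μ_id (w : h ≫ bcM hf (𝟙 E) = 𝟙 Z ≫ h) (x : PT G h) : μ G h h (𝟙 Z) (𝟙 E) w x = x := by
  induction x using PT.induction with
  | zero => rw [map_zero]
  | tm r n => rw [μ_tm, gm_id, rs_id]
  | add x y hx hy => rw [map_add, hx, hy]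

theorem μ_congr {h' : Z' ⟶ bcO hf E'} {l l₁ : Z' ⟶ Z} {g g₁ : E' ⟶ E} (el : l = l₁) (eg : g = g₁)
    (w : h' ≫ bcM hf g = l ≫ h) (w₁ : h' ≫ bcM hf g₁ = l₁ ≫ h) (x : PT G h) :
    μ G h h' l g w x = μ G h h' l₁ g₁ w₁ x := by
  subst el eg
  rfl

/-- Changing the base along affine objects does not change the tensors. -/
theorem bijective_μ_id [G.IsQuasicoherent] [IsAffine E.obj.left.left] [IsAffine E'.obj.left.left]
    {h' : Z ⟶ bcO hf E'} (g : E' ⟶ E) (w : h' ≫ bcM hf g = 𝟙 Z ≫ h) :
    Function.Bijective (μ G h h' (𝟙 Z) g w) := by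
  let _ := (gm g).toAlgebra
  let _ : Algebra (gr E') (RZ h) := RingHom.toAlgebra (R := gr E') (S := RZ h) ((gm h').comp (gπ hf E'))
  have : IsScalarTower (gr E) (gr E') (RZ h) := .of_algebraMap_eq fun a => by
    change gm h (gπ hf E a) = gm h' (gπ hf E' (gm g a))
    rw [gπ_gm, ← gm_comp, w, Category.id_comp]
  let e := LinearEquiv.ofBijective _ ((isBC_iff (A := gr E) (rs G g) (rs_smul g)).1 (bc_of_isQuasicoherent g))
  let Ψ := (TensorProduct.AlgebraTensorModule.cancelBaseChange (gr E) (gr E') (gr E') (RZ h) (sectModEt G E)).symm.trans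
    (TensorProduct.congr (LinearEquiv.refl (gr E') (RZ h)) e)
  have : ∀ x, μ G h h' (𝟙 Z) g w x = (show PT G h' from Ψ x) := fun x => by
    induction x using PT.induction with
    | zero => exact (map_zero _).trans (map_zero Ψ).symm
    | tm r n =>
      rw [μ_tm, gm_id]
      exact congrArg (tm h' r) (one_smul (gr E') (rs G g n)).symm
    | add x y hx hy => rw [map_add, hx, hy]; exact (map_add Ψ x y).symm
  rw [show (μ G h h' (𝟙 Z) g w : PT G h → PT G h') = (fun x => (show PT G h' from Ψ x)) from funext this]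
  exact Ψ.bijective

end Groth.Agent.AlgSpQC
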