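import Groth.Agent.AlgSpQC.PullDescent

/-!
# Comparing tensors along different charts of the base
-/

universe u

open CategoryTheory CategoryTheory.Limits AlgebraicGeometry Opposite TensorProduct

set_option backward.isDefEq.respectTransparency false
set_option backward.isDefEq.respectTransparency.types false
set_option autoImplicit false

namespace Groth.Agent.AlgSpQC

open _root_.AlgSp

variable {S : Scheme.{u}} {X Y : Space S} {f : X.obj ⟶ Y.obj} {hf : Representable f} {G : ModEt Y.obj}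
  {Z Z' : EtOver X.obj} {E E' E'' : EtOver Y.obj}

theorem bc_hom_ext {P : EtOver Y.obj} {k k' : Z ⟶ bcO hf P}
    (h : k.hom.left ≫ EtOver.bcπ hf P = k'.hom.left ≫ EtOver.bcπ hf P) : k = k' :=
  EtOver.hom_ext _ _ (hf.hom_ext ((EtOver.w k).trans (EtOver.w k').symm) h)

theorem bcM_comp (g : E'' ⟶ E') (g' : E' ⟶ E) : bcM hf (g ≫ g') = bcM hf g ≫ bcM hf g' :=
  (EtOver.bc hf).map_comp g g'

theorem bc_prod_hom_ext {k k' : Z ⟶ bcO hf (EtOver.prodObj E E')}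
    (h₁ : k ≫ bcM hf (EtOver.prodFst E E') = k' ≫ bcM hf (EtOver.prodFst E E'))
    (h₂ : k ≫ bcM hf (EtOver.prodSnd E E') = k' ≫ bcM hf (EtOver.prodSnd E E')) : k = k' := by
  have key : ∀ {E₁ : EtOver Y.obj} (p : EtOver.prodObj E E' ⟶ E₁), k ≫ bcM hf p = k' ≫ bcM hf p →
      (k.hom.left ≫ EtOver.bcπ hf (EtOver.prodObj E E')) ≫ p.hom.left =
        (k'.hom.left ≫ EtOver.bcπ hf (EtOver.prodObj E E')) ≫ p.hom.left := fun {E₁} p hp => by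
    have e : (bcM hf p).hom.left ≫ EtOver.bcπ hf E₁ = EtOver.bcπ hf (EtOver.prodObj E E') ≫ p.hom.left :=
      EtOver.bcMap_snd hf p
    rw [Category.assoc, Category.assoc, ← e, ← Category.assoc, ← Category.assoc]
    exact congrArg (fun t : Z ⟶ bcO hf E₁ => t.hom.left ≫ EtOver.bcπ hf E₁) hp
  exact bc_hom_ext (Functor.relativelyRepresentable.hom_ext' _ (key _ h₂) (key _ h₁))

/-- A map to a base change lifts locally to the base change of an affine object. -/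
theorem exists_through {W : EtOver Y.obj} (L : Z ⟶ bcO hf W) (z : Z.obj.left.left) :
    ∃ (Z' : EtOver X.obj) (l : Z' ⟶ Z) (W' : EtOver Y.obj) (ι : W' ⟶ W) (k : Z' ⟶ bcO hf W'),
      IsAffine Z'.obj.left.left ∧ IsAffine W'.obj.left.left ∧ k ≫ bcM hf ι = l ≫ L ∧
        z ∈ Set.range l.hom.left.left := by
  obtain ⟨W', ι, hW', -, v, hv⟩ := exists_affine_subObj (E := W) isOpen_univ
    (Set.mem_univ ((EtOver.bcπ hf W).left (L.hom.left.left z)))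
  obtain ⟨b, hb, -⟩ := Scheme.Pullback.exists_preimage_pullback (f := (EtOver.bcπ hf W).left)
    (g := ι.hom.left.left) (L.hom.left.left z) v hv.symm
  have sq := EtOver.isPullback_bcMap_left hf ι
  obtain ⟨b', hb'⟩ : ∃ b' : (bcO hf W').obj.left.left, (bcM hf ι).hom.left.left b' = L.hom.left.left z :=
    ⟨sq.isoPullback.inv b, ((Scheme.Hom.comp_apply _ _ _).symm.trans congr($(sq.isoPullback_inv_fst) b)).trans hb⟩
  have sqP := isPullback_pullbackObj L (bcM hf ι)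
  obtain ⟨c, hc, -⟩ := Scheme.Pullback.exists_preimage_pullback (f := L.hom.left.left)
    (g := (bcM hf ι).hom.left.left) z b' hb'.symm
  obtain ⟨c', hc'⟩ : ∃ c', (EtOver.pullbackFst L (bcM hf ι)).hom.left.left c' = z :=
    ⟨sqP.isoPullback.inv c, ((Scheme.Hom.comp_apply _ _ _).symm.trans congr($(sqP.isoPullback_inv_fst) c)).trans hc⟩
  obtain ⟨Z', g, hZ', -, w, hw⟩ := exists_affine_subObj (E := EtOver.pullbackObj L (bcM hf ι)) isOpen_univ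
    (Set.mem_univ c')
  refine ⟨Z', g ≫ EtOver.pullbackFst _ _, W', ι, g ≫ EtOver.pullbackSnd _ _, hZ', hW', ?_, w, ?_⟩
  · rw [Category.assoc, Category.assoc, EtOver.pullback_condition]
  · rw [← hc', ← hw]
    rfl

/-- Two maps to base changes have locally a common refinement. -/
theorem exists_common_ref (h : Z ⟶ bcO hf E) (h' : Z ⟶ bcO hf E') (z : Z.obj.left.left) :
    ∃ (Z' : EtOver X.obj) (l : Z' ⟶ Z) (W : EtOver Y.obj) (g : W ⟶ E) (g' : W ⟶ E') (k : Z' ⟶ bcO hf W),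
      IsAffine Z'.obj.left.left ∧ IsAffine W.obj.left.left ∧ k ≫ bcM hf g = l ≫ h ∧ k ≫ bcM hf g' = l ≫ h' ∧
        z ∈ Set.range l.hom.left.left := by
  obtain ⟨L, hL₁, hL₂⟩ : ∃ L : Z ⟶ bcO hf (EtOver.prodObj E E'),
      L ≫ bcM hf (EtOver.prodFst E E') = h ∧ L ≫ bcM hf (EtOver.prodSnd E E') = h' := by
    have w₁ : (yon S).map (h.hom.left ≫ EtOver.bcπ hf E) ≫ E.obj.hom = Z.obj.hom ≫ f := by
      rw [Functor.map_comp, Category.assoc, ← (EtOver.isPullback_bcObj hf E).w]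
      exact (Category.assoc _ _ _).symm.trans (congrArg (· ≫ f) (EtOver.w h))
    have w₂ : (yon S).map (h'.hom.left ≫ EtOver.bcπ hf E') ≫ E'.obj.hom = Z.obj.hom ≫ f := by
      rw [Functor.map_comp, Category.assoc, ← (EtOver.isPullback_bcObj hf E').w]
      exact (Category.assoc _ _ _).symm.trans (congrArg (· ≫ f) (EtOver.w h'))
    let m : Z.obj.left ⟶ (EtOver.prodObj E E').obj.left :=
      E'.property.1.lift' (h'.hom.left ≫ EtOver.bcπ hf E') (h.hom.left ≫ EtOver.bcπ hf E) (w₂.trans w₁.symm)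
    have hm : (yon S).map m ≫ (EtOver.prodObj E E').obj.hom = Z.obj.hom ≫ f := by
      change (yon S).map m ≫ (yon S).map _ ≫ E.obj.hom = _
      rw [← Functor.map_comp_assoc, Functor.relativelyRepresentable.lift'_snd]
      exact w₁
    refine ⟨EtOver.homMk (hf.lift Z.obj.hom m hm.symm) (hf.lift_fst _ _ _), ?_, ?_⟩ <;>
    · refine bc_hom_ext ?_
      change (hf.lift Z.obj.hom m hm.symm ≫ (EtOver.bcMap hf _).hom.left) ≫ _ = _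
      rw [Category.assoc]
      refine (congrArg (hf.lift Z.obj.hom m hm.symm ≫ ·) (EtOver.bcMap_snd hf _)).trans ?_
      rw [← Category.assoc, Functor.relativelyRepresentable.lift_snd]
      first
        | exact Functor.relativelyRepresentable.lift'_snd _ _ _ _
        | exact Functor.relativelyRepresentable.lift'_fst _ _ _ _
  obtain ⟨Z', l, W, ι, k, hZ', hW, hk, hz⟩ := exists_through L z
  refine ⟨Z', l, W, ι ≫ EtOver.prodFst E E', ι ≫ EtOver.prodSnd E E', k, hZ', hW, ?_, ?_, hz⟩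
  · rw [bcM_comp, ← Category.assoc, hk, Category.assoc, hL₁]
  · rw [bcM_comp, ← Category.assoc, hk, Category.assoc, hL₂]

/-- Two tensors agree on every common refinement. -/
def Compat (h : Z ⟶ bcO hf E) (h' : Z ⟶ bcO hf E') (x : PT G h) (y : PT G h') : Prop :=
  ∀ (Z' : EtOver X.obj) (l : Z' ⟶ Z) (W : EtOver Y.obj) (g : W ⟶ E) (g' : W ⟶ E') (k : Z' ⟶ bcO hf W)
    (w : k ≫ bcM hf g = l ≫ h) (w' : k ≫ bcM hf g' = l ≫ h'),
    IsAffine Z'.obj.left.left → IsAffine W.obj.left.left → μ G h k l g w x = μ G h' k l g' w' y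

theorem comp_compat {Z₁ : EtOver X.obj} {W W₁ : EtOver Y.obj} {h : Z ⟶ bcO hf E} {k : Z' ⟶ bcO hf W}
    {k₁ : Z₁ ⟶ bcO hf W₁} (l : Z' ⟶ Z) (g : W ⟶ E) (w : k ≫ bcM hf g = l ≫ h) (a : Z₁ ⟶ Z') (ι : W₁ ⟶ W)
    (w₁ : k₁ ≫ bcM hf ι = a ≫ k) : k₁ ≫ bcM hf (ι ≫ g) = (a ≫ l) ≫ h := by
  rw [bcM_comp, ← Category.assoc, w₁, Category.assoc, w, Category.assoc]

/-- A single overlap of refinements. -/
theorem eq_on_overlap [G.IsQuasicoherent] {h : Z ⟶ bcO hf E} {h' : Z ⟶ bcO hf E'} {x : PT G h} {y : PT G h'}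
    {Z₁ Z₂ : EtOver X.obj} {W₁ W₂ : EtOver Y.obj} [IsAffine W₂.obj.left.left]
    (l₁ : Z₁ ⟶ Z) (g₁ : W₁ ⟶ E) (g₁' : W₁ ⟶ E') (k₁ : Z₁ ⟶ bcO hf W₁)
    (w₁ : k₁ ≫ bcM hf g₁ = l₁ ≫ h) (w₁' : k₁ ≫ bcM hf g₁' = l₁ ≫ h')
    (e : μ G h k₁ l₁ g₁ w₁ x = μ G h' k₁ l₁ g₁' w₁' y)
    (l₂ : Z₂ ⟶ Z) (g₂ : W₂ ⟶ E) (g₂' : W₂ ⟶ E') (k₂ : Z₂ ⟶ bcO hf W₂)
    (w₂ : k₂ ≫ bcM hf g₂ = l₂ ≫ h) (w₂' : k₂ ≫ bcM hf g₂' = l₂ ≫ h')
    {Z₅ : EtOver X.obj} {W₅ : EtOver Y.obj} [IsAffine W₅.obj.left.left] (k₅ : Z₅ ⟶ bcO hf W₅)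
    (a₁ : Z₅ ⟶ Z₁) (a₂ : Z₅ ⟶ Z₂) (ι₁ : W₅ ⟶ W₁) (ι₂ : W₅ ⟶ W₂) (ea : a₁ ≫ l₁ = a₂ ≫ l₂)
    (eg : ι₁ ≫ g₁ = ι₂ ≫ g₂) (eg' : ι₁ ≫ g₁' = ι₂ ≫ g₂') (v₁ : k₅ ≫ bcM hf ι₁ = a₁ ≫ k₁)
    (v₂ : k₅ ≫ bcM hf ι₂ = a₂ ≫ k₂) :
    μr G a₂ (rfl : a₂ ≫ k₂ = a₂ ≫ k₂) (μ G h k₂ l₂ g₂ w₂ x) =
      μr G a₂ (rfl : a₂ ≫ k₂ = a₂ ≫ k₂) (μ G h' k₂ l₂ g₂' w₂' y) := by
  have v₂' : k₅ ≫ bcM hf ι₂ = 𝟙 Z₅ ≫ a₂ ≫ k₂ := v₂.trans (Category.id_comp _).symm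
  refine (bijective_μ_id (G := G) ι₂ v₂').1 ?_
  have key : ∀ z : PT G k₂, μ G (a₂ ≫ k₂) k₅ (𝟙 Z₅) ι₂ v₂' (μr G a₂ (rfl : a₂ ≫ k₂ = a₂ ≫ k₂) z) =
      μ G k₂ k₅ a₂ ι₂ v₂ z := fun z => by
    rw [μr, μ_comp (w'' := by rw [Category.comp_id, Category.id_comp]; exact v₂)]
    exact μ_congr (Category.id_comp _) (Category.comp_id _) _ _ z
  rw [key, key, μ_comp (w'' := comp_compat l₂ g₂ w₂ a₂ ι₂ v₂),
    μ_comp (w'' := comp_compat l₂ g₂' w₂' a₂ ι₂ v₂)]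
  have e' := congrArg (μ G k₁ k₅ a₁ ι₁ v₁) e
  rw [μ_comp (w'' := comp_compat l₁ g₁ w₁ a₁ ι₁ v₁), μ_comp (w'' := comp_compat l₁ g₁' w₁' a₁ ι₁ v₁)] at e'
  rw [μ_congr ea.symm eg.symm _ (comp_compat l₁ g₁ w₁ a₁ ι₁ v₁) x,
    μ_congr ea.symm eg'.symm _ (comp_compat l₁ g₁' w₁' a₁ ι₁ v₁) y]
  exact e'

/-- Agreement near every point implies agreement on all common refinements. -/
theorem compat_of_local [G.IsQuasicoherent] {h : Z ⟶ bcO hf E} {h' : Z ⟶ bcO hf E'} {x : PT G h} {y : PT G h'}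
    (H : ∀ z : Z.obj.left.left, ∃ (Z₁ : EtOver X.obj) (l₁ : Z₁ ⟶ Z) (W₁ : EtOver Y.obj) (g₁ : W₁ ⟶ E)
      (g₁' : W₁ ⟶ E') (k₁ : Z₁ ⟶ bcO hf W₁) (w₁ : k₁ ≫ bcM hf g₁ = l₁ ≫ h) (w₁' : k₁ ≫ bcM hf g₁' = l₁ ≫ h'),
      z ∈ Set.range l₁.hom.left.left ∧ μ G h k₁ l₁ g₁ w₁ x = μ G h' k₁ l₁ g₁' w₁' y) :
    Compat h h' x y := by
  intro Z₂ l₂ W₂ g₂ g₂' k₂ w₂ w₂' hZ₂ hW₂
  have key : ∀ z₂ : Z₂.obj.left.left, ∃ (Z₅ : EtOver X.obj) (a₂ : Z₅ ⟶ Z₂), IsAffine Z₅.obj.left.left ∧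
      z₂ ∈ Set.range a₂.hom.left.left ∧
      μr G a₂ (rfl : a₂ ≫ k₂ = a₂ ≫ k₂) (μ G h k₂ l₂ g₂ w₂ x) =
        μr G a₂ (rfl : a₂ ≫ k₂ = a₂ ≫ k₂) (μ G h' k₂ l₂ g₂' w₂' y) := by
    intro z₂
    obtain ⟨Z₁, l₁, W₁, g₁, g₁', k₁, w₁, w₁', ⟨z₁, hz₁⟩, e⟩ := H (l₂.hom.left.left z₂)
    obtain ⟨c, -, hc⟩ := Scheme.Pullback.exists_preimage_pullback (f := l₁.hom.left.left)
      (g := l₂.hom.left.left) z₁ z₂ hz₁
    have sqP := isPullback_pullbackObj l₁ l₂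
    obtain ⟨c', hc'⟩ : ∃ c', (EtOver.pullbackSnd l₁ l₂).hom.left.left c' = z₂ :=
      ⟨sqP.isoPullback.inv c, ((Scheme.Hom.comp_apply _ _ _).symm.trans congr($(sqP.isoPullback_inv_snd) c)).trans hc⟩
    let L₁ : W₁ ⟶ EtOver.prodObj E E' := (BinaryFan.IsLimit.lift' (EtOver.prodIsLimit E E') g₁ g₁').1
    let L₂ : W₂ ⟶ EtOver.prodObj E E' := (BinaryFan.IsLimit.lift' (EtOver.prodIsLimit E E') g₂ g₂').1
    have hL₁ : L₁ ≫ EtOver.prodFst E E' = g₁ ∧ L₁ ≫ EtOver.prodSnd E E' = g₁' :=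
      (BinaryFan.IsLimit.lift' (EtOver.prodIsLimit E E') g₁ g₁').2
    have hL₂ : L₂ ≫ EtOver.prodFst E E' = g₂ ∧ L₂ ≫ EtOver.prodSnd E E' = g₂' :=
      (BinaryFan.IsLimit.lift' (EtOver.prodIsLimit E E') g₂ g₂').2
    have hcond := EtOver.pullback_condition l₁ l₂
    have hK : (EtOver.pullbackFst l₁ l₂ ≫ k₁) ≫ bcM hf L₁ = (EtOver.pullbackSnd l₁ l₂ ≫ k₂) ≫ bcM hf L₂ := by
      refine bc_prod_hom_ext ?_ ?_
      · simp only [Category.assoc, ← bcM_comp, hL₁.1, hL₂.1, w₁, w₂]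
        rw [← Category.assoc, hcond, Category.assoc]
      · simp only [Category.assoc, ← bcM_comp, hL₁.2, hL₂.2, w₁', w₂']
        rw [← Category.assoc, hcond, Category.assoc]
    obtain ⟨K, hK₁, hK₂⟩ : ∃ K : EtOver.pullbackObj l₁ l₂ ⟶ bcO hf (EtOver.pullbackObj L₁ L₂),
        K ≫ bcM hf (EtOver.pullbackFst L₁ L₂) = EtOver.pullbackFst l₁ l₂ ≫ k₁ ∧
          K ≫ bcM hf (EtOver.pullbackSnd L₁ L₂) = EtOver.pullbackSnd l₁ l₂ ≫ k₂ :=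
      have sq := EtOver.isPullback_bc_map_pullback hf L₁ L₂
      ⟨sq.lift _ _ hK, sq.lift_fst _ _ _, sq.lift_snd _ _ _⟩
    obtain ⟨Z₅, l₅, W₅, ι, k₅, hZ₅, hW₅, hk₅, hz⟩ := exists_through K c'
    refine ⟨Z₅, l₅ ≫ EtOver.pullbackSnd l₁ l₂, hZ₅, ?_, ?_⟩
    · obtain ⟨w, hw⟩ := hz
      exact ⟨w, by rw [← hc', ← hw]; rfl⟩
    · refine eq_on_overlap l₁ g₁ g₁' k₁ w₁ w₁' e l₂ g₂ g₂' k₂ w₂ w₂' k₅ (l₅ ≫ EtOver.pullbackFst l₁ l₂)
        (l₅ ≫ EtOver.pullbackSnd l₁ l₂) (ι ≫ EtOver.pullbackFst L₁ L₂) (ι ≫ EtOver.pullbackSnd L₁ L₂) ?_ ?_ ?_ ?_ ?_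
      · rw [Category.assoc, Category.assoc, hcond]
      · rw [← hL₁.1, ← hL₂.1, Category.assoc, Category.assoc, ← Category.assoc (EtOver.pullbackFst L₁ L₂),
          EtOver.pullback_condition, Category.assoc]
      · rw [← hL₁.2, ← hL₂.2, Category.assoc, Category.assoc, ← Category.assoc (EtOver.pullbackFst L₁ L₂),
          EtOver.pullback_condition, Category.assoc]
      · rw [bcM_comp, ← Category.assoc, hk₅, Category.assoc, hK₁, Category.assoc]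
      · rw [bcM_comp, ← Category.assoc, hk₅, Category.assoc, hK₂, Category.assoc]
  choose Z₅ a₂ hZ₅ hz he using key
  exact μr_separated a₂ hZ₅ (fun z => ⟨z, hz z⟩) he

theorem Compat.symm {h : Z ⟶ bcO hf E} {h' : Z ⟶ bcO hf E'} {x : PT G h} {y : PT G h'} (c : Compat h h' x y) :
    Compat h' h y x :=
  fun Z' l W g g' k w w' hZ' hW => (c Z' l W g' g k w' w hZ' hW).symm

theorem Compat.unique [G.IsQuasicoherent] [IsAffine Z.obj.left.left] [IsAffine E'.obj.left.left]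
    {h : Z ⟶ bcO hf E} {h' : Z ⟶ bcO hf E'} {x : PT G h} {y y' : PT G h'}
    (c : Compat h h' x y) (c' : Compat h h' x y') : y = y' := by
  choose Z₁ l₁ W₁ g₁ g₁' k₁ hZ₁ hW₁ w₁ w₁' hz using exists_common_ref h h'
  refine μr_separated l₁ hZ₁ (fun z => ⟨z, hz z⟩) fun z => ?_
  have := hW₁ z
  have v : k₁ z ≫ bcM hf (g₁' z) = 𝟙 _ ≫ l₁ z ≫ h' := (w₁' z).trans (Category.id_comp _).symm
  refine (bijective_μ_id (G := G) (g₁' z) v).1 ?_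
  have key : ∀ t : PT G h', μ G (l₁ z ≫ h') (k₁ z) (𝟙 _) (g₁' z) v
      (μr G (l₁ z) (rfl : l₁ z ≫ h' = l₁ z ≫ h') t) = μ G h' (k₁ z) (l₁ z) (g₁' z) (w₁' z) t := fun t => by
    rw [μr, μ_comp (w'' := by rw [Category.comp_id, Category.id_comp]; exact w₁' z)]
    exact μ_congr (Category.id_comp _) (Category.comp_id _) _ _ t
  rw [key, key, ← c _ _ _ _ _ _ (w₁ z) _ (hZ₁ z) (hW₁ z), ← c' _ _ _ _ _ _ (w₁ z) _ (hZ₁ z) (hW₁ z)]

theorem Compat.restrict [G.IsQuasicoherent] {h : Z ⟶ bcO hf E} {h' : Z ⟶ bcO hf E'} {x : PT G h} {y : PT G h'}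
    (c : Compat h h' x y) (l : Z' ⟶ Z) {h₁ : Z' ⟶ bcO hf E} {h₁' : Z' ⟶ bcO hf E'} (e : h₁ = l ≫ h)
    (e' : h₁' = l ≫ h') : Compat h₁ h₁' (μr G l e x) (μr G l e' y) := by
  intro Z₂ l₂ W g g' k w w' hZ₂ hW
  have w₂ : k ≫ bcM hf g = (l₂ ≫ l) ≫ h := by rw [w, e, Category.assoc]
  have w₂' : k ≫ bcM hf g' = (l₂ ≫ l) ≫ h' := by rw [w', e', Category.assoc]
  rw [μr, μr, μ_comp (w'' := by rw [Category.comp_id]; exact w₂), μ_comp (w'' := by rw [Category.comp_id]; exact w₂')]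
  rw [μ_congr rfl (Category.comp_id g) _ w₂, μ_congr rfl (Category.comp_id g') _ w₂']
  exact c _ _ _ _ _ _ w₂ w₂' hZ₂ hW

theorem compat_self [G.IsQuasicoherent] (h : Z ⟶ bcO hf E) (x : PT G h) : Compat h h x x :=
  compat_of_local fun z => by
    obtain ⟨Z₁, l₁, W₁, g₁, g₁', k₁, -, -, w₁, -, hz⟩ := exists_common_ref h h z
    exact ⟨Z₁, l₁, W₁, g₁, g₁, k₁, w₁, w₁, hz, rfl⟩

/-- Tensors transport to every affine chart. -/
theorem exists_compat [G.IsQuasicoherent] [IsAffine Z.obj.left.left] [IsAffine E'.obj.left.left]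
    (h : Z ⟶ bcO hf E) (h' : Z ⟶ bcO hf E') (x : PT G h) : ∃ y, Compat h h' x y := by
  choose Z₁ l₁ W₁ g₁ g₁' k₁ hZ₁ hW₁ w₁ w₁' hz using exists_common_ref h h'
  obtain ⟨s, hs'⟩ := isCompact_univ.elim_finite_subcover (fun z => Set.range (l₁ z).hom.left.left)
    (fun z => by
      have := EtOver.etale_left (l₁ z)
      exact (l₁ z).hom.left.left.isOpenMap.isOpen_range)
    (fun z _ => Set.mem_iUnion.2 ⟨z, hz z⟩)
  have v : ∀ z, k₁ z ≫ bcM hf (g₁' z) = 𝟙 _ ≫ l₁ z ≫ h' := fun z => (w₁' z).trans (Category.id_comp _).symm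
  choose y hy using fun z => (have := hW₁ z; bijective_μ_id (G := G) (g₁' z) (v z)).2
    (μ G h (k₁ z) (l₁ z) (g₁ z) (w₁ z) x)
  have hc : ∀ z, Compat (l₁ z ≫ h) (l₁ z ≫ h') (μr G (l₁ z) rfl x) (y z) := fun z => compat_of_local fun p => by
    refine ⟨Z₁ z, 𝟙 _, W₁ z, g₁ z, g₁' z, k₁ z, (w₁ z).trans (Category.id_comp _).symm, v z, ⟨p, rfl⟩, ?_⟩
    rw [hy, μr, μ_comp (w'' := by rw [Category.comp_id, Category.id_comp]; exact w₁ z)]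
    exact μ_congr (Category.id_comp _) (Category.comp_id _) _ _ x
  obtain ⟨Y₀, hY₀⟩ := μr_glue (G := G) (h := h') (κ := {z // z ∈ s}) (fun z => l₁ z.1) (fun z => hZ₁ z.1)
    (fun p => by
      obtain ⟨z, hz, hp⟩ := Set.mem_iUnion₂.1 (hs' (Set.mem_univ p))
      exact ⟨⟨z, hz⟩, hp⟩)
    (fun z => y z.1) fun i j W a b hab hW =>
      Compat.unique (h := (a ≫ l₁ i.1) ≫ h) (x := μr G (a ≫ l₁ i.1) rfl x)
        (by
          have := (hc i.1).restrict a (Category.assoc a (l₁ i.1) h) (Category.assoc a (l₁ i.1) h')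
          rwa [μr_comp (w'' := rfl)] at this)
        (by
          have := (hc j.1).restrict b
            ((congrArg (fun t : W ⟶ Z => t ≫ h) hab).trans (Category.assoc b (l₁ j.1) h))
            ((congrArg (fun t : W ⟶ Z => t ≫ h') hab).trans (Category.assoc b (l₁ j.1) h'))
          rw [μr_comp (w'' := (congrArg (fun t : W ⟶ Z => t ≫ h) hab))] at this
          rwa [show μr G (a ≫ l₁ i.1) (rfl : (a ≫ l₁ i.1) ≫ h = _) x =
              μr G (b ≫ l₁ j.1) (congrArg (fun t : W ⟶ Z => t ≫ h) hab) x from μ_congr hab rfl _ _ x])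
  refine ⟨Y₀, compat_of_local fun p => ?_⟩
  obtain ⟨z, hzs, hp⟩ := Set.mem_iUnion₂.1 (hs' (Set.mem_univ p))
  refine ⟨Z₁ z, l₁ z, W₁ z, g₁ z, g₁' z, k₁ z, w₁ z, w₁' z, hp, ?_⟩
  rw [← hy, ← hY₀ ⟨z, hzs⟩, μr, μ_comp (w'' := by rw [Category.comp_id, Category.id_comp]; exact w₁' z)]
  exact μ_congr (Category.id_comp _) (Category.comp_id _) _ _ Y₀

theorem Compat.trans [G.IsQuasicoherent] {h : Z ⟶ bcO hf E} {h' : Z ⟶ bcO hf E'} {h'' : Z ⟶ bcO hf E''}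
    {x : PT G h} {y : PT G h'} {z : PT G h''} (c : Compat h h' x y)
    (c' : Compat h' h'' y z) : Compat h h'' x z := by
  refine compat_of_local fun p => ?_
  -- a refinement of all three charts at once
  obtain ⟨Z₁, l₁, W₁, g, g', k₁, hZ₁, hW₁, w, w', ⟨p₁, hp₁⟩⟩ := exists_common_ref h h' p
  obtain ⟨Z₂, l₂, W₂, a, g'', k₂, hZ₂, hW₂, wa, w'', ⟨p₂, hp₂⟩⟩ := exists_common_ref k₁ (l₁ ≫ h'') p₁
  have e₁ := comp_compat l₁ g w l₂ a wa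
  have e₂ := comp_compat l₁ g' w' l₂ a wa
  have e₃ : k₂ ≫ bcM hf g'' = (l₂ ≫ l₁) ≫ h'' := by rw [w'', Category.assoc]
  exact ⟨Z₂, l₂ ≫ l₁, W₂, a ≫ g, g'', k₂, e₁, e₃, ⟨p₂, by rw [← hp₁, ← hp₂]; rfl⟩,
    (c _ _ _ _ _ _ e₁ e₂ hZ₂ hW₂).trans (c' _ _ _ _ _ _ e₂ e₃ hZ₂ hW₂)⟩

end Groth.Agent.AlgSpQC
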