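import Groth.Agent.AlgSpQC.Gen

/-!
# Sections of coproducts of sheaves of modules
-/

universe u v' u'

open CategoryTheory CategoryTheory.Limits Opposite

set_option backward.isDefEq.respectTransparency false
set_option autoImplicit false

namespace Groth.Agent.AlgSpQC

variable {C : Type u'} [Category.{v'} C] {J : GrothendieckTopology C} {R : Sheaf J RingCat.{u}}
  [HasSheafify J AddCommGrpCat.{u}] [J.WEqualsLocallyBijective AddCommGrpCat.{u}]

/-- Sections of a coproduct are locally finite sums of sections of the summands. -/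
theorem exists_sieve_mem_iSup {I : Type u} {H : I → SheafOfModules.{u} R} {c : Cofan H} (hc : IsColimit c) (U : C)
    (m : c.pt.val.obj (op U)) :
    ∃ T ∈ J U, ∀ (V : C) (h : V ⟶ U), T h →
      res c.pt h m ∈ ⨆ i, LinearMap.range ((c.inj i).val.app (op V)).hom := by
  let P : PresheafOfModules.{u} R.obj := ∐ fun i : I => (H i).val
  let g : P ⟶ c.pt.val := Limits.Sigma.desc fun i => (c.inj i).val
  refine ⟨_, imageSieve_mem_of_transpose_epi g (fun {Q} a b h => ?_) U m, fun V h ⟨x, hx⟩ => ?_⟩
  · refine Cofan.IsColimit.hom_ext hc _ _ fun i => SheafOfModules.hom_ext ?_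
    have := Limits.Sigma.ι _ i ≫= h
    simp only [g, Limits.Sigma.ι_desc_assoc] at this
    exact this
  · let ev := PresheafOfModules.evaluation R.obj (op V)
    let N : Submodule (R.obj.obj (op V)) (c.pt.val.obj (op V)) :=
      ⨆ i, LinearMap.range ((c.inj i).val.app (op V)).hom
    suffices H' : ev.map g ≫ ModuleCat.ofHom N.mkQ = 0 by
      have hx' : (g.app (op V)).hom x = res c.pt h m := hx
      rw [← hx']
      exact (Submodule.Quotient.mk_eq_zero N).1 (LinearMap.congr_fun (congrArg ModuleCat.Hom.hom H') x)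
    refine Cofan.IsColimit.hom_ext
      (isColimitCofanMkObjOfIsColimit ev _ _ (coproductIsCoproduct fun i : I => (H i).val)) _ _ fun i => ?_
    change ev.map (Limits.Sigma.ι _ i) ≫ ev.map g ≫ _ = _ ≫ 0
    rw [comp_zero, ← Category.assoc, ← ev.map_comp, Limits.Sigma.ι_desc]
    apply ModuleCat.hom_ext
    refine LinearMap.ext fun r => (Submodule.Quotient.mk_eq_zero N).2 ?_
    exact Submodule.mem_iSup_of_mem i ⟨r, rfl⟩

end Groth.Agent.AlgSpQC
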