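import Groth.Agent.AlgSpQC.Subsheaf
import Groth.Agent.AlgSpQC.BasicOpenChart
import Groth.Agent.AlgSpQC.Largest
import Groth.Agent.AlgSpQC.Coherent
import Mathlib.LinearAlgebra.TensorProduct.Pi

/-!
# Sections supported on a closed set
-/

universe u

open CategoryTheory CategoryTheory.Limits AlgebraicGeometry Opposite TensorProduct TopologicalSpace

set_option backward.isDefEq.respectTransparency false
set_option backward.isDefEq.respectTransparency.types false
set_option autoImplicit false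

namespace Groth.Agent.AlgSpQC

open _root_.AlgSp

variable {S : Scheme.{u}} {X : Space S} {M : ModEt X.obj}

theorem mem_vanishLocus_of_rs {E E' : EtOver X.obj} (g : E' ⟶ E) {m : sectModEt M E} (hm : rs M g m = 0)
    (z : E'.obj.left.left) :
    g.hom.left.left z ∈ AlgSpD.vanishLocus ((toAbEt X.obj).obj M) (U := E) m :=
  Set.mem_iUnion.2 ⟨E', Set.mem_iUnion.2 ⟨g, Set.mem_iUnion.2 ⟨hm, z, rfl⟩⟩⟩

theorem exists_rs_of_mem_vanishLocus {E : EtOver X.obj} {m : sectModEt M E} {z : E.obj.left.left}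
    (h : z ∈ AlgSpD.vanishLocus ((toAbEt X.obj).obj M) (U := E) m) :
    ∃ (V : EtOver X.obj) (g : V ⟶ E), rs M g m = 0 ∧ z ∈ Set.range g.hom.left.left := by
  obtain ⟨V, g, hg, hz⟩ := by
    simpa only [AlgSpD.vanishLocus, ← SetLike.mem_coe, Opens.coe_mk, Set.mem_iUnion] using h
  exact ⟨V, g, hg, hz⟩

theorem ofPt_apply_hom {E E' : EtOver X.obj} (g : E' ⟶ E) (z : E'.obj.left.left) :
    Points.ofPt E.obj.hom (g.hom.left.left z) = Points.ofPt E'.obj.hom z := by
  rw [← AlgSpB.ofPt_map_comp, EtOver.w g]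

theorem vanishLocus_rs {E E' : EtOver X.obj} (g : E' ⟶ E) (m : sectModEt M E) (z : E'.obj.left.left)
    (h : g.hom.left.left z ∈ AlgSpD.vanishLocus ((toAbEt X.obj).obj M) (U := E) m) :
    z ∈ AlgSpD.vanishLocus ((toAbEt X.obj).obj M) (U := E') (rs M g m) := by
  obtain ⟨q, hq, l, rfl, -⟩ := AlgSpD.exists_geometric_lift X E' z
  refine (AlgSpD.mem_vanishLocus_iff ((toAbEt X.obj).obj M) (U := E') (rs M g m) q hq l).1 ?_
  refine Eq.trans ((AlgSpD.stalkPoint X q hq).toPresheafFiber_w_apply g l ((toAbEt X.obj).obj M).obj m) ?_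
  exact (AlgSpD.mem_vanishLocus_iff ((toAbEt X.obj).obj M) (U := E) m q hq _).2 h

theorem vanishLocus_add {E : EtOver X.obj} (m n : sectModEt M E) (z : E.obj.left.left)
    (hm : z ∈ AlgSpD.vanishLocus ((toAbEt X.obj).obj M) (U := E) m)
    (hn : z ∈ AlgSpD.vanishLocus ((toAbEt X.obj).obj M) (U := E) n) :
    z ∈ AlgSpD.vanishLocus ((toAbEt X.obj).obj M) (U := E) (m + n) := by
  obtain ⟨q, hq, l, rfl, -⟩ := AlgSpD.exists_geometric_lift X E z
  refine (AlgSpD.mem_vanishLocus_iff ((toAbEt X.obj).obj M) (U := E) (m + n) q hq l).1 ?_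
  refine (map_add ((AlgSpD.stalkPoint X q hq).toPresheafFiber E l ((toAbEt X.obj).obj M).obj).hom m n).trans ?_
  exact (congrArg₂ _ ((AlgSpD.mem_vanishLocus_iff ((toAbEt X.obj).obj M) (U := E) m q hq l).2 hm)
    ((AlgSpD.mem_vanishLocus_iff ((toAbEt X.obj).obj M) (U := E) n q hq l).2 hn)).trans (add_zero _)

/-- Sections vanishing at the points outside a given set. -/
noncomputable def suppIn (M : ModEt X.obj) (Z : Set (Points X.obj)) (E : EtOver X.obj) :
    Submodule (gr E) (sectModEt M E) where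
  carrier := {m | ∀ u, Points.ofPt E.obj.hom u ∉ Z → u ∈ AlgSpD.vanishLocus ((toAbEt X.obj).obj M) (U := E) m}
  add_mem' hm hn u hu := vanishLocus_add _ _ u (hm u hu) (hn u hu)
  zero_mem' u _ := ⟨_, ⟨E, rfl⟩, _, ⟨𝟙 E, rfl⟩, _, ⟨map_zero (rs M (𝟙 E)), rfl⟩, u, rfl⟩
  smul_mem' a m hm u hu := by
    obtain ⟨V, g, hg, z, rfl⟩ := exists_rs_of_mem_vanishLocus (hm u hu)
    exact mem_vanishLocus_of_rs g (by rw [rs_smul, hg, smul_zero]) z

theorem rs_mem_suppIn (Z : Set (Points X.obj)) {E E' : EtOver X.obj} (g : E' ⟶ E) :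
    ∀ m ∈ suppIn M Z E, rs M g m ∈ suppIn M Z E' :=
  fun m hm z hz => vanishLocus_rs g m z (hm _ fun h => hz (ofPt_apply_hom g z ▸ h))

theorem mem_suppIn_of_local (Z : Set (Points X.obj)) (E : EtOver X.obj) (T : Sieve E) (hT : T ∈ etTop X.obj E)
    (m : sectModEt M E) (h : ∀ (V : EtOver X.obj) (f : V ⟶ E), T f → rs M f m ∈ suppIn M Z V) :
    m ∈ suppIn M Z E := by
  intro u hu
  obtain ⟨V, f, hf, w, rfl⟩ := (AlgSpD.mem_etTop_iff _).1 hT u
  obtain ⟨W, g, hg, x, rfl⟩ := exists_rs_of_mem_vanishLocus (h V f hf w fun hw => hu ((ofPt_apply_hom f w).symm ▸ hw))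
  exact mem_vanishLocus_of_rs (g ≫ f) (by rw [rs_comp]; exact hg) x

theorem exists_finset_compl (hN : IsLocNoethSp X.obj) {E : EtOver X.obj} [IsAffine E.obj.left.left]
    {C : Set E.obj.left.left} (hC : IsClosed C) :
    ∃ t : Finset (gr E), ∀ u, u ∉ C ↔ ∃ a ∈ t, u ∈ E.obj.left.left.basicOpen a := by
  classical
  have := isNoetherianRing_gr hN E
  have : NoetherianSpace E.obj.left.left :=
    (noetherianSpace_iff_of_homeomorph E.obj.left.left.isoSpec.schemeIsoToHomeo).2
      (inferInstanceAs (NoetherianSpace (PrimeSpectrum (gr E))))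
  have hc : IsCompact Cᶜ := NoetherianSpace.isCompact _
  have key : ∀ u : ↥Cᶜ, ∃ a : gr E, u.1 ∈ E.obj.left.left.basicOpen a ∧
      (E.obj.left.left.basicOpen a : Set E.obj.left.left) ⊆ Cᶜ := fun u => by
    obtain ⟨a, ha, hau⟩ := (isAffineOpen_top E.obj.left.left).exists_basicOpen_le (V := ⟨Cᶜ, hC.isOpen_compl⟩)
      ⟨u.1, u.2⟩ trivial
    exact ⟨a, hau, ha⟩
  choose a ha ha' using key
  obtain ⟨s, hs⟩ := hc.elim_finite_subcover (fun u => (E.obj.left.left.basicOpen (a u) : Set E.obj.left.left))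
    (fun u => (E.obj.left.left.basicOpen (a u)).isOpen) (fun u hu => Set.mem_iUnion.2 ⟨⟨u, hu⟩, ha ⟨u, hu⟩⟩)
  refine ⟨s.image a, fun u => ⟨fun hu => ?_, ?_⟩⟩
  · obtain ⟨i, hi, hui⟩ := Set.mem_iUnion₂.1 (hs hu)
    exact ⟨_, Finset.mem_image_of_mem _ hi, hui⟩
  · rintro ⟨b, hb, hub⟩
    obtain ⟨i, -, rfl⟩ := Finset.mem_image.1 hb
    exact ha' i hub

/-- Flat base change commutes with simultaneous kernels of finitely many scalars. -/
theorem mem_span_of_flat_kernel {A B : Type u} [CommRing A] [CommRing B] [Algebra A B] [Module.Flat A B]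
    {N L : Type (u + 1)} [AddCommGroup N] [Module A N] [AddCommGroup L] [Module B L] (φ : N →+ L)
    (hφ : ∀ a n, φ (a • n) = algebraMap A B a • φ n) (hb : Function.Bijective (bc φ hφ)) {ι : Type u} [Fintype ι]
    [DecidableEq ι] (a : ι → A) {m : L} (hm : ∀ i, algebraMap A B (a i) • m = 0) :
    m ∈ Submodule.span B (φ '' {n | ∀ i, a i • n = 0}) := by
  let δ : N →ₗ[A] (ι → N) := LinearMap.pi fun i => a i • LinearMap.id
  obtain ⟨x, rfl⟩ := hb.2 m
  have hx : LinearMap.lTensor B δ x = 0 := by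
    have e : ∀ y, TensorProduct.piRight A A B (fun _ : ι => N) (LinearMap.lTensor B δ y) =
        fun i => algebraMap A B (a i) • y := fun y => by
      induction y using TensorProduct.induction_on with
      | zero => funext i; simp
      | add p q hp hq =>
        rw [map_add, map_add, hp, hq]
        funext i
        exact (smul_add _ p q).symm
      | tmul w n =>
        funext i
        simp [δ]
    refine (TensorProduct.piRight A A B (fun _ : ι => N)).injective ?_
    rw [e, map_zero]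
    funext i
    refine hb.1 ?_
    rw [map_smul, hm i, Pi.zero_apply, map_zero]
  obtain ⟨y, rfl⟩ := (Module.Flat.lTensor_exact B (LinearMap.exact_subtype_ker_map δ) x).1 hx
  clear hm hx
  induction y using TensorProduct.induction_on with
  | zero => simp
  | add p q hp hq => rw [map_add, map_add]; exact Submodule.add_mem _ hp hq
  | tmul w n =>
    rw [LinearMap.lTensor_tmul, bc_tmul]
    exact Submodule.smul_mem _ _ (Submodule.subset_span ⟨n.1, fun i => congrFun (LinearMap.mem_ker.1 n.2) i, rfl⟩)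

/-- The sections of a coherent module supported on a closed set are base change compatible. -/
theorem mem_span_suppIn (hN : IsLocNoethSp X.obj) [M.IsQuasicoherent] {Z : Set (Points X.obj)} (hZ : IsClosed Z)
    {E W : EtOver X.obj} [IsAffine E.obj.left.left] [IsAffine W.obj.left.left] (g : W ⟶ E) (m : sectModEt M W)
    (hm : m ∈ suppIn M Z W) : m ∈ Submodule.span (gr W) (rs M g '' (suppIn M Z E : Set (sectModEt M E))) := by
  classical
  obtain ⟨t, ht⟩ := exists_finset_compl hN (E := E) (hZ.preimage (Points.continuous_ofPt E.obj.hom))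
  have hpow : ∀ a : ↥t, ∃ k : ℕ, gm g a.1 ^ k • m = 0 := fun a => by
    refine (basicOpen_subset_vanishLocus_iff W (gm g a.1) m).1 fun z hz => hm z fun hzZ => ?_
    have hz' : g.hom.left.left z ∈ E.obj.left.left.basicOpen a.1 := by
      have e : g.hom.left.left ⁻¹ᵁ E.obj.left.left.basicOpen a.1 = W.obj.left.left.basicOpen (gm g a.1) :=
        Scheme.preimage_basicOpen_top _ _
      exact (e.symm ▸ hz : z ∈ g.hom.left.left ⁻¹ᵁ E.obj.left.left.basicOpen a.1)
    exact (ht _).2 ⟨a.1, a.2, hz'⟩ (show Points.ofPt E.obj.hom _ ∈ Z by rwa [ofPt_apply_hom])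
  choose k hk using hpow
  let _ := (gm g).toAlgebra
  have : Module.Flat (gr E) (gr W) := flat_gm g
  refine Submodule.span_mono (Set.image_mono fun n hn u hu => ?_)
    (mem_span_of_flat_kernel (A := gr E) (rs M g) (rs_smul g)
      ((isBC_iff (A := gr E) (rs M g) (rs_smul g)).1 (bc_of_isQuasicoherent g)) (fun a : ↥t => a.1 ^ k a)
      fun a => (congrArg (fun r : gr W => r • m) (map_pow (gm g) a.1 (k a))).trans (hk a))
  obtain ⟨a, ha, hau⟩ := (ht u).1 hu
  exact (basicOpen_subset_vanishLocus_iff E a n).2 ⟨k ⟨a, ha⟩, hn ⟨a, ha⟩⟩ hau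

theorem exists_support_sub (hN : IsLocNoethSp X.obj) (F : ModEt X.obj) [F.IsFinitePresentation]
    {Z' : Set (Points X.obj)} (hZ' : IsClosed Z') :
    ∃ (G' : ModEt X.obj) (a : G' ⟶ F), Mono a ∧ G'.IsFinitePresentation ∧
      ∀ (E : EtOver X.obj) (m : sectModEt F E), (∃ y, hs a E y = m) ↔ m ∈ suppIn F Z' E := by
  obtain ⟨K, ι, hι, hK⟩ := exists_subSheaf (suppIn F Z') (fun g => rs_mem_suppIn Z' g)
    (fun E T hT => mem_suppIn_of_local Z' E T hT)
  have : K.IsQuasicoherent := isQuasicoherent_sub ι fun E W g hE hW m => by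
    refine ⟨⊤, (etTop X.obj).top_mem W, fun V f _ => ?_⟩
    have hm := mem_span_suppIn hN hZ' g (hs ι W m) ((hK W _).1 ⟨m, rfl⟩)
    have key : ∀ x ∈ Submodule.span (gr W) (rs F g '' (suppIn F Z' E : Set (sectModEt F E))),
        ∃ y ∈ Submodule.span (gr W) (Set.range (rs K g)), hs ι W y = x := by
      intro x hx
      induction hx using Submodule.span_induction with
      | mem x hx =>
        obtain ⟨n, hn, rfl⟩ := hx
        obtain ⟨y, rfl⟩ := (hK E n).2 hn
        exact ⟨rs K g y, Submodule.subset_span ⟨y, rfl⟩, hs_rs ι g y⟩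
      | zero => exact ⟨0, zero_mem _, map_zero _⟩
      | add p q _ _ hp hq =>
        obtain ⟨y, hy, rfl⟩ := hp
        obtain ⟨z, hz, rfl⟩ := hq
        exact ⟨y + z, add_mem hy hz, map_add _ _ _⟩
      | smul r p _ hp =>
        obtain ⟨y, hy, rfl⟩ := hp
        exact ⟨r • y, Submodule.smul_mem _ r hy, map_smul _ _ _⟩
    obtain ⟨y, hy, hye⟩ := key _ hm
    obtain rfl := hs_injective ι W hye
    clear hye hm key
    induction hy using Submodule.span_induction with
    | mem x hx =>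
      obtain ⟨e, rfl⟩ := hx
      exact Submodule.subset_span ⟨e, rs_comp g f e⟩
    | zero => rw [map_zero]; exact Submodule.zero_mem _
    | add p q _ _ hp hq => rw [map_add]; exact Submodule.add_mem _ hp hq
    | smul r p _ hp => rw [rs_smul]; exact Submodule.smul_mem _ _ hp
  exact ⟨K, ι, hι, isFinitePresentation_of_mono hN ι, hK⟩

theorem isZero_stalk_suppIn {G' F : ModEt X.obj} (a : G' ⟶ F) [Mono a] {Z' : Set (Points X.obj)}
    (ha : ∀ (E : EtOver X.obj) (m : sectModEt F E), (∃ y, hs a E y = m) ↔ m ∈ suppIn F Z' E)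
    (x : FieldPt X.obj) (hx : x.IsGeometric) (hxZ : Points.mk x ∉ Z') :
    IsZero (stalkEt x ((toAbEt X.obj).obj G')) := by
  by_contra h
  obtain ⟨U, l, σ, hσ⟩ := (AlgSpD.not_isZero_stalk_iff _ x hx).1 h
  refine hσ (germM_eq_zero_of_hs x hx a l σ ?_)
  refine (AlgSpD.mem_vanishLocus_iff ((toAbEt X.obj).obj F) (U := U) (hs a U σ) x hx l).2 ?_
  exact (ha U _).1 ⟨σ, rfl⟩ _ (by rwa [AlgSpD.ofPt_lift])

theorem isZero_stalk_quot {G' F : ModEt X.obj} (a : G' ⟶ F) {Z Z' : Set (Points X.obj)} (hZ : IsClosed Z)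
    (ha : ∀ (E : EtOver X.obj) (m : sectModEt F E), (∃ y, hs a E y = m) ↔ m ∈ suppIn F Z' E)
    (hsupp : ∀ x : FieldPt X.obj, x.IsGeometric → Points.mk x ∉ Z → Points.mk x ∉ Z' →
      IsZero (stalkEt x ((toAbEt X.obj).obj F)))
    (x : FieldPt X.obj) (hx : x.IsGeometric) (hxZ : Points.mk x ∉ Z) :
    IsZero (stalkEt x ((toAbEt X.obj).obj (cokernel a))) := by
  by_contra h
  obtain ⟨U, l, σ, hσ⟩ := (AlgSpD.not_isZero_stalk_iff _ x hx).1 h
  refine hσ ((AlgSpD.mem_vanishLocus_iff ((toAbEt X.obj).obj (cokernel a)) (U := U) σ x hx l).2 ?_)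
  obtain ⟨T, hT, hT'⟩ := exists_local_lift (cokernel.π a) (E := U) σ
  obtain ⟨V, f, hf, v, hv⟩ := (AlgSpD.mem_etTop_iff _).1 hT (l.1.left (IsLocalRing.closedPoint x.K))
  obtain ⟨n, hn⟩ := hT' V f hf
  obtain ⟨V', g, -, hg, v', hv'⟩ := exists_affine_subObj (E := V) (U := (Points.ofPt V.obj.hom ⁻¹' Z)ᶜ)
    (hZ.preimage (Points.continuous_ofPt _)).isOpen_compl (u := v)
    (show Points.ofPt V.obj.hom v ∉ Z by rwa [← ofPt_apply_hom f, hv, AlgSpD.ofPt_lift])
  obtain ⟨y, hy⟩ := (ha V' (rs F g n)).2 fun w hw => by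
    obtain ⟨q, hq, l', rfl, hmk⟩ := AlgSpD.exists_geometric_lift X V' w
    refine (AlgSpD.mem_vanishLocus_iff ((toAbEt X.obj).obj F) (U := V') (rs F g n) q hq l').1
      (@Subsingleton.elim _ (AddCommGrpCat.subsingleton_of_isZero (hsupp q hq ?_ (hmk ▸ hw))) _ _)
    rw [hmk, ← ofPt_apply_hom g]
    exact hg ⟨_, rfl⟩
  have h0 : rs (cokernel a) (g ≫ f) σ = 0 := by
    rw [rs_comp, ← hn, ← hs_rs, ← hy, ← hs_comp, cokernel.condition]
    rfl
  have := mem_vanishLocus_of_rs (g ≫ f) h0 v'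
  have e : (g ≫ f).hom.left.left v' = l.1.left (IsLocalRing.closedPoint x.K) := by
    rw [← hv, ← hv']
    rfl
  rwa [e] at this

end Groth.Agent.AlgSpQC
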