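import Groth.Agent.AlgSpQC.Subsheaf
import Groth.Agent.AlgSpQC.Largest
import Groth.Agent.AlgSpQC.Coherent
import Groth.Agent.AlgSpQC.PushQcqsGeom
import Groth.Agent.AlgSpQC.StalkNbhd
import Groth.Agent.AlgSpEN.Strata

/-!
# Coherent submodules cut out by finitely many sections over an atlas
-/

universe u

open CategoryTheory CategoryTheory.Limits AlgebraicGeometry Opposite TensorProduct TopologicalSpace

set_option backward.isDefEq.respectTransparency false
set_option backward.isDefEq.respectTransparency.types false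
set_option autoImplicit false

namespace Groth.Agent.AlgSpQC

open _root_.AlgSp

variable {S : Scheme.{u}} {X : Space S} {M : ModEt X.obj} {E₀ : EtOver X.obj}

/-- The product of two affine objects is covered by finitely many affine objects. -/
theorem exists_prod_cover [QuasiSeparatedSpace ↥S] (hqs : IsQuasiSeparatedSp X.obj) (E E₀ : EtOver X.obj)
    [IsAffine E.obj.left.left] [IsAffine E₀.obj.left.left] :
    ∃ (κ : Type u) (_ : Finite κ) (V : κ → EtOver X.obj) (a : ∀ k, V k ⟶ E) (c : ∀ k, V k ⟶ E₀),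
      (∀ k, IsAffine (V k).obj.left.left) ∧ ∀ (Z : EtOver X.obj) (z : Z ⟶ E) (z₀ : Z ⟶ E₀),
        ∃ T ∈ etTop X.obj Z, ∀ (Z' : EtOver X.obj) (g : Z' ⟶ Z), T g →
          ∃ (k : κ) (l : Z' ⟶ V k), l ≫ a k = g ≫ z ∧ l ≫ c k = g ≫ z₀ := by
  obtain ⟨R, f, g, sq⟩ := AlgSpB.exists_pullback_yon (X.property.representable_from_yon E.obj.hom) E₀.obj.hom
  have : Etale f.left := E₀.property.2 _ _ _ sq.flip
  have hq : QuasiCompact f.left :=
    (Groth.Agent.AlgSpEN.repWith_quasiCompact_chart X hqs E₀.obj.hom).2 _ _ _ sq.flip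
  obtain ⟨ER, p, q, hc, huniv⟩ : ∃ (ER : EtOver X.obj) (p : ER ⟶ E) (q : ER ⟶ E₀),
      CompactSpace ER.obj.left.left ∧ ∀ (Z : EtOver X.obj) (z : Z ⟶ E) (z₀ : Z ⟶ E₀),
        ∃ L : Z ⟶ ER, L ≫ p = z ∧ L ≫ q = z₀ := by
    refine ⟨EtOver.mk ((yon S).map f ≫ E.obj.hom)
      ((RepWith _).comp_mem _ _ ((repWith_yon_map_iff _ _).2 ‹_›) E.property),
      EtOver.homMk f rfl, EtOver.homMk g sq.w.symm,
      QuasiCompact.compactSpace_of_compactSpace f.left, fun Z z z₀ => ?_⟩
    obtain ⟨l, hl⟩ := (yon S).map_surjective (sq.lift ((yon S).map z.hom.left) ((yon S).map z₀.hom.left)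
      ((EtOver.w z).trans (EtOver.w z₀).symm))
    have h1 : l ≫ f = z.hom.left := (yon S).map_injective (by rw [Functor.map_comp, hl, sq.lift_fst])
    have h2 : l ≫ g = z₀.hom.left := (yon S).map_injective (by rw [Functor.map_comp, hl, sq.lift_snd])
    refine ⟨EtOver.homMk l ?_, EtOver.hom_ext _ _ h1, EtOver.hom_ext _ _ h2⟩
    change (yon S).map l ≫ (yon S).map f ≫ E.obj.hom = _
    rw [← Functor.map_comp_assoc, h1]
    exact EtOver.w z
  obtain ⟨κ, hκ, V, v, hV, hv⟩ := exists_finite_affine_cover ER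
  refine ⟨κ, hκ, V, fun k => v k ≫ p, fun k => v k ≫ q, hV, fun Z z z₀ => ?_⟩
  obtain ⟨L, rfl, rfl⟩ := huniv Z z z₀
  refine ⟨_, (etTop X.obj).pullback_stable L (AlgSp.ofArrows_mem_etTop V v hv), fun Z' g' hg => ?_⟩
  obtain ⟨k, l, hl⟩ := Sieve.mem_ofArrows_iff .. |>.1 hg
  exact ⟨k, l, by rw [← Category.assoc, ← hl, Category.assoc], by rw [← Category.assoc, ← hl, Category.assoc]⟩

/-- The sections whose pullbacks to the atlas lie in the span of given sections. -/
noncomputable def unionSub (M : ModEt X.obj) (N : Submodule (gr E₀) (sectModEt M E₀)) (W : EtOver X.obj) :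
    Submodule (gr W) (sectModEt M W) where
  carrier := {n | ∀ (V : EtOver X.obj) (a : V ⟶ W) (c : V ⟶ E₀), IsAffine V.obj.left.left →
    rs M a n ∈ Submodule.span (gr V) (rs M c '' (N : Set (sectModEt M E₀)))}
  add_mem' hm hn V a c hV := by rw [map_add]; exact Submodule.add_mem _ (hm V a c hV) (hn V a c hV)
  zero_mem' V a c hV := by rw [map_zero]; exact Submodule.zero_mem _
  smul_mem' r m hm V a c hV := by rw [rs_smul]; exact Submodule.smul_mem _ _ (hm V a c hV)

theorem rs_mem_unionSub (N : Submodule (gr E₀) (sectModEt M E₀)) {E E' : EtOver X.obj} (g : E' ⟶ E) :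
    ∀ m ∈ unionSub M N E, rs M g m ∈ unionSub M N E' := fun m hm V a c hV => by
  rw [← rs_comp]
  exact hm V (a ≫ g) c hV

theorem rs_mem_span_trans (N : Submodule (gr E₀) (sectModEt M E₀)) {V V' : EtOver X.obj} (c : V ⟶ E₀) (l : V' ⟶ V)
    {x : sectModEt M V} (hx : x ∈ Submodule.span (gr V) (rs M c '' (N : Set (sectModEt M E₀)))) :
    rs M l x ∈ Submodule.span (gr V') (rs M (l ≫ c) '' (N : Set (sectModEt M E₀))) := by
  induction hx using Submodule.span_induction with
  | mem x hx =>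
    obtain ⟨e, he, rfl⟩ := hx
    exact Submodule.subset_span ⟨e, he, rs_comp c l e⟩
  | zero => rw [map_zero]; exact Submodule.zero_mem _
  | add p q _ _ hp hq => rw [map_add]; exact Submodule.add_mem _ hp hq
  | smul r p _ hp => rw [rs_smul]; exact Submodule.smul_mem _ _ hp

theorem rs_mem_span_image (N : Submodule (gr E₀) (sectModEt M E₀)) {V V' : EtOver X.obj} (c : V ⟶ E₀) (l : V' ⟶ V)
    {x : sectModEt M V'} (hx : x ∈ Submodule.span (gr V') (rs M (l ≫ c) '' (N : Set (sectModEt M E₀)))) :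
    x ∈ Submodule.span (gr V') (rs M l '' (Submodule.span (gr V) (rs M c '' (N : Set (sectModEt M E₀))) :
      Set (sectModEt M V))) := by
  refine Submodule.span_mono ?_ hx
  rintro _ ⟨e, he, rfl⟩
  exact ⟨rs M c e, Submodule.subset_span ⟨e, he, rfl⟩, (rs_comp c l e).symm⟩

theorem mem_span_of_cover [M.IsQuasicoherent] (N : Submodule (gr E₀) (sectModEt M E₀)) {V : EtOver X.obj}
    [IsAffine V.obj.left.left] (c : V ⟶ E₀) (x : sectModEt M V) {T : Sieve V} (hT : T ∈ etTop X.obj V)
    (h : ∀ (V' : EtOver X.obj) (l : V' ⟶ V), IsAffine V'.obj.left.left → T l →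
      rs M l x ∈ Submodule.span (gr V') (rs M (l ≫ c) '' (N : Set (sectModEt M E₀)))) :
    x ∈ Submodule.span (gr V) (rs M c '' (N : Set (sectModEt M E₀))) := by
  obtain ⟨κ, _, W, f, hW, hTf, hf⟩ := exists_affine_family hT
  refine mem_of_local _ (AlgSp.ofArrows_mem_etTop W f hf) fun Z g hg => ?_
  obtain ⟨k, α, rfl⟩ := Sieve.mem_ofArrows_iff .. |>.1 hg
  refine rs_mem_span_image N c (α ≫ f k) ?_
  rw [rs_comp, Category.assoc]
  exact rs_mem_span_trans N (f k ≫ c) α (h _ (f k) (hW k) (hTf k))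

theorem mem_unionSub_of_local [M.IsQuasicoherent] (N : Submodule (gr E₀) (sectModEt M E₀)) (E : EtOver X.obj)
    (T : Sieve E) (hT : T ∈ etTop X.obj E) (m : sectModEt M E)
    (h : ∀ (V : EtOver X.obj) (f : V ⟶ E), T f → rs M f m ∈ unionSub M N V) : m ∈ unionSub M N E := by
  intro V a c hV
  refine mem_span_of_cover N c _ ((etTop X.obj).pullback_stable a hT) fun V' l hV' hl => ?_
  have := h V' (l ≫ a) hl V' (𝟙 V') (l ≫ c) hV'
  rwa [rs_id, rs_comp] at this

/-- Membership can be tested on a finite cover of the product with the atlas. -/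
theorem mem_unionSub_iff [M.IsQuasicoherent] (N : Submodule (gr E₀) (sectModEt M E₀)) {E : EtOver X.obj} {κ : Type u}
    {V : κ → EtOver X.obj} (a : ∀ k, V k ⟶ E) (c : ∀ k, V k ⟶ E₀) (hV : ∀ k, IsAffine (V k).obj.left.left)
    (huniv : ∀ (Z : EtOver X.obj) (z : Z ⟶ E) (z₀ : Z ⟶ E₀),
        ∃ T ∈ etTop X.obj Z, ∀ (Z' : EtOver X.obj) (g : Z' ⟶ Z), T g →
          ∃ (k : κ) (l : Z' ⟶ V k), l ≫ a k = g ≫ z ∧ l ≫ c k = g ≫ z₀) (n : sectModEt M E) :
    n ∈ unionSub M N E ↔ ∀ k, rs M (a k) n ∈ Submodule.span (gr (V k)) (rs M (c k) '' (N : Set (sectModEt M E₀))) := by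
  refine ⟨fun h k => h _ _ _ (hV k), fun h Z z z₀ hZ => ?_⟩
  obtain ⟨T, hT, hT'⟩ := huniv Z z z₀
  refine mem_span_of_cover N z₀ _ hT fun Z' g hZ' hg => ?_
  obtain ⟨k, l, hla, hlc⟩ := hT' Z' g hg
  rw [← rs_comp, ← hla, ← hlc, rs_comp]
  exact rs_mem_span_trans N (c k) l (h k)

/-- Flat base change commutes with simultaneous preimages of submodules. -/
theorem mem_span_of_flat_preimage {A B : Type u} [CommRing A] [CommRing B] [Algebra A B] [Module.Flat A B]
    {N L : Type (u + 1)} [AddCommGroup N] [Module A N] [AddCommGroup L] [Module B L] (φ : N →+ L)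
    (hφ : ∀ a n, φ (a • n) = algebraMap A B a • φ n) {ι : Type u} [Finite ι]
    {P : ι → Type (u + 1)} [∀ i, AddCommGroup (P i)] [∀ i, Module A (P i)] (η : ∀ i, N →ₗ[A] P i)
    (Q : ∀ i, Submodule A (P i)) {x : B ⊗[A] N}
    (hx : ∀ i, LinearMap.lTensor B (η i) x ∈ LinearMap.range (LinearMap.lTensor B (Q i).subtype)) :
    bc φ hφ x ∈ Submodule.span B (φ '' {n | ∀ i, η i n ∈ Q i}) := by
  classical
  have := Fintype.ofFinite ι
  let δ : N →ₗ[A] ∀ i, P i ⧸ Q i := LinearMap.pi fun i => (Q i).mkQ ∘ₗ η i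
  have e : ∀ y, TensorProduct.piRight A A B (fun i => P i ⧸ Q i) (LinearMap.lTensor B δ y) =
      fun i => LinearMap.lTensor B (Q i).mkQ (LinearMap.lTensor B (η i) y) := fun y => by
    induction y using TensorProduct.induction_on with
    | zero => funext i; simp
    | add p q hp hq =>
      rw [map_add, map_add, hp, hq]
      funext i
      simp
    | tmul w n =>
      funext i
      simp [δ]
  have h0 : LinearMap.lTensor B δ x = 0 := by
    refine (TensorProduct.piRight A A B (fun i => P i ⧸ Q i)).injective ?_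
    rw [e, map_zero]
    funext i
    obtain ⟨y, hy⟩ := hx i
    rw [← hy, ← LinearMap.lTensor_comp_apply, show (Q i).mkQ ∘ₗ (Q i).subtype = 0 from
      LinearMap.ext fun z => (Submodule.Quotient.mk_eq_zero _).2 z.2]
    simp
  obtain ⟨y, rfl⟩ := (Module.Flat.lTensor_exact B (LinearMap.exact_subtype_ker_map δ) x).1 h0
  clear hx h0
  induction y using TensorProduct.induction_on with
  | zero => simp
  | add p q hp hq => rw [map_add, map_add]; exact Submodule.add_mem _ hp hq
  | tmul w n =>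
    rw [LinearMap.lTensor_tmul, bc_tmul]
    exact Submodule.smul_mem _ _ (Submodule.subset_span
      ⟨n.1, fun i => (Submodule.Quotient.mk_eq_zero _).1 (congrFun (LinearMap.mem_ker.1 n.2) i), rfl⟩)

/-- Over a pushout the span of the image of a submodule comes from the base change of the submodule. -/
theorem span_image_le_range {A B B' W : Type u} [CommRing A] [CommRing B] [CommRing B'] [CommRing W] [Algebra A B]
    [Algebra A B'] [Algebra A W] [Algebra B W] [Algebra B' W] [IsScalarTower A B W] [IsScalarTower A B' W]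
    [Algebra.IsPushout A B B' W] {P L : Type (u + 1)} [AddCommGroup P] [Module A P] [Module B' P]
    [IsScalarTower A B' P] [AddCommGroup L] [Module W L] (Φ : B ⊗[A] P →+ L) (ρ : P →+ L)
    (hΦ : ∀ u n, Φ (u ⊗ₜ n) = algebraMap B W u • ρ n) (hρ : ∀ b n, ρ (b • n) = algebraMap B' W b • ρ n)
    (Q : Submodule B' P) {x : L} (hx : x ∈ Submodule.span W (ρ '' (Q : Set P))) :
    ∃ z : B ⊗[A] (Q.restrictScalars A), Φ (LinearMap.lTensor B (Q.restrictScalars A).subtype z) = x := by
  induction hx using Submodule.span_induction with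
  | mem x hx =>
    obtain ⟨n, hn, rfl⟩ := hx
    exact ⟨1 ⊗ₜ ⟨n, hn⟩, by rw [LinearMap.lTensor_tmul, hΦ, map_one, one_smul]; rfl⟩
  | zero => exact ⟨0, by rw [map_zero, map_zero]⟩
  | add p q _ _ hp hq =>
    obtain ⟨z, rfl⟩ := hp
    obtain ⟨z', rfl⟩ := hq
    exact ⟨z + z', by rw [map_add, map_add]⟩
  | smul r p hp' hp =>
    obtain ⟨y, rfl⟩ := hp
    clear hp'
    obtain ⟨t, rfl⟩ := (Algebra.IsPushout.equiv A B B' W).surjective r
    induction t using TensorProduct.induction_on with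
    | zero => exact ⟨0, by rw [map_zero, map_zero, map_zero, zero_smul]⟩
    | add t t' ht ht' =>
      obtain ⟨z, hz⟩ := ht
      obtain ⟨z', hz'⟩ := ht'
      exact ⟨z + z', by rw [map_add, map_add, hz, hz', map_add, add_smul]⟩
    | tmul b b' =>
      rw [Algebra.IsPushout.equiv_tmul]
      induction y using TensorProduct.induction_on with
      | zero => exact ⟨0, by rw [map_zero, map_zero, smul_zero]⟩
      | add y y' hy hy' =>
        obtain ⟨z, hz⟩ := hy
        obtain ⟨z', hz'⟩ := hy'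
        exact ⟨z + z', by rw [map_add, map_add, hz, hz', map_add, map_add, smul_add]⟩
      | tmul w n =>
        refine ⟨(b * w) ⊗ₜ ⟨b' • n.1, Q.smul_mem b' n.2⟩, ?_⟩
        rw [LinearMap.lTensor_tmul, LinearMap.lTensor_tmul, hΦ, hΦ]
        simp only [Submodule.subtype_apply]
        rw [hρ, ← mul_smul, ← mul_smul, map_mul, mul_right_comm]

end Groth.Agent.AlgSpQC
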