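import Groth.Agent.AlgSpQC.WeakAss
import Groth.Agent.AlgSpQC.Finite
import Mathlib.RingTheory.Ideal.AssociatedPrime.Finiteness

/-!
# Finiteness of weakly associated points
-/

universe u v

open CategoryTheory CategoryTheory.Limits AlgebraicGeometry Opposite

set_option backward.isDefEq.respectTransparency false
set_option autoImplicit false

namespace Groth.Agent.AlgSpQC

open _root_.AlgSp

variable {S : Scheme.{u}} {X : Space S} {M : ModEt X.obj}

theorem weakAss_finite {R : Type u} {N : Type v} [CommRing R] [IsNoetherianRing R] [AddCommGroup N]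
    [Module R N] [Module.Finite R N] : (FlatCA.weakAss R N).Finite := by
  refine (associatedPrimes.finite R N).subset fun p hp => ?_
  have := WeakAss.isPrime_of_mem hp
  obtain ⟨-, m, hm⟩ := WeakAss.mem_ass_of_fg (IsNoetherian.noetherian p) hp
  exact ⟨this, m, by rw [Submodule.colon_span.symm.trans (Submodule.bot_colon (N := Submodule.span R {m})), ← hm, this.radical]⟩

theorem primeAtPt_injective {U : Scheme.{u}} [IsAffine U] : Function.Injective (primeAtPt U) := by
  intro u v h
  rw [primeAtPt_eq, primeAtPt_eq] at h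
  have := (isAffineOpen_top U).fromSpec_primeIdealOf ⟨u, trivial⟩
  rw [PrimeSpectrum.ext h, IsAffineOpen.fromSpec_primeIdealOf] at this
  exact this.symm

/-- Weakly associated points on one affine chart are finite in number. -/
theorem finite_weakAssEt_inter_range (hX : IsLocNoethSp X.obj) [M.IsQuasicoherent] [M.IsFiniteType]
    (E : EtOver X.obj) [IsAffine E.obj.left.left] :
    (WeakAssEt M ∩ Set.range (Points.ofPt E.obj.hom)).Finite := by
  have := isNoetherianRing_gr hX E
  have := finite_sections (M := M) E
  refine (((weakAss_finite (R := gr E) (N := sectModEt M E)).preimage primeAtPt_injective.injOn).image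
    (Points.ofPt E.obj.hom)).subset ?_
  rintro _ ⟨hx, u, rfl⟩
  exact ⟨u, (mem_weakAssEt_iff E u).1 hx, rfl⟩

theorem finite_weakAssEt_inter (hX : IsLocNoethSp X.obj) [M.IsQuasicoherent] [M.IsFiniteType]
    (W : Set (Points X.obj)) (hWc : IsCompact W) : (WeakAssEt M ∩ W).Finite := by
  choose E hE u hu using fun x => exists_affine_etOver X x
  obtain ⟨t, ht⟩ := hWc.elim_finite_subcover (fun x => Set.range (Points.ofPt (E x).obj.hom))
    (fun x => (AlgSpB.isOpenMap_ofPt (E x).property).isOpen_range) fun x _ => Set.mem_iUnion.2 ⟨x, u x, hu x⟩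
  refine ((t.finite_toSet.biUnion fun x _ => (have := hE x; finite_weakAssEt_inter_range hX (E x) (M := M)))).subset ?_
  rintro x ⟨hx, hxW⟩
  obtain ⟨y, hy, hxy⟩ := Set.mem_iUnion₂.1 (ht hxW)
  exact Set.mem_iUnion₂.2 ⟨y, hy, hx, hxy⟩

end Groth.Agent.AlgSpQC
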