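import Groth.Agent.AlgSpQC.PullUniv
import Groth.Agent.AlgSpQC.WeakAssPushEt

/-!
# Weakly associated points of inverse images along finite flat morphisms
-/

universe u

open CategoryTheory CategoryTheory.Limits AlgebraicGeometry Opposite TensorProduct

set_option backward.isDefEq.respectTransparency false
set_option backward.isDefEq.respectTransparency.types false
set_option autoImplicit false

namespace Groth.Agent.AlgSpQC

open _root_.AlgSp

variable {S : Scheme.{u}} {X Y : Space S} {f : X ⟶ Y} {hf : Representable f.hom} {G : ModEt Y.obj}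
  [G.IsQuasicoherent]

theorem flat_gπ (hflat : LocP @Flat f.hom) (E : EtOver Y.obj) [IsAffine E.obj.left.left]
    [IsAffine (bcO hf E).obj.left.left] : (gπ hf E).Flat := by
  have : Flat (EtOver.bcπ hf E).left :=
    hflat (bcO hf E).obj.hom E.obj.hom (EtOver.bcπ hf E) (bcO hf E).property E.property
      (EtOver.isPullback_bcObj hf E).w
  have : IsAffine (EtOver.bcObj hf E).obj.left.left := ‹IsAffine (bcO hf E).obj.left.left›
  exact (HasRingHomProperty.iff_of_isAffine (P := @Flat)).1 ‹Flat (EtOver.bcπ hf E).left›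

theorem mem_weakAssEt_pullQC_iff (hfin : IsFiniteMor f.hom) (hflat : LocP @Flat f.hom) (x : Points X.obj) :
    x ∈ WeakAssEt (pullQC hf G) ↔ Points.map f.hom x ∈ WeakAssEt G := by
  have := isQuasicoherent_pullQC hf G
  obtain ⟨E, hE, u, hu⟩ := exists_affine_etOver Y (Points.map f.hom x)
  have := isAffine_bcO_and_map (hf := hf) (isAffineMor_of_isFiniteMor hfin) E
  obtain ⟨w, hw, hwu⟩ := exists_lift_point (hf := hf) x E u hu
  rw [← hw, mem_weakAssEt_iff, hw, ← hu, mem_weakAssEt_iff]
  let _ : Algebra (gr E) (gr (bcO hf E)) := (gπ hf E).toAlgebra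
  have : Module.Finite (gr E) (gr (bcO hf E)) := finite_gπ hfin E
  have : Module.Flat (gr E) (gr (bcO hf E)) := flat_gπ hflat E
  have : (primeAtPt E.obj.left.left u).IsPrime := inferInstance
  have : (primeAtPt (bcO hf E).obj.left.left w).LiesOver (primeAtPt E.obj.left.left u) :=
    ⟨by rw [← hwu]; exact (primeAtPt_comap (EtOver.bcπ hf E).left w).symm⟩
  rw [← WeakAssEtale.mem_iff_of_finite (M := sectModEt G E) (B := gr (bcO hf E))
    (primeAtPt E.obj.left.left u) (primeAtPt (bcO hf E).obj.left.left w)]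
  let h : bcO hf E ⟶ bcO hf E := 𝟙 _
  obtain ⟨Φ, hΦ⟩ := exists_lift (G := G) (h := h) (L := gr (bcO hf E) ⊗[gr E] sectModEt G E)
    (fun r n => r ⊗ₜ[gr E] n) (fun r r' n => TensorProduct.add_tmul _ _ _)
    (fun r n n' => TensorProduct.tmul_add _ _ _) fun a r n => TensorProduct.smul_tmul a r n
  have hΦs : ∀ (a : gr (bcO hf E)) (z : PT G h), Φ (a • z) = a • Φ z := fun a z => by
    induction z using PT.induction with
    | zero => simp only [smul_zero, map_zero]
    | tm r n => rw [smul_tm, hΦ, hΦ]; rfl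
    | add x y hx hy => simp only [smul_add, map_add, hx, hy]
  have hΦb : Function.Bijective Φ := by
    refine Function.bijective_iff_has_inverse.2
      ⟨TensorProduct.liftAddHom (AddMonoidHom.mk' (fun r => AddMonoidHom.mk' (tm h r) (tm_add_right r))
        (fun r r' => AddMonoidHom.ext (tm_add r r'))) (fun a r n => tm_smul a r n), fun z => ?_, fun z => ?_⟩
    · induction z using PT.induction with
      | zero => simp only [map_zero]
      | tm r n => rw [hΦ]; rfl
      | add x y hx hy => simp only [map_add, hx, hy]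
    · induction z using TensorProduct.induction_on with
      | zero => simp only [map_zero]
      | tmul r n => exact hΦ r n
      | add x y hx hy => simp only [map_add, hx, hy]
  let e₁ : PT G h ≃ₗ[gr (bcO hf E)] gr (bcO hf E) ⊗[gr E] sectModEt G E :=
    LinearEquiv.ofBijective { __ := Φ, map_smul' := hΦs } hΦb
  let e₂ : sectModEt (pullQC hf G) (bcO hf E) ≃ₗ[gr (bcO hf E)] PT G h :=
    LinearEquiv.ofBijective { __ := pullEv G h, map_smul' := pullEv_smul h } (bijective_pullEv h)
  exact ⟨fun H => WeakAss.weakAss_mono (f := (e₂.trans e₁).toLinearMap) (e₂.trans e₁).injective H,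
    fun H => WeakAss.weakAss_mono (f := (e₂.trans e₁).symm.toLinearMap) (e₂.trans e₁).symm.injective H⟩

theorem mem_weakAssEt_pullModEt_iff [(SheafOfModules.pushforward.{u + 1} (bcRingHom hf)).IsRightAdjoint]
    (hfin : IsFiniteMor f.hom) (hflat : LocP @Flat f.hom) (x : Points X.obj) :
    x ∈ WeakAssEt ((pullModEt hf).obj G) ↔ Points.map f.hom x ∈ WeakAssEt G := by
  rw [← mem_weakAssEt_pullQC_iff (hf := hf) hfin hflat]
  obtain ⟨e⟩ := nonempty_iso_pullQC hf G
  have key : ∀ {M N : ModEt X.obj} (φ : M ≅ N), x ∈ WeakAssEt M → x ∈ WeakAssEt N := by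
    rintro M N φ ⟨E, hE, u, hu, h⟩
    refine ⟨E, hE, u, hu, (isWeakAssOn_iff E u).2 ?_⟩
    refine WeakAss.weakAss_mono (f := hs φ.hom E) ?_ ((isWeakAssOn_iff E u).1 h)
    exact hs_injective φ.hom E
  exact ⟨key e, key e.symm⟩

end Groth.Agent.AlgSpQC
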