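import Groth.Agent.AlgSpQC.WeakAss
import Groth.Agent.AlgSpQC.Hom
import Groth.Agent.AlgSp.SchImageRep
import Mathlib.RingTheory.Ideal.Height
import Mathlib.RingTheory.KrullDimension.Basic

/-!
# Weakly associated points of the structure sheaf
-/

universe u

open CategoryTheory CategoryTheory.Limits AlgebraicGeometry Opposite

set_option backward.isDefEq.respectTransparency false
set_option backward.isDefEq.respectTransparency.types false
set_option autoImplicit false

namespace Groth.Agent.AlgSpQC

open _root_.AlgSp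

variable {S : Scheme.{u}} {X : Space S}

/-- Functions as sections of the structure sheaf. -/
noncomputable def unitSect (E : EtOver X.obj) : gr E →ₗ[gr E] sectModEt (unitModEt X.obj) E where
  toFun a := upΓ E a
  map_add' := map_add (upΓ E)
  map_smul' a b := map_mul (upΓ E) a b

theorem weakAss_unit_eq (E : EtOver X.obj) :
    FlatCA.weakAss (gr E) (sectModEt (unitModEt X.obj) E) = FlatCA.weakAss (gr E) (gr E) := by
  have hbij : Function.Bijective (unitSect E) := ⟨fun a b h => congrArg ULift.down h, fun a => ⟨ULift.down a, rfl⟩⟩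
  let e := LinearEquiv.ofBijective (unitSect E) hbij
  exact (WeakAss.weakAss_mono (f := e.symm.toLinearMap) e.symm.injective).antisymm
    (WeakAss.weakAss_mono (f := e.toLinearMap) e.injective)

theorem ringKrullDim_stalk_eq_zero_iff {U : Scheme.{u}} [IsAffine U] (u : U) :
    ringKrullDim (U.presheaf.stalk u) = 0 ↔ primeAtPt U u ∈ minimalPrimes Γ(U, ⊤) := by
  let h := isAffineOpen_top U
  let x : (⊤ : U.Opens) := ⟨u, trivial⟩
  let _ : Algebra Γ(U, ⊤) (U.presheaf.stalk u) := TopCat.Presheaf.algebra_section_stalk U.presheaf x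
  have : IsLocalization.AtPrime (U.presheaf.stalk u) (h.primeIdealOf x).asIdeal := h.isLocalization_stalk x
  rw [IsLocalization.AtPrime.ringKrullDim_eq_height (h.primeIdealOf x).asIdeal, primeAtPt_eq,
    ← Ideal.height_eq_zero_iff]
  exact WithBot.coe_eq_zero

theorem mem_weakAssEt_unit_iff (hX : IsReducedSp X.obj) [(unitModEt X.obj).IsQuasicoherent] (x : Points X.obj) :
    x ∈ WeakAssEt (unitModEt X.obj) ↔ HasAt (fun U u => ringKrullDim (U.presheaf.stalk u) = 0) X.obj x := by
  have key : ∀ (E : EtOver X.obj) [IsAffine E.obj.left.left] (u : E.obj.left.left),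
      Points.ofPt E.obj.hom u ∈ WeakAssEt (unitModEt X.obj) ↔
        ringKrullDim (E.obj.left.left.presheaf.stalk u) = 0 := fun E _ u => by
    have := Groth.Agent.AlgSp.SchImageRep.isReduced_chart X.property hX E.obj.hom E.property
    rw [mem_weakAssEt_iff, weakAss_unit_eq, WeakAss.weakAss_self_of_isReduced, ringKrullDim_stalk_eq_zero_iff]
  constructor
  · rintro ⟨E, hE, u, rfl, h⟩
    exact ⟨E.obj.left, E.obj.hom, u, E.property, rfl, (key E u).1 ⟨E, hE, u, rfl, h⟩⟩
  · rintro ⟨U, a, u, ha, rfl, hu⟩
    obtain ⟨W, hW, huW, -⟩ := exists_isAffineOpen_mem_and_subset (x := u) (U := ⊤) trivial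
    let E : EtOver X.obj := EtOver.mk _ (AlgSpD.repWith_etale_restrict a ha W)
    have : IsAffine E.obj.left.left := hW
    have e : Points.ofPt E.obj.hom (⟨u, huW⟩ : ↥W) = Points.ofPt a u := AlgSpD.ofPt_restrict a W ⟨u, huW⟩
    rw [← e]
    refine (key E _).2 ((ringKrullDim_eq_of_ringEquiv ?_).trans hu)
    exact (W.stalkIso ⟨u, huW⟩).commRingCatIsoToRingEquiv

end Groth.Agent.AlgSpQC
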