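import Groth.Agent.AlgSpQC.WeakAss

/-!
# Sections vanishing near weakly associated points vanish
-/

universe u

open CategoryTheory CategoryTheory.Limits AlgebraicGeometry Opposite TensorProduct

set_option backward.isDefEq.respectTransparency false
set_option autoImplicit false

namespace Groth.Agent.AlgSpQC

open _root_.AlgSp

variable {S : Scheme.{u}} {X : Sp S} {M : ModEt X}

/-- A section vanishing on a chart whose point lies over a prime containing the annihilator cannot exist. -/
theorem rs_ne_zero_of_annSect_le [M.IsQuasicoherent] {E W : EtOver X} [IsAffine E.obj.left.left]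
    [IsAffine W.obj.left.left] (a : W ⟶ E) (w : W.obj.left.left) {m : sectModEt M E}
    (hm : annSect m ≤ primeAtPt E.obj.left.left (a.hom.left.left w)) : rs M a m ≠ 0 := by
  intro h0
  let _ := (gm a).toAlgebra
  have : Module.Flat (gr E) (gr W) := flat_gm a
  have hb := (isBC_iff (A := gr E) (rs M a) (rs_smul a)).1 (bc_of_pres (pres_id M E) a)
  have h1 : (1 : gr W) • ((1 : gr W) ⊗ₜ[gr E] m) = 0 := hb.1 (by
    rw [map_smul, bc_tmul, one_smul, one_smul, map_zero, h0])
  have h2 := WeakAssEtale.ann_one_tmul m 1 h1
  refine (isPrime_primeAtPt W.obj.left.left w).one_notMem ((Ideal.map_le_iff_le_comap.2 ?_) h2)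
  rw [← annSect_eq_annihilator]
  refine hm.trans ?_
  rw [← primeAtPt_comap a.hom.left.left w]
  rfl

/-- Global sections agreeing on a chart covering all weakly associated points agree. -/
theorem sections_injective [M.IsQuasicoherent] (E : EtOver X)
    (hE : WeakAssEt M ⊆ Set.range (Points.ofPt E.obj.hom)) :
    Function.Injective (fun s : M.sections => PresheafOfModules.sections.eval s (op E)) := by
  intro s t hst
  have key : ∀ E' : EtOver X, IsAffine E'.obj.left.left →
      (s.val (op E') : sectModEt M E') - t.val (op E') = 0 := fun E' hE' => by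
    by_contra hm
    obtain ⟨u, hu, hann⟩ := exists_mem_weakAssEt hm
    obtain ⟨v, hv⟩ := hE hu
    obtain ⟨W, a, b, w, hW, rfl, -⟩ := exists_common_affine hv.symm
    refine rs_ne_zero_of_annSect_le a w hann ?_
    rw [map_sub, sub_eq_zero]
    exact ((PresheafOfModules.sections_property s a.op).trans
      (((PresheafOfModules.sections_property s b.op).symm.trans
        ((congrArg (rs M b) hst).trans (PresheafOfModules.sections_property t b.op))).trans
      (PresheafOfModules.sections_property t a.op).symm))
  refine PresheafOfModules.sections_ext _ _ fun ⟨E'⟩ => ?_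
  refine sub_eq_zero.1 ?_
  refine eq_zero_of_affine (E := E') fun W b hW => ?_
  rw [map_sub]
  exact (congrArg₂ (· - ·) (PresheafOfModules.sections_property s b.op)
    (PresheafOfModules.sections_property t b.op)).trans (key W hW)

end Groth.Agent.AlgSpQC
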